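import Cfsg.Agent.OddHalf.Known
import Cfsg.Prelude.Def_Spor_M
import Cfsg.Agent.MinSimple.Basic
import Cfsg.Agent.ZN.Map
import Cfsg.Agent.GH.Defs
import Cfsg.Agent.GH.AltOut
import Cfsg.Prelude.Def_Spor_J1

section


/-!
# The classification from the odd half, the even half and the theorem on sectional 2-rank at most 4

`EvenHalf` : K-proper simple groups of characteristic 2 type and sectional 2-rank at least 5 are known.
`OddHalf` : the text of S1765.  `RankFour` : simple groups of sectional 2-rank at most 4 are known.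
`classification` : the three together give the classification (minimal counterexample).
-/

set_option autoImplicit false

namespace Cfsg.Agent.Omega.Assembly

open Cfsg

universe u

/-- **The even half.** -/
def EvenHalf : Prop :=
  ∀ (G : Type u) [Group G] [Finite G] [IsSimpleGroup G], ¬ IsMulCommutative G → IsKProper G →
    IsCharacteristicTwoType G → ¬ SectionalPRankLE 2 4 G → IsKnownSimple' G

/-- **Sectional 2-rank at most 4**, inside a K-proper group of characteristic 2 type. -/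
def RankFour : Prop :=
  ∀ (G : Type u) [Group G] [Finite G] [IsSimpleGroup G], ¬ IsMulCommutative G → IsKProper G →
    IsCharacteristicTwoType G → SectionalPRankLE 2 4 G → IsKnownSimple' G

/-- **The odd half** (consequence of S1765). -/
def OddKnown : Prop :=
  ∀ (G : Type u) [Group G] [Finite G] [IsSimpleGroup G], ¬ IsMulCommutative G → IsKProper G →
    ¬ IsCharacteristicTwoType G → IsKnownSimple' G

/-- The conclusion of S1765. -/
def OddConcl (G : Type u) [Group G] : Prop :=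
    ((∃ p : ℕ, p.Prime ∧ p ≠ 2 ∧ Cfsg.IsLieTypeChar p G) ∧
        ¬ (∃ (F : Type) (_ : Field F) (_ : Fintype F), ((Fintype.card F).Prime ∧ ((∃ k : ℕ, Fintype.card F + 1 = 2 ^ k) ∨ (∃ k : ℕ, Fintype.card F = 2 ^ k + 1)) ∨ Fintype.card F = 9) ∧
          Nonempty (G ≃* Matrix.ProjectiveSpecialLinearGroup (Fin 2) F)) ∧
        ¬ (∃ (F : Type) (_ : Field F) (_ : Fintype F), Fintype.card F = 3 ∧
          (Nonempty (G ≃* Matrix.ProjectiveSpecialLinearGroup (Fin 3) F) ∨ Nonempty (G ≃* Cfsg.PSp 2 F) ∨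
            Nonempty (G ≃* ↥(Cfsg.Lie.chevG2.group F)))) ∧
        ¬ (∃ (F : Type) (_ : Field F) (_ : Fintype F), Fintype.card F = 9 ∧ (Nonempty (G ≃* Cfsg.PSU 3 F 3) ∨ Nonempty (G ≃* Cfsg.PSU 4 F 3)))) ∨
      (∃ n : ℕ, (n = 7 ∨ 9 ≤ n) ∧ Nonempty (G ≃* ↥(alternatingGroup (Fin n)))) ∨
      Cfsg.Spor.IsoM12 G ∨ Cfsg.Spor.IsoJ1 G ∨ Cfsg.Spor.IsoJ2 G ∨ Cfsg.Spor.IsoMcL G ∨ Cfsg.Spor.IsoLy G ∨ Cfsg.Spor.IsoHS G ∨ Cfsg.Spor.IsoHe G ∨ Cfsg.Spor.IsoON G ∨ Cfsg.Spor.IsoSuz G ∨ Cfsg.Spor.IsoRu G ∨ Cfsg.Spor.IsoCo3 G ∨ Cfsg.Spor.IsoCo1 G ∨ Cfsg.Spor.IsoFi22 G ∨ Cfsg.Spor.IsoFi23 G ∨ Cfsg.Spor.IsoFi24' G ∨ Cfsg.Spor.IsoHN G ∨ Cfsg.Spor.IsoB G ∨ Cfsg.Spor.IsoM G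

theorem known_of_sporadic {G : Type u} [Group G] (h : IsSporadicGroup G) : IsKnownSimple' G := by
  unfold IsKnownSimple'
  tauto

/-- The conclusion of S1765 is on the list. -/
theorem OddConcl.known {G : Type u} [Group G] (h : OddConcl G) : IsKnownSimple' G := by
  rcases h with ⟨⟨p, -, -, h⟩, -⟩ | ⟨n, hn, h⟩ | h
  · exact OddHalf.Known.known_of_isLie h
  · exact Or.inr (Or.inl ⟨n, by omega, h⟩)
  · apply known_of_sporadic
    unfold IsSporadicGroup
    tauto

/-- The literal S1765 as a proposition. -/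
def OddLit : Prop :=
  ∀ (G : Type u) [Group G] [Finite G] [IsSimpleGroup G], ¬ IsMulCommutative G → IsKProper G →
    ¬ IsCharacteristicTwoType G → OddConcl G

theorem oddKnown (h : OddLit.{u}) : OddKnown.{u} := fun G _ _ _ h1 h2 h3 => (h G h1 h2 h3).known

/-- A simple section of a proper subgroup is smaller than the group. -/
theorem isKProper_of_lt {G : Type u} [Group G] [Finite G]
    (ih : ∀ (X : Type u) [Group X] [Finite X], IsSimpleGroup X → ¬ IsMulCommutative X →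
      Nat.card X < Nat.card G → IsKnownSimple' X) : IsKProper G := by
  intro H hH K N _ hs hc
  have h1 : Nat.card (K ⧸ N) ≤ Nat.card K := by
    rw [← Subgroup.index_eq_card]
    exact Nat.le_of_dvd Nat.card_pos N.index_dvd_card
  have h2 : Nat.card K ≤ Nat.card H := Subgroup.card_le_card_group K
  have h3 : Nat.card H < Nat.card G := by
    refine lt_of_le_of_ne (Subgroup.card_le_card_group H) fun h => hH ?_
    exact Subgroup.eq_top_of_card_eq H h
  exact ih (K ⧸ N) hs hc (lt_of_le_of_lt (h1.trans h2) h3)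

/-- **The classification of the finite simple groups from its three parts.** -/
theorem classification_aux (hO : OddKnown.{u}) (hR : RankFour.{u}) (hE : EvenHalf.{u}) :
    ∀ (n : ℕ) (G : Type u) [Group G] [Finite G], IsSimpleGroup G → ¬ IsMulCommutative G →
      Nat.card G = n → IsKnownSimple' G := by
  intro n
  induction n using Nat.strong_induction_on with
  | _ n ih =>
    intro G _ _ hs hc hn
    have hK : IsKProper G := isKProper_of_lt fun X _ _ h1 h2 h3 => ih _ (hn ▸ h3) X h1 h2 rfl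
    have := hs
    by_cases h2 : IsCharacteristicTwoType G
    · by_cases h4 : SectionalPRankLE 2 4 G
      · exact hR G hc hK h2 h4
      · exact hE G hc hK h2 h4
    · exact hO G hc hK h2

/-- **The classification of the finite simple groups** from the odd half, the even half and the theorem
on sectional 2-rank at most 4. -/
theorem classification (hO : OddKnown.{u}) (hR : RankFour.{u}) (hE : EvenHalf.{u}) (G : Type u) [Group G]
    [Finite G] [IsSimpleGroup G] : IsKnownSimple' G := by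
  by_cases hc : IsMulCommutative G
  · left
    have : IsMulCommutative G := hc
    let _ : CommGroup G := { (inferInstance : Group G) with mul_comm := fun a b => mul_comm' a b }
    exact IsSimpleGroup.prime_card
  · exact classification_aux hO hR hE _ G inferInstance hc rfl

end Cfsg.Agent.Omega.Assembly

end

section


/-!
# Overgroups of a Sylow 2-subgroup (project OMEGA, EH9)

`S` is a (Sylow 2-)subgroup of `G`; everything is a subgroup of `G`; `o2`, `zc`, `zl`, `jj` are those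
of `Cfsg.Agent.ZN.Defs`, "`X` has characteristic 2" is written `X ⊓ centralizer (o2 X) ≤ o2 X`.

* `IsLoc S L` : `L ∈ L(S)`, i.e. `S ≤ L` and `O₂(L) ≠ 1`;
* `IsMaxLoc S M` : `M ∈ M(S)`, a maximal member of `L(S)`;
* `IsPar S P` : `P ∈ P(S)`, a minimal parabolic `P ∈ L(S)` (`S` not normal in `P`, `S` in a unique
  maximal subgroup of `P`);
* `IsParS S P` : `P ∈ P*(S)`: moreover `Ω₁(Z(S))` is not normal in `P`;
* `NonLoc A B` : no nontrivial 2-subgroup is normalised by `A` and `B`;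
* `OneMax S` : `|M(S)| = 1`.

Main facts, `S : Sylow 2 G`: `IsLoc.char2`, `IsLoc.of_le`, `exists_isMaxLoc`, `isMaxLoc_iff`,
`IsMaxLoc.normalizer_eq`, (F0) `IsLoc.le_of_forall` and `IsLoc.eq_sup`, `nonLoc_iff`,
`oneMax_or` (dichotomy), conjugation `IsLoc.map`, `IsMaxLoc.map`, `IsPar.map`.
-/

set_option autoImplicit false

namespace Cfsg.Agent.Omega.MinPar

open Subgroup Cfsg Cfsg.Agent.ZN Cfsg.Agent.MinSimple.MinParabolic Cfsg.Agent.MinSimple.VModule
open Cfsg.Agent.MinSimple.Basic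

universe u

variable {G : Type u} [Group G]

/-! ### Definitions -/

/-- `L ∈ L(S)`. -/
structure IsLoc (S L : Subgroup G) : Prop where
  le : S ≤ L
  o2_ne : o2 L ≠ ⊥

/-- `M ∈ M(S)`: a maximal member of `L(S)`. -/
structure IsMaxLoc (S M : Subgroup G) : Prop extends IsLoc S M where
  max : ∀ L : Subgroup G, IsLoc S L → M ≤ L → L ≤ M

/-- `P ∈ P(S)`: `P ∈ L(S)` is a minimal parabolic over `S`. -/
structure IsPar (S P : Subgroup G) : Prop extends IsMinPar S P where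
  o2_ne : o2 P ≠ ⊥

/-- `P ∈ P*(S)`: `P ∈ P(S)` and `Ω₁(Z(S))` is not normal in `P`. -/
structure IsParS (S P : Subgroup G) : Prop extends IsPar S P where
  not_zc : ¬ P ≤ normalizer (zc S : Set G)

/-- No nontrivial 2-subgroup is normalised by both `A` and `B`. -/
def NonLoc (A B : Subgroup G) : Prop :=
  ∀ U : Subgroup G, IsPGroup 2 U → A ≤ normalizer (U : Set G) → B ≤ normalizer (U : Set G) → U = ⊥

/-- `|M(S)| = 1`. -/
def OneMax (S : Subgroup G) : Prop :=
  ∃ M : Subgroup G, IsMaxLoc S M ∧ ∀ L : Subgroup G, IsLoc S L → L ≤ M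

/-! ### Without Sylow -/

theorem IsPar.isLoc {S P : Subgroup G} (h : IsPar S P) : IsLoc S P := ⟨h.le, h.o2_ne⟩

theorem IsParS.isLoc {S P : Subgroup G} (h : IsParS S P) : IsLoc S P := h.toIsPar.isLoc

/-- A subgroup normalising a nontrivial 2-subgroup of itself has `O₂ ≠ 1`. -/
theorem o2_ne_bot_of_le {U L : Subgroup G} (hU : IsPGroup 2 U) (hU1 : U ≠ ⊥) (hUL : U ≤ L)
    (hL : L ≤ normalizer (U : Set G)) : o2 L ≠ ⊥ :=
  fun h => hU1 (le_bot_iff.mp (h ▸ le_o2 hUL hU hL))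

theorem NonLoc.symm {A B : Subgroup G} (h : NonLoc A B) : NonLoc B A :=
  fun U hU h1 h2 => h U hU h2 h1

theorem NonLoc.mono {A B A' B' : Subgroup G} (h : NonLoc A B) (hA : A ≤ A') (hB : B ≤ B') :
    NonLoc A' B' :=
  fun U hU h1 h2 => h U hU (hA.trans h1) (hB.trans h2)

theorem NonLoc.o2_sup {A B : Subgroup G} (h : NonLoc A B) : o2 (A ⊔ B) = ⊥ :=
  h _ (o2_isPGroup _) (le_sup_left.trans (le_normalizer_o2 _))
    (le_sup_right.trans (le_normalizer_o2 _))

theorem OneMax.eq {S M : Subgroup G} (h : OneMax S) (hM : IsMaxLoc S M) {L : Subgroup G}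
    (hL : IsLoc S L) : L ≤ M := by
  obtain ⟨N, hN, h1⟩ := h
  exact (h1 L hL).trans (hM.max N hN.toIsLoc (h1 M hM.toIsLoc))

/-! ### The members of `L(S)`, `S` a Sylow 2-subgroup -/

section Sylow

variable (S : Sylow 2 G)

/-- A 2-subgroup normalised by `S` lies in `S`. -/
theorem le_of_le_normalizer {U : Subgroup G} (hU : IsPGroup 2 U)
    (h : (S : Subgroup G) ≤ normalizer (U : Set G)) : U ≤ (S : Subgroup G) := by
  have h1 : IsPGroup 2 ((S : Subgroup G) ⊔ U : Subgroup G) :=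
    IsPGroup.to_sup_of_normal_right' S.isPGroup' hU h
  have h2 := S.is_maximal' h1 le_sup_left
  exact le_sup_right.trans h2.le

theorem isLoc_of_le_normalizer {U L : Subgroup G} (hSL : (S : Subgroup G) ≤ L)
    (hU : IsPGroup 2 U) (hU1 : U ≠ ⊥) (hL : L ≤ normalizer (U : Set G)) :
    IsLoc (S : Subgroup G) L :=
  ⟨hSL, o2_ne_bot_of_le hU hU1 ((le_of_le_normalizer S hU (hSL.trans hL)).trans hSL) hL⟩

theorem isLoc_iff {L : Subgroup G} : IsLoc (S : Subgroup G) L ↔ (S : Subgroup G) ≤ L ∧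
    ∃ U : Subgroup G, IsPGroup 2 U ∧ U ≠ ⊥ ∧ L ≤ normalizer (U : Set G) :=
  ⟨fun h => ⟨h.le, o2 L, o2_isPGroup L, h.o2_ne, le_normalizer_o2 L⟩,
    fun ⟨h, _, hU, hU1, hL⟩ => isLoc_of_le_normalizer S h hU hU1 hL⟩

/-- `S ≤ X ≤ L ∈ L(S)` implies `X ∈ L(S)`. -/
theorem IsLoc.of_le {L X : Subgroup G} (h : IsLoc (S : Subgroup G) L)
    (hSX : (S : Subgroup G) ≤ X) (hXL : X ≤ L) : IsLoc (S : Subgroup G) X :=
  isLoc_of_le_normalizer S hSX (o2_isPGroup L) h.o2_ne (hXL.trans (le_normalizer_o2 L))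

theorem isLoc_normalizer {U : Subgroup G} (hU : IsPGroup 2 U) (hU1 : U ≠ ⊥)
    (hS : (S : Subgroup G) ≤ normalizer (U : Set G)) :
    IsLoc (S : Subgroup G) (normalizer (U : Set G)) :=
  isLoc_of_le_normalizer S hS hU hU1 le_rfl

theorem isLoc_normalizer_self (hS : (S : Subgroup G) ≠ ⊥) :
    IsLoc (S : Subgroup G) (normalizer ((S : Subgroup G) : Set G)) :=
  isLoc_normalizer S S.isPGroup' hS le_normalizer

theorem isLoc_self (hS : (S : Subgroup G) ≠ ⊥) : IsLoc (S : Subgroup G) (S : Subgroup G) :=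
  isLoc_of_le_normalizer S le_rfl S.isPGroup' hS le_normalizer

/-- `C_G(z) ∈ L(S)` for an involution `z` centralised by `S`. -/
theorem isLoc_centralizer {z : G} (hz : z ^ 2 = 1) (hz1 : z ≠ 1)
    (hS : (S : Subgroup G) ≤ centralizer ({z} : Set G)) :
    IsLoc (S : Subgroup G) (centralizer ({z} : Set G)) := by
  have h1 := isLoc_normalizer S (isPGroup_zpowers hz) (fun h => hz1 (zpowers_eq_bot.mp h))
    (by rw [normalizer_zpowers_eq hz]; exact hS)
  rwa [normalizer_zpowers_eq hz] at h1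

/-- A member of `L(S)` lies in the 2-local `N_G(O₂(L)) ∈ L(S)`. -/
theorem IsLoc.normalizer_o2 {L : Subgroup G} (h : IsLoc (S : Subgroup G) L) :
    IsLoc (S : Subgroup G) (normalizer (o2 L : Set G)) :=
  isLoc_normalizer S (o2_isPGroup L) h.o2_ne (h.le.trans (le_normalizer_o2 L))

theorem IsLoc.ne_top {L : Subgroup G} [IsSimpleGroup G] (hG : ¬ IsPGroup 2 G)
    (h : IsLoc (S : Subgroup G) L) : L ≠ ⊤ := by
  rintro rfl
  have h1 : (o2 (⊤ : Subgroup G)).Normal :=
    normalizer_eq_top_iff.mp (top_le_iff.mp (le_normalizer_o2 ⊤))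
  rcases h1.eq_bot_or_eq_top with h2 | h2
  · exact h.o2_ne h2
  · refine hG ?_
    have h3 := o2_isPGroup (⊤ : Subgroup G)
    rw [h2] at h3
    exact h3.of_equiv topEquiv

section Finite

variable [Finite G]

theorem IsLoc.o2_le {L : Subgroup G} (h : IsLoc (S : Subgroup G) L) :
    o2 L ≤ (S : Subgroup G) :=
  o2_le_of_sylow S.isPGroup' (MinSimple.Basic.not_dvd_relIndex S h.le)

/-- `O₂(L) ≤ O₂(X)` for `S ≤ X ≤ L`. -/
theorem o2_le_o2 {L X : Subgroup G} (hSX : (S : Subgroup G) ≤ X) (hXL : X ≤ L) :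
    o2 L ≤ o2 X :=
  o2_normal_le_o2 ((o2_le_of_sylow S.isPGroup'
    (MinSimple.Basic.not_dvd_relIndex S (hSX.trans hXL))).trans hSX) hXL

/-- Every member of `L(S)` has characteristic 2. -/
theorem IsLoc.char2 (hG : IsCharacteristicTwoType G) {L : Subgroup G}
    (h : IsLoc (S : Subgroup G) L) : L ⊓ centralizer (o2 L : Set G) ≤ o2 L :=
  char2_of_o2_ne_bot hG S h.le h.o2_ne

/-- Every member of `L(S)` lies in a maximal one. -/
theorem exists_isMaxLoc {L : Subgroup G} (h : IsLoc (S : Subgroup G) L) :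
    ∃ M : Subgroup G, IsMaxLoc (S : Subgroup G) M ∧ L ≤ M := by
  let s : Set (Subgroup G) := {M | IsLoc (S : Subgroup G) M ∧ L ≤ M}
  obtain ⟨M, hM⟩ := (Set.toFinite s).exists_maximal ⟨L, h, le_rfl⟩
  exact ⟨M, ⟨hM.prop.1, fun K hK hMK => hM.le_of_ge ⟨hK, hM.prop.2.trans hMK⟩ hMK⟩, hM.prop.2⟩

theorem exists_isMaxLoc_normalizer (hS : (S : Subgroup G) ≠ ⊥) :
    ∃ M : Subgroup G, IsMaxLoc (S : Subgroup G) M ∧
      normalizer ((S : Subgroup G) : Set G) ≤ M :=
  exists_isMaxLoc S (isLoc_normalizer_self S hS)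

omit [Finite G] in
/-- `M = N_G(U)` for `M ∈ M(S)` and every nontrivial 2-subgroup `U` normalised by `M`. -/
theorem IsMaxLoc.normalizer_eq {M U : Subgroup G} (h : IsMaxLoc (S : Subgroup G) M)
    (hU : IsPGroup 2 U) (hU1 : U ≠ ⊥) (hM : M ≤ normalizer (U : Set G)) :
    normalizer (U : Set G) = M :=
  le_antisymm (h.max _ (isLoc_normalizer S hU hU1 (h.le.trans hM)) hM) hM

omit [Finite G] in
theorem IsMaxLoc.normalizer_o2_eq {M : Subgroup G} (h : IsMaxLoc (S : Subgroup G) M) :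
    normalizer (o2 M : Set G) = M :=
  h.normalizer_eq S (o2_isPGroup M) h.o2_ne (le_normalizer_o2 M)

omit [Finite G] in
/-- `M(S)` is the set of maximal 2-local subgroups containing `S`. -/
theorem isMaxLoc_iff {M : Subgroup G} :
    IsMaxLoc (S : Subgroup G) M ↔ (S : Subgroup G) ≤ M ∧ IsMaximalTwoLocal M := by
  constructor
  · intro h
    refine ⟨h.le, ⟨o2 M, o2_isPGroup M, h.o2_ne, (h.normalizer_o2_eq S).symm⟩, ?_⟩
    rintro N ⟨U, hU, hU1, rfl⟩ hMN
    exact h.normalizer_eq S hU hU1 hMN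
  · rintro ⟨h1, ⟨U, hU, hU1, rfl⟩, h2⟩
    refine ⟨isLoc_normalizer S hU hU1 h1, fun L hL hML => ?_⟩
    have h3 := h2 (normalizer (o2 L : Set G)) ⟨o2 L, o2_isPGroup L, hL.o2_ne, rfl⟩
      (hML.trans (le_normalizer_o2 L))
    rw [← h3]
    exact le_normalizer_o2 L

omit [Finite G] in
/-- For `S ≤ A`: `A`, `B` generate a nonlocal subgroup iff `O₂(⟨A, B⟩) = 1`. -/
theorem nonLoc_iff {A B : Subgroup G} (hA : (S : Subgroup G) ≤ A) :
    NonLoc A B ↔ o2 (A ⊔ B) = ⊥ := by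
  refine ⟨fun h => h.o2_sup, fun h U hU h1 h2 => ?_⟩
  by_contra hU1
  exact (isLoc_of_le_normalizer S (hA.trans le_sup_left) hU hU1 (sup_le h1 h2)).o2_ne h

omit [Finite G] in
theorem not_nonLoc_iff {A B : Subgroup G} (hA : (S : Subgroup G) ≤ A) :
    ¬ NonLoc A B ↔ IsLoc (S : Subgroup G) (A ⊔ B) := by
  rw [nonLoc_iff S hA]
  exact ⟨fun h => ⟨hA.trans le_sup_left, h⟩, fun h => h.o2_ne⟩

/-! ### (F0) Generation -/

omit [Finite G] in
/-- A minimal parabolic over `S` below a member of `L(S)` is a member of `P(S)`. -/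
theorem IsLoc.isPar {L P : Subgroup G} (h : IsLoc (S : Subgroup G) L)
    (hP : IsMinPar (S : Subgroup G) P) (hPL : P ≤ L) : IsPar (S : Subgroup G) P :=
  ⟨hP, (h.of_le S hP.le hPL).o2_ne⟩

/-- (F0) `L ∈ L(S)` lies in `Y` as soon as `N_L(S)` and the members of `P(S)` below `L` do. -/
theorem IsLoc.le_of_forall {L Y : Subgroup G} (h : IsLoc (S : Subgroup G) L)
    (hN : L ⊓ normalizer ((S : Subgroup G) : Set G) ≤ Y)
    (hP : ∀ P : Subgroup G, IsPar (S : Subgroup G) P → P ≤ L → P ≤ Y) : L ≤ Y :=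
  MinSimple.MinParabolic.le_of_forall h.le hN fun P hPm hPL => hP P (h.isPar S hPm hPL) hPL

/-- (F0) `L ∈ L(S)` is generated by `N_L(S)` and the members of `P(S)` below `L`. -/
theorem IsLoc.eq_sup {L : Subgroup G} (h : IsLoc (S : Subgroup G) L) :
    (L ⊓ normalizer ((S : Subgroup G) : Set G)) ⊔
      sSup {P : Subgroup G | IsPar (S : Subgroup G) P ∧ P ≤ L} = L := by
  apply le_antisymm
  · exact sup_le inf_le_left (sSup_le fun P hP => hP.2)
  · exact h.le_of_forall S le_sup_left fun P hP hPL =>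
      le_sup_of_le_right (le_sSup (⟨hP, hPL⟩ : P ∈ {P | IsPar (S : Subgroup G) P ∧ P ≤ L}))

/-- A member of `L(S)` which does not normalise `S` contains a member of `P(S)`. -/
theorem IsLoc.exists_isPar {L : Subgroup G} (h : IsLoc (S : Subgroup G) L)
    (hL : ¬ L ≤ normalizer ((S : Subgroup G) : Set G)) :
    ∃ P : Subgroup G, IsPar (S : Subgroup G) P ∧ P ≤ L := by
  by_contra hcon
  push Not at hcon
  exact hL (h.le_of_forall S inf_le_right fun P hP hPL => absurd hPL (hcon P hP))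

/-- `L ∈ L(S)` not contained in `M ≥ N_L(S)`: some member of `P(S)` below `L` is not in `M`. -/
theorem IsLoc.exists_not_le {L M : Subgroup G} (h : IsLoc (S : Subgroup G) L)
    (hN : L ⊓ normalizer ((S : Subgroup G) : Set G) ≤ M) (hL : ¬ L ≤ M) :
    ∃ P : Subgroup G, IsPar (S : Subgroup G) P ∧ P ≤ L ∧ ¬ P ≤ M := by
  by_contra hcon
  push Not at hcon
  exact hL (h.le_of_forall S hN fun P hP hPL => hcon P hP hPL)

/-- Dichotomy: `|M(S)| = 1`, or every `M ≥ N_G(S)` in `M(S)` misses a member of `P(S)`. -/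
theorem oneMax_or : OneMax (S : Subgroup G) ∨
    ∀ M : Subgroup G, IsMaxLoc (S : Subgroup G) M →
      normalizer ((S : Subgroup G) : Set G) ≤ M →
      ∃ P : Subgroup G, IsPar (S : Subgroup G) P ∧ ¬ P ≤ M := by
  by_cases h : ∀ M : Subgroup G, IsMaxLoc (S : Subgroup G) M →
      normalizer ((S : Subgroup G) : Set G) ≤ M →
      ∃ P : Subgroup G, IsPar (S : Subgroup G) P ∧ ¬ P ≤ M
  · exact Or.inr h
  left
  push Not at h
  obtain ⟨M, hM, hMS, hP⟩ := h
  exact ⟨M, hM, fun L hL => hL.le_of_forall S (inf_le_right.trans hMS) fun P hP1 _ => hP P hP1⟩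

omit [Finite G] in
/-- `|M(S)| = 1` iff the members of `L(S)` generate a member of `L(S)`. -/
theorem oneMax_iff : OneMax (S : Subgroup G) ↔
    IsLoc (S : Subgroup G) (sSup {L : Subgroup G | IsLoc (S : Subgroup G) L}) := by
  constructor
  · rintro ⟨M, hM, h⟩
    have h1 : sSup {L : Subgroup G | IsLoc (S : Subgroup G) L} = M :=
      le_antisymm (sSup_le h) (le_sSup hM.toIsLoc)
    rw [h1]
    exact hM.toIsLoc
  · intro h
    exact ⟨_, ⟨h, fun L hL _ => le_sSup hL⟩, fun L hL => le_sSup hL⟩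

/-- Not `|M(S)| = 1`: the group `N_G(S)` and the members of `P(S)` generate a subgroup with
`O₂ = 1`. -/
theorem o2_sSup_eq_bot (h : ¬ OneMax (S : Subgroup G)) :
    o2 (normalizer ((S : Subgroup G) : Set G) ⊔
      sSup {P : Subgroup G | IsPar (S : Subgroup G) P}) = ⊥ := by
  by_contra h1
  have h2 : IsLoc (S : Subgroup G) (normalizer ((S : Subgroup G) : Set G) ⊔
      sSup {P : Subgroup G | IsPar (S : Subgroup G) P}) := ⟨le_sup_of_le_left le_normalizer, h1⟩
  obtain ⟨M, hM, hM1⟩ := exists_isMaxLoc S h2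
  refine h ⟨M, hM, fun L hL => hL.le_of_forall S (inf_le_right.trans (le_sup_left.trans hM1))
    fun P hP _ => ?_⟩
  exact (le_sSup (show P ∈ {P : Subgroup G | IsPar (S : Subgroup G) P} from hP)).trans
    (le_sup_right.trans hM1)

/-! ### `Ω₁(Z(S))` and `V_P` -/

/-- `C_G(Ω₁(Z(S)))` and `N_G(Ω₁(Z(S)))` are members of `L(S)`. -/
theorem isLoc_normalizer_zc (hS : (S : Subgroup G) ≠ ⊥) :
    IsLoc (S : Subgroup G) (normalizer (zc (S : Subgroup G) : Set G)) :=
  isLoc_normalizer S (S.isPGroup'.to_le (zc_le _)) (zc_ne_bot S.isPGroup' hS)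
    (le_normalizer.trans (normalizer_le_normalizer_zc _))

theorem isLoc_centralizer_zc (hS : (S : Subgroup G) ≠ ⊥) :
    IsLoc (S : Subgroup G) (centralizer (zc (S : Subgroup G) : Set G)) :=
  (isLoc_normalizer_zc S hS).of_le S (le_centralizer_zc _) (centralizer_le_normalizer _)

/-- `V_P ≤ Ω₁(Z(O₂(P)))`. -/
theorem IsLoc.zl_le (hG : IsCharacteristicTwoType G) {P : Subgroup G}
    (h : IsLoc (S : Subgroup G) P) : zl (S : Subgroup G) P ≤ zc (o2 P) :=
  zl_le_zc h.le S.isPGroup' (MinSimple.Basic.not_dvd_relIndex S h.le) (h.char2 S hG)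

/-- `C_S(V_P) = O₂(P)` for `P ∈ P*(S)`. -/
theorem IsParS.inf_centralizer (hG : IsCharacteristicTwoType G) {P : Subgroup G}
    (h : IsParS (S : Subgroup G) P) :
    (S : Subgroup G) ⊓ centralizer (zl (S : Subgroup G) P : Set G) = o2 P :=
  inf_centralizer_zl h.toIsMinPar S.isPGroup' (MinSimple.Basic.not_dvd_relIndex S h.le)
    (h.isLoc.char2 S hG) h.not_zc

/-- `N ⊴ P ∈ P(S)`: `N S = P` or `S ∩ N ≤ O₂(P)`. -/
theorem IsPar.sup_eq_or_inf_le {P N : Subgroup G} (h : IsPar (S : Subgroup G) P) (hNP : N ≤ P)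
    (hN : P ≤ normalizer (N : Set G)) :
    N ⊔ (S : Subgroup G) = P ∨ (S : Subgroup G) ⊓ N ≤ o2 P :=
  h.toIsMinPar.sup_eq_or_inf_le S.isPGroup' (MinSimple.Basic.not_dvd_relIndex S h.le) hNP hN

end Finite

end Sylow

/-! ### Conjugation -/

section Map

universe v

variable {H : Type v} [Group H] (e : G ≃* H) {S L M P : Subgroup G}

theorem o2_map_equiv (L : Subgroup G) : o2 (L.map e.toMonoidHom) = (o2 L).map e.toMonoidHom :=
  o2_map e.toMonoidHom e.injective L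

theorem map_symm_map (L : Subgroup H) : (L.map e.symm.toMonoidHom).map e.toMonoidHom = L := by
  ext x
  simp

theorem IsLoc.map (h : IsLoc S L) : IsLoc (S.map e.toMonoidHom) (L.map e.toMonoidHom) := by
  refine ⟨Subgroup.map_mono h.le, ?_⟩
  rw [o2_map_equiv]
  exact fun h1 => h.o2_ne ((map_eq_bot_iff_of_injective _ e.injective).mp h1)

theorem isLoc_map_iff : IsLoc (S.map e.toMonoidHom) (L.map e.toMonoidHom) ↔ IsLoc S L := by
  refine ⟨fun h => ⟨(map_le_map_iff_of_injective e.injective).mp h.le, fun h1 => h.o2_ne ?_⟩,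
    fun h => h.map e⟩
  rw [o2_map_equiv, h1, Subgroup.map_bot]

theorem IsMaxLoc.map (h : IsMaxLoc S M) :
    IsMaxLoc (S.map e.toMonoidHom) (M.map e.toMonoidHom) := by
  refine ⟨h.toIsLoc.map e, fun L hL hML => ?_⟩
  rw [← map_symm_map e L] at hL hML ⊢
  exact Subgroup.map_mono (h.max _ ((isLoc_map_iff e).mp hL)
    ((map_le_map_iff_of_injective e.injective).mp hML))

theorem IsMinPar.map (h : IsMinPar S P) :
    IsMinPar (S.map e.toMonoidHom) (P.map e.toMonoidHom) := by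
  obtain ⟨M, hM, h1⟩ := h.exists_max
  refine ⟨Subgroup.map_mono h.le, fun h2 => h.not_le ?_, M.map e.toMonoidHom, ?_, fun K hK hK1 => ?_⟩
  · exact (le_normalizer_map_iff e.toMonoidHom e.injective P S).mp h2
  · exact lt_of_le_of_ne (Subgroup.map_mono hM.le) fun h2 =>
      hM.ne (Subgroup.map_injective e.injective h2)
  · rw [← map_symm_map e K] at hK hK1 ⊢
    refine Subgroup.map_mono (h1 _ ((map_le_map_iff_of_injective e.injective).mp hK) ?_)
    refine lt_of_le_of_ne ((map_le_map_iff_of_injective e.injective).mp hK1.le) fun h2 => ?_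
    rw [h2] at hK1
    exact lt_irrefl _ hK1

theorem IsPar.map (h : IsPar S P) : IsPar (S.map e.toMonoidHom) (P.map e.toMonoidHom) :=
  ⟨IsMinPar.map e h.toIsMinPar, (h.isLoc.map e).o2_ne⟩

theorem zc_map_equiv (S : Subgroup G) : zc (S.map e.toMonoidHom) = (zc S).map e.toMonoidHom :=
  zc_map e.toMonoidHom e.injective S

theorem IsParS.map (h : IsParS S P) : IsParS (S.map e.toMonoidHom) (P.map e.toMonoidHom) := by
  refine ⟨h.toIsPar.map e, fun h1 => h.not_zc ?_⟩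
  rw [zc_map_equiv] at h1
  exact (le_normalizer_map_iff e.toMonoidHom e.injective P _).mp h1

theorem NonLoc.map {A B : Subgroup G} (h : NonLoc A B) :
    NonLoc (A.map e.toMonoidHom) (B.map e.toMonoidHom) := by
  intro U hU hA hB
  rw [← map_symm_map e U] at hA hB ⊢
  rw [h (U.map e.symm.toMonoidHom) (hU.map _)
    ((le_normalizer_map_iff e.toMonoidHom e.injective _ _).mp hA)
    ((le_normalizer_map_iff e.toMonoidHom e.injective _ _).mp hB), Subgroup.map_bot]

end Map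

end Cfsg.Agent.Omega.MinPar

end

section


/-!
# OMEGA (EH8): `RankFour` from the list `K4`

`known_of_k4`: a simple group in the list `GH.Defs.K4` is known (`HasAltCover` by S1738: `McL` or `Ly`).
`rankFour`: `Omega.Assembly.RankFour` from `PK4` (= `GH.FinalInputs.k4`) and S1738.
`classification_of`: S0000 from `EvenHalf`, S1765, `PK4` and S1738.
-/

set_option autoImplicit false
set_option linter.style.haveILetI false

namespace Cfsg.Agent.Omega.RankFourOf

open Cfsg Subgroup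
open Cfsg.Agent.GH.Defs
open Cfsg.Agent.Omega

universe u

/-- Simple groups of sectional 2-rank at most 4: `GH.FinalInputs.k4`. -/
def PK4 : Prop :=
  ∀ (G : Type u) [Group G] [Finite G] [IsSimpleGroup G], ¬ IsMulCommutative G →
    SectionalPRankLE 2 4 G → K4 G

section lists

variable {X : Type u} [Group X]

theorem of_exc (h : IsExceptionalLieType X) : IsKnownSimple' X :=
  Or.inr (Or.inr (Or.inr (Or.inr (Or.inr (Or.inr (Or.inr (Or.inr (Or.inl h))))))))

theorem of_spor (h : IsSporadicGroup X) : IsKnownSimple' X :=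
  Or.inr (Or.inr (Or.inr (Or.inr (Or.inr (Or.inr (Or.inr (Or.inr (Or.inr h))))))))

theorem of_psl (h : IsPSL X) : IsKnownSimple' X := Or.inr (Or.inr (Or.inl h))

theorem of_psu (h : IsPSU X) : IsKnownSimple' X := Or.inr (Or.inr (Or.inr (Or.inr (Or.inl h))))

theorem of_alt {n : ℕ} (hn : 5 ≤ n) (h : Nonempty (X ≃* alternatingGroup (Fin n))) : IsKnownSimple' X :=
  Or.inr (Or.inl ⟨n, hn, h⟩)

theorem three_le {F : Type} [Field F] [Fintype F] (h : Odd (Fintype.card F)) : 3 ≤ Fintype.card F := by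
  have h1 : 1 < Fintype.card F := Fintype.one_lt_card
  obtain ⟨k, hk⟩ := h
  omega

theorem of_K2 (h : K2 X) : IsKnownSimple' X := by
  rcases h with ⟨F, i, j, h1, h2, f⟩ | ⟨F, i, j, h1, f⟩ | ⟨F, i, j, q, h1, h2, f⟩ | ⟨F, i, j, h1, f⟩ | h | h
  · exact of_psl ⟨F, i, j, 2, le_rfl, fun _ => by omega, f⟩
  · exact of_psl ⟨F, i, j, 3, by norm_num, fun h => by omega, f⟩
  · refine of_psu ⟨F, i, j, 3, q, h1, le_rfl, fun h => ?_, f⟩
    obtain ⟨k, hk⟩ := h2
    omega
  · exact of_psu ⟨F, i, j, 3, 4, by rw [h1]; norm_num, le_rfl, fun h => by omega, f⟩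
  · exact of_alt (by norm_num) h
  · exact of_spor (Or.inl h)

theorem of_K3 (h : K3 X) : IsKnownSimple' X := by
  rcases h with ⟨F, i, j, h1, f⟩ | ⟨F, i, j, h1, f⟩ | h | h
  · exact of_psl ⟨F, i, j, 2, le_rfl, fun _ => by omega, f⟩
  · refine of_exc (Or.inr (Or.inr (Or.inr (Or.inr (Or.inr (Or.inr (Or.inr (Or.inl
      ⟨F, i, j, 1, le_rfl, by rw [h1]; norm_num, ?_⟩))))))))
    have h2 : (2 : ℕ) ^ (1 + 1) = 4 := by norm_num
    rw [h2]
    exact f
  · exact of_exc (Or.inr (Or.inr (Or.inr (Or.inr (Or.inr (Or.inr (Or.inr (Or.inr (Or.inl h)))))))))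
  · exact of_spor (Or.inr (Or.inr (Or.inr (Or.inr (Or.inr (Or.inl h))))))

theorem of_K4 (hA : HasAltCover X → Spor.IsoMcL X ∨ Spor.IsoLy X) (h : K4 X) : IsKnownSimple' X := by
  rcases h with h | h | ⟨F, i, j, h1, f⟩ | ⟨F, i, j, h1, f⟩ | ⟨n, h1, h2, h⟩ | ⟨F, i, j, h1, f⟩ |
    ⟨F, i, j, h1, h2, f⟩ | ⟨F, i, j, q, h1, h2, h3, f⟩ | ⟨F, i, j, h1, f⟩ | ⟨F, i, j, q, h1, h2, f⟩ |
    ⟨⟨F, i, j, h1, f⟩, -⟩ | ⟨⟨K, i, j, q, h1, h2, f⟩, -⟩ | h | h | h | h | h | h
  · exact of_K2 h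
  · exact of_K3 h
  · exact of_psl ⟨F, i, j, 2, le_rfl, fun _ => by omega, f⟩
  · exact of_psl ⟨F, i, j, 3, by norm_num, fun h => by omega, f⟩
  · exact of_alt (by omega) h
  · exact Or.inr (Or.inr (Or.inr (Or.inl ⟨F, i, j, 2, le_rfl, fun _ => three_le h1, f⟩)))
  · exact of_psl ⟨F, i, j, 4, by norm_num, fun h => by omega, f⟩
  · exact of_psu ⟨F, i, j, 4, q, h1, by norm_num, fun h => by omega, f⟩
  · exact of_psl ⟨F, i, j, 5, by norm_num, fun h => by omega, f⟩
  · exact of_psu ⟨F, i, j, 5, q, h1, by norm_num, fun h => by omega, f⟩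
  · exact of_exc (Or.inl ⟨F, i, j, three_le h1, f⟩)
  · refine of_exc (Or.inr (Or.inr (Or.inr (Or.inr (Or.inr (Or.inr (Or.inl
      ⟨K, i, j, q, ?_, h2, f⟩)))))))
    have h3 : IsPrimePow (q ^ 3) := by
      rw [← h2]
      exact FiniteField.isPrimePow_card K
    exact (isPrimePow_pow_iff (by norm_num)).1 h3
  · exact of_spor (Or.inr (Or.inl h))
  · exact of_spor (Or.inr (Or.inr (Or.inl h)))
  · exact of_spor (Or.inr (Or.inr (Or.inr (Or.inl h))))
  · exact of_spor (Or.inr (Or.inr (Or.inr (Or.inr (Or.inr (Or.inr (Or.inl h)))))))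
  · exact of_spor (Or.inr (Or.inr (Or.inr (Or.inr (Or.inr (Or.inr (Or.inr (Or.inl h))))))))
  · have key : ∀ h : Spor.IsoMcL X ∨ Spor.IsoLy X, IsSporadicGroup X := by
      rintro (h | h)
      · unfold IsSporadicGroup
        tauto
      · unfold IsSporadicGroup
        tauto
    exact of_spor (key (hA h))

end lists

/-- A simple group in the list `K4` is known. -/
theorem known_of_k4 {G : Type u} [Group G] [Finite G] [IsSimpleGroup G] (hna : ¬ IsMulCommutative G)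
    (h1738 : GH.AltOut.St1738 G) (h : K4 G) : IsKnownSimple' G := by
  refine of_K4 (fun hA => ?_) h
  rcases (inferInstance : (oddCore G).Normal).eq_bot_or_eq_top with h | h
  · exact GH.AltOut.mcl_or_ly hna h h1738 hA
  · exfalso
    obtain ⟨n, t, K, -, hc, -⟩ := hA
    have h1 := Lib.Cores.pPrimeCore_coprime (G := G) 2
    rw [show pPrimeCore 2 G = ⊤ from h, Subgroup.card_top] at h1
    have h2 : 2 ∣ Nat.card G := by
      rw [← hc.inv]
      exact orderOf_dvd_natCard t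
    exact (Nat.Prime.coprime_iff_not_dvd Nat.prime_two).1 h1.symm h2

/-- `RankFour` from the list `K4` and S1738. -/
theorem rankFour (k4 : PK4.{u}) (s1738 : ∀ (G : Type u) [Group G] [Finite G], GH.AltOut.St1738 G) :
    Assembly.RankFour.{u} := by
  intro G _ _ _ hna _ _ h4
  exact known_of_k4 hna (s1738 G) (k4 G hna h4)

/-- S0000 from `EvenHalf`, S1765, `PK4` and S1738. -/
theorem classification_of (hO : Assembly.OddLit.{u}) (hE : Assembly.EvenHalf.{u}) (k4 : PK4.{u})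
    (s1738 : ∀ (G : Type u) [Group G] [Finite G], GH.AltOut.St1738 G)
    (G : Type u) [Group G] [Finite G] [IsSimpleGroup G] : IsKnownSimple' G :=
  Assembly.classification (Assembly.oddKnown hO) (rankFour k4 s1738) hE G

end Cfsg.Agent.Omega.RankFourOf

end

section


/-!
# THEOREM ALL-N1 (bb #15220), the input of BETA level

`V = F + T + F` with the quadratic form `a d + N b` (`T = F_{q²}`: type (β), `T = F × F`: type (γ)), `R = {(a, 0, 0)}`,
`V ∩ Q = {(a, b, 0)}`, `Q = O₂(N_G(R))` semi-extraspecial with centre `R`; `Q` acts on `V` as the group of all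
`u_c : (a, b, d) ↦ (a + B b c + N c * d, b + d • c, d)`, `X` contains `v_b : (a, y, d) ↦ (a, y + a • b, d + B y b + N b * a)`
for all nonsingular `b`.
-/

set_option autoImplicit false
set_option linter.unusedSectionVars false

namespace Cfsg.Agent.Omega.All.NOne

open Subgroup Cfsg Cfsg.Agent.ZN Cfsg.Agent.Omega.MinPar

universe u

/-- The quadratic space `T` of dimension 2 over `F`. -/
structure Form (F T : Type*) [Field F] [AddCommGroup T] [Module F T] (N : T → F) (B : T → T → F) : Prop where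
  F2 : ∀ a : F, a + a = 0
  four : 4 ≤ Nat.card F
  B_self : ∀ b, B b b = 0
  B_add : ∀ b b' c, B (b + b') c = B b c + B b' c
  B_symm : ∀ b c, B b c = B c b
  B_smul : ∀ (s : F) b c, B (s • b) c = s * B b c
  /-- `T` is 2-dimensional and `B` is nondegenerate -/
  B_span : ∀ b c, b ≠ 0 → B b c = 0 → ∃ s : F, c = s • b
  B_surj : ∀ b, b ≠ 0 → ∀ f, ∃ c, B b c = f
  N_add : ∀ b c, N (b + c) = N b + N c + B b c
  N_smul : ∀ (s : F) b, N (s • b) = s ^ 2 * N b
  N_surj : ∀ f, ∃ b, N b = f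

/-- The input of BETA level. -/
structure Core {G : Type u} [Group G] {F T : Type*} [Field F] [AddCommGroup T] [Module F T]
    (S V R Q X : Subgroup G) (e : F → T → F → G) (N : T → F) (B : T → T → F) : Prop where
  form : Form F T N B
  e_add : ∀ a b d a' b' d', e (a + a') (b + b') (d + d') = e a b d * e a' b' d'
  e_inj : ∀ a b d, e a b d = 1 → a = 0 ∧ b = 0 ∧ d = 0
  e_mem : ∀ a b d, e a b d ∈ V
  e_surj : ∀ x ∈ V, ∃ a b d, e a b d = x
  R_iff : ∀ r, r ∈ R ↔ ∃ a, e a 0 0 = r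
  E_le : ∀ a b, e a b 0 ∈ Q
  V_Q : ∀ a b d, e a b d ∈ Q → d = 0
  /-- `Q` acts on `V` as the group of all `u_c` -/
  act : ∀ y ∈ Q, ∃ c, ∀ a b d, y * e a b d * y⁻¹ = e (a + B b c + N c * d) (b + d • c) d
  act_surj : ∀ c, ∃ y ∈ Q, ∀ a b d, y * e a b d * y⁻¹ = e (a + B b c + N c * d) (b + d • c) d
  Q_eq : Q = o2 (normalizer (R : Set G))
  Q_cen : Q ≤ centralizer (R : Set G)
  QQ : ∀ x ∈ Q, ∀ y ∈ Q, x * y * x⁻¹ * y⁻¹ ∈ R
  semi : ∀ w ∈ Q, w ∉ R → ∀ r ∈ R, ∃ n ∈ Q, n * w * n⁻¹ * w⁻¹ = r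
  Q_gen : ∀ Y : Subgroup G, (∀ c ∈ normalizer (R : Set G), ∀ a b, c * e a b 0 * c⁻¹ ∈ Y) → Q ≤ Y
  X_V : X ≤ normalizer (V : Set G)
  Q_X : Q ≤ X
  opp : ∀ b, N b ≠ 0 → ∃ n ∈ X, ∀ a y d, n * e a y d * n⁻¹ = e a (y + a • b) (d + B y b + N b * a)
  tran : ∀ r ∈ R, r ≠ 1 → ∀ r' ∈ R, r' ≠ 1 →
    ∃ n, n ∈ normalizer (V : Set G) ∧ n ∈ normalizer (R : Set G) ∧ n * r * n⁻¹ = r'
  /-- the Sylow group -/
  V_S : V ≤ S
  S_V : S ≤ normalizer (V : Set G)
  S_R : S ≤ normalizer (R : Set G)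
  Z_R : zc S ≤ R
  triv : ∀ x ∈ S, (∀ v ∈ V, x * v * x⁻¹ * v⁻¹ ∈ Q) → x ∈ centralizer (R : Set G)
  quo : ∀ x ∈ S, x ∈ centralizer (R : Set G) → ∀ v ∈ V, x * v * x⁻¹ * v⁻¹ ∈ Q
  two : ∀ s ∈ S, s ∈ centralizer (R : Set G) → ∀ t ∈ S, t ∈ centralizer (R : Set G) →
    (∃ y ∈ Q, s * y⁻¹ ∈ centralizer (V : Set G)) ∨ (∃ y ∈ Q, t * y⁻¹ ∈ centralizer (V : Set G)) ∨
      (∃ y ∈ Q, s * t * y⁻¹ ∈ centralizer (V : Set G))
  cenE : ∀ s ∈ S, (∀ a b, s * e a b 0 = e a b 0 * s) → s ∈ centralizer (V : Set G)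
  /-- the torus, the swap -/
  bas : ∀ c, c ≠ 0 → ∃ k, (k ∈ centralizer (R : Set G) ∨ k ∈ S) ∧
    ∀ b, ∃ (a : F) (f f' : F), e 0 b 0 = e a 0 0 * e 0 (f • c) 0 * (k * e 0 (f' • c) 0 * k⁻¹)
  ns : ∀ b, b ≠ 0 → N b ≠ 0 ∨ ∃ s ∈ S, ∀ a, ∃ a' b', s * e a b 0 * s⁻¹ = e a' b' 0 ∧ N (b + b') ≠ 0

namespace Form

variable {F T : Type*} [Field F] [AddCommGroup T] [Module F T] {N : T → F} {B : T → T → F} (h : Form F T N B)
include h

theorem T2 (b : T) : b + b = 0 := by
  have h1 : b + b = ((1 : F) + 1) • b := by rw [add_smul, one_smul]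
  rw [h1, h.F2, zero_smul]

theorem neg_F (a : F) : -a = a := by
  rw [neg_eq_iff_add_eq_zero]; exact h.F2 a

theorem neg_T (a : T) : -a = a := by
  rw [neg_eq_iff_add_eq_zero]; exact h.T2 a

theorem B_add' (b c c' : T) : B b (c + c') = B b c + B b c' := by
  rw [h.B_symm, h.B_add, h.B_symm c, h.B_symm c']

theorem B_smul' (s : F) (b c : T) : B b (s • c) = s * B b c := by
  rw [h.B_symm, h.B_smul, h.B_symm c]

theorem B_zero (b : T) : B b 0 = 0 := by
  have := h.B_smul' 0 b 0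
  rwa [zero_smul, zero_mul] at this

theorem zero_B (b : T) : B 0 b = 0 := by rw [h.B_symm, h.B_zero]

theorem N_zero : N 0 = 0 := by
  have := h.N_smul 0 0
  rwa [zero_smul, zero_pow two_ne_zero, zero_mul] at this

theorem ne_zero_of_N {b : T} (hb : N b ≠ 0) : b ≠ 0 := by
  rintro rfl
  exact hb h.N_zero

theorem exists_ne : ∃ b : T, N b = 1 ∧ b ≠ 0 := by
  obtain ⟨b, hb⟩ := h.N_surj 1
  exact ⟨b, hb, h.ne_zero_of_N (by rw [hb]; exact one_ne_zero)⟩

end Form

/-! ### First facts -/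

namespace Core

variable {G : Type u} [Group G] {F T : Type*} [Field F] [AddCommGroup T] [Module F T]
  {S V R Q X : Subgroup G} {e : F → T → F → G} {N : T → F} {B : T → T → F} (h : Core S V R Q X e N B)
include h

theorem e_zero : e 0 0 0 = 1 := by
  have := h.e_add 0 0 0 0 0 0
  simp only [add_zero] at this
  exact left_eq_mul.mp this

theorem e_comm (a b d a' b' d') : e a b d * e a' b' d' = e a' b' d' * e a b d := by
  rw [← h.e_add, ← h.e_add, add_comm a, add_comm b, add_comm d]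

theorem e_sq (a b d) : e a b d * e a b d = 1 := by
  rw [← h.e_add, h.form.F2, h.form.F2, h.form.T2, h.e_zero]

theorem e_inv (a b d) : (e a b d)⁻¹ = e a b d := by
  rw [inv_eq_iff_mul_eq_one]; exact h.e_sq a b d

/-- `e` is injective -/
theorem e_eq {a b d a' b' d'} (h1 : e a b d = e a' b' d') : a = a' ∧ b = b' ∧ d = d' := by
  have h2 : e (a + a') (b + b') (d + d') = 1 := by rw [h.e_add, h1, h.e_sq]
  obtain ⟨h3, h4, h5⟩ := h.e_inj _ _ _ h2
  refine ⟨?_, ?_, ?_⟩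
  · rw [← h.form.neg_F a']; exact eq_neg_of_add_eq_zero_left h3
  · rw [← h.form.neg_T b']; exact eq_neg_of_add_eq_zero_left h4
  · rw [← h.form.neg_F d']; exact eq_neg_of_add_eq_zero_left h5

theorem V_comm {x y : G} (hx : x ∈ V) (hy : y ∈ V) : x * y = y * x := by
  obtain ⟨a, b, d, rfl⟩ := h.e_surj x hx
  obtain ⟨a', b', d', rfl⟩ := h.e_surj y hy
  exact h.e_comm _ _ _ _ _ _

theorem V_sq {x : G} (hx : x ∈ V) : x * x = 1 := by
  obtain ⟨a, b, d, rfl⟩ := h.e_surj x hx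
  exact h.e_sq _ _ _

theorem R_V : R ≤ V := by
  intro r hr
  obtain ⟨a, rfl⟩ := (h.R_iff r).1 hr
  exact h.e_mem _ _ _

theorem R_Q : R ≤ Q := by
  intro r hr
  obtain ⟨a, rfl⟩ := (h.R_iff r).1 hr
  exact h.E_le _ _

theorem e_R (a : F) : e a 0 0 ∈ R := (h.R_iff _).2 ⟨a, rfl⟩

/-- `e a b d ∈ R` -/
theorem of_mem_R {a b d} (h1 : e a b d ∈ R) : b = 0 ∧ d = 0 := by
  obtain ⟨a', h2⟩ := (h.R_iff _).1 h1
  obtain ⟨-, h3, h4⟩ := h.e_eq h2
  exact ⟨h3.symm, h4.symm⟩

theorem mem_E {x : G} (hx : x ∈ V) (hxQ : x ∈ Q) : ∃ a b, e a b 0 = x := by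
  obtain ⟨a, b, d, rfl⟩ := h.e_surj x hx
  obtain rfl := h.V_Q a b d hxQ
  exact ⟨a, b, rfl⟩

theorem V_cenR : V ≤ centralizer (R : Set G) := by
  intro v hv
  rw [mem_centralizer_iff]
  exact fun r hr => h.V_comm (h.R_V hr) hv

theorem cenR_norm : centralizer (R : Set G) ≤ normalizer (R : Set G) := by
  have _ := h
  exact centralizer_le_normalizer _

theorem Q_nor {c : G} (hc : c ∈ normalizer (R : Set G)) {y : G} (hy : y ∈ Q) : c * y * c⁻¹ ∈ Q := by
  have h1 := MinSimple.VModule.le_normalizer_o2 (normalizer (R : Set G)) hc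
  rw [← h.Q_eq] at h1
  exact (mem_normalizer_iff.1 h1 y).1 hy

theorem Q_nor' {c : G} (hc : c ∈ normalizer (R : Set G)) {y : G} (hy : y ∈ Q) : c⁻¹ * y * c ∈ Q := by
  have := h.Q_nor (inv_mem hc) hy
  rwa [inv_inv] at this

theorem Q_le_norm : normalizer (R : Set G) ≤ normalizer (Q : Set G) := by
  intro c hc
  rw [mem_normalizer_iff]
  intro y
  refine ⟨h.Q_nor hc, fun hy => ?_⟩
  have := h.Q_nor' hc hy
  have e1 : c⁻¹ * (c * y * c⁻¹) * c = y := by group
  rwa [e1] at this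

theorem V_nor {c : G} (hc : c ∈ normalizer (V : Set G)) {y : G} (hy : y ∈ V) : c * y * c⁻¹ ∈ V := by
  have _ := h
  exact (mem_normalizer_iff.1 hc y).1 hy

theorem V_nor' {c : G} (hc : c ∈ normalizer (V : Set G)) {y : G} (hy : y ∈ V) : c⁻¹ * y * c ∈ V := by
  have := h.V_nor (inv_mem hc) hy
  rwa [inv_inv] at this

theorem R_nor {c : G} (hc : c ∈ normalizer (R : Set G)) {y : G} (hy : y ∈ R) : c * y * c⁻¹ ∈ R := by
  have _ := h
  exact (mem_normalizer_iff.1 hc y).1 hy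

theorem R_nor' {c : G} (hc : c ∈ normalizer (R : Set G)) {y : G} (hy : y ∈ R) : c⁻¹ * y * c ∈ R := by
  have := h.R_nor (inv_mem hc) hy
  rwa [inv_inv] at this

/-- `C_G(V) ≤ C_G(R)` -/
theorem cenV_cenR : centralizer (V : Set G) ≤ centralizer (R : Set G) := centralizer_le h.R_V

theorem Q_S [Finite G] (hS : ∀ U : Subgroup G, IsPGroup 2 U → S ≤ normalizer (U : Set G) → U ≤ S) : Q ≤ S := by
  apply hS Q
  · rw [h.Q_eq]; exact MinSimple.VModule.o2_isPGroup _
  · exact h.S_R.trans h.Q_le_norm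

/-- the centre of `Q` -/
theorem mem_R_of_cen {w : G} (hw : w ∈ Q) (hc : ∀ y ∈ Q, y * w = w * y) : w ∈ R := by
  by_contra hwR
  have h1 : e 1 0 0 ≠ 1 := by
    intro h0
    exact one_ne_zero (h.e_inj _ _ _ h0).1
  obtain ⟨n, hn, h2⟩ := h.semi w hw hwR _ (h.e_R 1)
  rw [hc n hn] at h2
  apply h1
  rw [← h2]
  group

/-- `N(Q) ≤ N(R)` -/
theorem norm_Q_le : normalizer (Q : Set G) ≤ normalizer (R : Set G) := by
  have key : ∀ c ∈ normalizer (Q : Set G), ∀ r ∈ R, c * r * c⁻¹ ∈ R := by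
    intro c hc r hr
    apply h.mem_R_of_cen ((mem_normalizer_iff.1 hc r).1 (h.R_Q hr))
    intro y hy
    have h1 : c⁻¹ * y * c ∈ Q := by
      have := (mem_normalizer_iff.1 (inv_mem hc) y).1 hy
      rwa [inv_inv] at this
    have h2 := (mem_centralizer_iff.1 (h.Q_cen h1)) r hr
    calc y * (c * r * c⁻¹) = c * (c⁻¹ * y * c * r) * c⁻¹ := by group
      _ = c * (r * (c⁻¹ * y * c)) * c⁻¹ := by rw [h2]
      _ = c * r * c⁻¹ * y := by group
  intro c hc
  rw [mem_normalizer_iff]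
  intro r
  refine ⟨key c hc r, fun hr => ?_⟩
  have := key c⁻¹ (inv_mem hc) _ hr
  have e1 : c⁻¹ * (c * r * c⁻¹) * c⁻¹⁻¹ = r := by group
  rwa [e1] at this

/-- elements of `V` outside `Q` -/
theorem exists_not_Q : e 0 0 1 ∉ Q := fun h1 => one_ne_zero (h.V_Q _ _ _ h1)

/-- `w ∈ Q` which acts on `V` as `u_c`, and `[w, v] ∈ R` for one `v ∉ Q`: `c = 0`. -/
theorem cenV_of_comm {w : G} (hw : w ∈ Q) {v : G} (hv : v ∈ V) (hvQ : v ∉ Q) (h1 : w * v * w⁻¹ * v⁻¹ ∈ R) :
    w ∈ centralizer (V : Set G) := by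
  obtain ⟨c, hc⟩ := h.act w hw
  obtain ⟨a, b, d, rfl⟩ := h.e_surj v hv
  have hd : d ≠ 0 := by
    rintro rfl
    exact hvQ (h.E_le _ _)
  rw [hc, h.e_inv, ← h.e_add] at h1
  obtain ⟨h2, -⟩ := h.of_mem_R h1
  have h3 : d • c = 0 := by
    have : b + d • c + b = d • c := by
      rw [add_comm b, add_assoc, h.form.T2, add_zero]
    rwa [this] at h2
  have h4 : c = 0 := (smul_eq_zero.1 h3).resolve_left hd
  subst h4
  rw [mem_centralizer_iff]
  intro x hx
  obtain ⟨a', b', d', rfl⟩ := h.e_surj x hx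
  have h5 := hc a' b' d'
  rw [h.form.B_zero, h.form.N_zero, smul_zero, zero_mul, add_zero, add_zero, add_zero] at h5
  calc e a' b' d' * w = (w * e a' b' d' * w⁻¹) * w := by rw [h5]
    _ = w * e a' b' d' := by group

/-- `w ∈ Q` centralising `V ∩ Q` centralises `V`. -/
theorem cenV_of_cenE {w : G} (hw : w ∈ Q) (h1 : ∀ b, w * e 0 b 0 = e 0 b 0 * w) : w ∈ centralizer (V : Set G) := by
  obtain ⟨c, hc⟩ := h.act w hw
  have h4 : c = 0 := by
    by_contra hc0
    obtain ⟨b, hb⟩ := h.form.B_surj c hc0 1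
    have h2 := hc 0 b 0
    have h3 : w * e 0 b 0 * w⁻¹ = e 0 b 0 := by rw [h1]; group
    rw [h3] at h2
    obtain ⟨h5, -, -⟩ := h.e_eq h2
    rw [mul_zero, add_zero, zero_add, h.form.B_symm, hb] at h5
    exact one_ne_zero h5.symm
  subst h4
  rw [mem_centralizer_iff]
  intro x hx
  obtain ⟨a', b', d', rfl⟩ := h.e_surj x hx
  have h5 := hc a' b' d'
  rw [h.form.B_zero, h.form.N_zero, smul_zero, zero_mul, add_zero, add_zero, add_zero] at h5
  calc e a' b' d' * w = (w * e a' b' d' * w⁻¹) * w := by rw [h5]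
    _ = w * e a' b' d' := by group

end Core

end Cfsg.Agent.Omega.All.NOne

end

section


/-!
# THEOREM ALL-N1: the 2-elements of `N(V) ∩ N(R) ∩ N(Q)`

* `Crd.triv` : a 2-element trivial on `V/E` centralises `R`;
* `Crd.lin` : a 2-element of `C(R)` is trivial on `V/E`, and acts on `E/R = T` as an `F`-linear isometry of `B`.
-/

set_option autoImplicit false
set_option linter.unusedSectionVars false

namespace Cfsg.Agent.Omega.All.NOne

open Subgroup

universe u

/-- Coordinates on `V` and the action of `Q`. -/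
structure Crd {G : Type u} [Group G] {F T : Type*} [Field F] [AddCommGroup T] [Module F T]
    (V R Q : Subgroup G) (e : F → T → F → G) (N : T → F) (B : T → T → F) : Prop where
  form : Form F T N B
  e_add : ∀ a b d a' b' d', e (a + a') (b + b') (d + d') = e a b d * e a' b' d'
  e_inj : ∀ a b d, e a b d = 1 → a = 0 ∧ b = 0 ∧ d = 0
  e_mem : ∀ a b d, e a b d ∈ V
  e_surj : ∀ x ∈ V, ∃ a b d, e a b d = x
  R_iff : ∀ r, r ∈ R ↔ ∃ a, e a 0 0 = r
  E_le : ∀ a b, e a b 0 ∈ Q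
  V_Q : ∀ a b d, e a b d ∈ Q → d = 0
  /-- `Q` acts on `V` as the group of all `u_c` -/
  act : ∀ y ∈ Q, ∃ c, ∀ a b d, y * e a b d * y⁻¹ = e (a + B b c + N c * d) (b + d • c) d
  act_surj : ∀ c, ∃ y ∈ Q, ∀ a b d, y * e a b d * y⁻¹ = e (a + B b c + N c * d) (b + d • c) d

namespace Crd

variable {G : Type u} [Group G] {F T : Type*} [Field F] [AddCommGroup T] [Module F T]
  {V R Q : Subgroup G} {e : F → T → F → G} {N : T → F} {B : T → T → F} (h : Crd V R Q e N B)
include h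

theorem e_zero : e 0 0 0 = 1 := by
  have := h.e_add 0 0 0 0 0 0
  simp only [add_zero] at this
  exact left_eq_mul.mp this

theorem e_sq (a b d) : e a b d * e a b d = 1 := by
  rw [← h.e_add, h.form.F2, h.form.F2, h.form.T2, h.e_zero]

theorem e_inv (a b d) : (e a b d)⁻¹ = e a b d := by
  rw [inv_eq_iff_mul_eq_one]; exact h.e_sq a b d

/-- `e` is injective -/
theorem e_eq {a b d a' b' d'} (h1 : e a b d = e a' b' d') : a = a' ∧ b = b' ∧ d = d' := by
  have h2 : e (a + a') (b + b') (d + d') = 1 := by rw [h.e_add, h1, h.e_sq]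
  obtain ⟨h3, h4, h5⟩ := h.e_inj _ _ _ h2
  refine ⟨?_, ?_, ?_⟩
  · rw [← h.form.neg_F a']; exact eq_neg_of_add_eq_zero_left h3
  · rw [← h.form.neg_T b']; exact eq_neg_of_add_eq_zero_left h4
  · rw [← h.form.neg_F d']; exact eq_neg_of_add_eq_zero_left h5

theorem e_R (a : F) : e a 0 0 ∈ R := (h.R_iff _).2 ⟨a, rfl⟩

theorem R_V : R ≤ V := by
  intro r hr
  obtain ⟨a, rfl⟩ := (h.R_iff r).1 hr
  exact h.e_mem _ _ _

theorem R_Q : R ≤ Q := by
  intro r hr
  obtain ⟨a, rfl⟩ := (h.R_iff r).1 hr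
  exact h.E_le _ _

theorem mem_E {x : G} (hx : x ∈ V) (hxQ : x ∈ Q) : ∃ a b, e a b 0 = x := by
  obtain ⟨a, b, d, rfl⟩ := h.e_surj x hx
  obtain rfl := h.V_Q a b d hxQ
  exact ⟨a, b, rfl⟩

/-- every vector is the sum of its three parts -/
theorem split (a : F) (b : T) (d : F) : e a b d = e a 0 0 * (e 0 b 0 * e 0 0 d) := by
  rw [← h.e_add, ← h.e_add]; simp

theorem sq_one_of_pow {D : F} {n : ℕ} (hD : D ^ 2 ^ n = 1) : D = 1 := by
  induction n with
  | zero => simpa using hD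
  | succ n ih =>
    apply ih
    have h1 : (D ^ 2 ^ n) * (D ^ 2 ^ n) = 1 := by rw [← pow_add, ← two_mul, ← pow_succ']; exact hD
    have h2 : (D ^ 2 ^ n + 1) * (D ^ 2 ^ n + 1) = 0 := by
      have h3 := h.form.F2 (D ^ 2 ^ n)
      have h4 := h.form.F2 1
      linear_combination h1 + h3 + h4
    have h3 := mul_self_eq_zero.1 h2
    rw [← h.form.neg_F 1]
    exact eq_neg_of_add_eq_zero_left h3

/-- the maps induced by an element of `N(V) ∩ N(R) ∩ N(Q)` -/
theorem maps {x : G} (hV : x ∈ normalizer (V : Set G)) (hR : x ∈ normalizer (R : Set G))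
    (hQ : x ∈ normalizer (Q : Set G)) :
    ∃ (α γ : F → F) (β δ : T → T), (∀ a, x * e a 0 0 * x⁻¹ = e (α a) 0 0) ∧
      (∀ b, ∃ a, x * e 0 b 0 * x⁻¹ = e a (β b) 0) ∧
      (∀ d, ∃ a b, x * e 0 0 d * x⁻¹ = e a b (γ d)) ∧
      (∀ b c, α (B b c) = B (β b) (δ c)) ∧ ∀ d c, β (d • c) = γ d • δ c := by
  have hcV : ∀ v ∈ V, x * v * x⁻¹ ∈ V := fun v hv => (mem_normalizer_iff.1 hV v).1 hv
  have hcR : ∀ v ∈ R, x * v * x⁻¹ ∈ R := fun v hv => (mem_normalizer_iff.1 hR v).1 hv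
  have hcQ : ∀ v ∈ Q, x * v * x⁻¹ ∈ Q := fun v hv => (mem_normalizer_iff.1 hQ v).1 hv
  choose α hα using fun a => (h.R_iff _).1 (hcR _ (h.e_R a))
  choose f β hβ using fun b => h.mem_E (hcV _ (h.e_mem 0 b 0)) (hcQ _ (h.E_le 0 b))
  choose p k γ hγ using fun d => h.e_surj _ (hcV _ (h.e_mem 0 0 d))
  choose y hy hya using h.act_surj
  choose δ hδ using fun c => h.act _ (hcQ _ (hy c))
  refine ⟨α, γ, β, δ, fun a => (hα a).symm, fun b => ⟨f b, (hβ b).symm⟩, fun d => ⟨p d, k d, (hγ d).symm⟩, ?_, ?_⟩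
  · intro b c
    have h1 : x * (y c * e 0 b 0 * (y c)⁻¹) * x⁻¹ = (x * y c * x⁻¹) * (x * e 0 b 0 * x⁻¹) * (x * y c * x⁻¹)⁻¹ := by
      group
    rw [hya, ← hβ, hδ] at h1
    simp only [mul_zero, add_zero, zero_smul, zero_add] at h1
    have h2 : x * e (B b c) b 0 * x⁻¹ = e (α (B b c) + f b) (β b) 0 := by
      have e1 : e (B b c) b 0 = e (B b c) 0 0 * e 0 b 0 := by rw [← h.e_add]; simp
      have e2 : x * (e (B b c) 0 0 * e 0 b 0) * x⁻¹ = (x * e (B b c) 0 0 * x⁻¹) * (x * e 0 b 0 * x⁻¹) := by group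
      rw [e1, e2, ← hα, ← hβ, ← h.e_add]; simp
    rw [h2] at h1
    have h3 := (h.e_eq h1).1
    rw [add_comm] at h3
    exact add_left_cancel h3
  · intro d c
    have h1 : x * (y c * e 0 0 d * (y c)⁻¹) * x⁻¹ = (x * y c * x⁻¹) * (x * e 0 0 d * x⁻¹) * (x * y c * x⁻¹)⁻¹ := by
      group
    rw [hya, ← hγ, hδ] at h1
    have h2 : x * e (0 + B 0 c + N c * d) (0 + d • c) d * x⁻¹ =
        e (α (0 + B 0 c + N c * d) + (f (d • c) + p d)) (β (d • c) + k d) (γ d) := by
      rw [h.split]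
      have e2 : ∀ a b c : G, x * (a * (b * c)) * x⁻¹ = (x * a * x⁻¹) * ((x * b * x⁻¹) * (x * c * x⁻¹)) := by
        intro a b c; group
      rw [zero_add (d • c), e2, ← hα, ← hβ, ← hγ, ← h.e_add, ← h.e_add]; simp
    rw [h2] at h1
    have h3 := (h.e_eq h1).2.1
    rw [add_comm (β _)] at h3
    exact add_left_cancel h3

theorem exists_basis : ∃ b c : T, B b c = 1 := by
  obtain ⟨b, -, hb⟩ := h.form.exists_ne
  obtain ⟨c, hc⟩ := h.form.B_surj b hb 1
  exact ⟨b, c, hc⟩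

/-- **(triv)** -/
theorem triv {x : G} (hV : x ∈ normalizer (V : Set G)) (hR : x ∈ normalizer (R : Set G))
    (hQ : x ∈ normalizer (Q : Set G)) {n : ℕ} (hn : x ^ 2 ^ n = 1) (hc : ∀ v ∈ V, x * v * x⁻¹ * v⁻¹ ∈ Q) :
    x ∈ centralizer (R : Set G) := by
  obtain ⟨α, γ, β, δ, hα, hβ, hγ, h1, h2⟩ := h.maps hV hR hQ
  have hγd : ∀ d, γ d = d := by
    intro d
    obtain ⟨a, b, hab⟩ := hγ d
    have h3 := hc _ (h.e_mem 0 0 d)
    rw [hab, h.e_inv, ← h.e_add] at h3
    have h4 := h.V_Q _ _ _ h3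
    have h5 := eq_neg_of_add_eq_zero_left h4
    rwa [h.form.neg_F] at h5
  obtain ⟨b₀, c₀, hbc⟩ := h.exists_basis
  have hβδ : ∀ c, β c = δ c := by
    intro c
    have := h2 1 c
    rwa [one_smul, hγd, one_smul] at this
  have h3 : ∀ a, α a = a * B (δ b₀) (δ c₀) := by
    intro a
    have h4 := h1 (a • b₀) c₀
    rwa [h.form.B_smul, hbc, mul_one, h2, hγd, h.form.B_smul] at h4
  set D := B (δ b₀) (δ c₀) with hD
  have h4 : ∀ m : ℕ, ∀ a, x ^ m * e a 0 0 * (x ^ m)⁻¹ = e (a * D ^ m) 0 0 := by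
    intro m
    induction m with
    | zero => intro a; simp
    | succ m ih =>
      intro a
      have e1 : x ^ (m + 1) * e a 0 0 * (x ^ (m + 1))⁻¹ = x * (x ^ m * e a 0 0 * (x ^ m)⁻¹) * x⁻¹ := by
        rw [pow_succ']; group
      rw [e1, ih, hα, h3, pow_succ, mul_assoc]
  have h5 : D = 1 := by
    apply h.sq_one_of_pow (n := n)
    have h6 := h4 (2 ^ n) 1
    rw [hn, one_mul, inv_one, mul_one, one_mul] at h6
    exact (h.e_eq h6).1.symm
  rw [mem_centralizer_iff]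
  intro r hr
  obtain ⟨a, rfl⟩ := (h.R_iff r).1 hr
  have h6 := hα a
  rw [h3, h5, mul_one] at h6
  calc e a 0 0 * x = (x * e a 0 0 * x⁻¹) * x := by rw [h6]
    _ = x * e a 0 0 := by group

/-- **(quo), (lin)** -/
theorem lin {x : G} (hV : x ∈ normalizer (V : Set G)) (hR : x ∈ normalizer (R : Set G))
    (hQ : x ∈ normalizer (Q : Set G)) {n : ℕ} (hn : x ^ 2 ^ n = 1) (hc : x ∈ centralizer (R : Set G)) :
    (∀ v ∈ V, x * v * x⁻¹ * v⁻¹ ∈ Q) ∧ ∃ β : T → T, (∀ b, ∃ a, x * e 0 b 0 * x⁻¹ = e a (β b) 0) ∧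
      (∀ (d : F) (c : T), β (d • c) = d • β c) ∧ ∀ b c, B (β b) (β c) = B b c := by
  obtain ⟨α, γ, β, δ, hα, hβ, hγ, h1, h2⟩ := h.maps hV hR hQ
  have hαa : ∀ a, α a = a := by
    intro a
    have h3 := hα a
    have h4 := (mem_centralizer_iff.1 hc) _ (h.e_R a)
    rw [← h4, mul_inv_cancel_right] at h3
    exact (h.e_eq h3).1.symm
  obtain ⟨b₀, c₀, hbc⟩ := h.exists_basis
  have h3 : ∀ d, γ d * B (δ b₀) (δ c₀) = d := by
    intro d
    have h4 := h1 (d • b₀) c₀
    rw [h.form.B_smul, hbc, mul_one, h2, hαa, h.form.B_smul] at h4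
    exact h4.symm
  set D := B (δ b₀) (δ c₀) with hD
  have hD0 : D ≠ 0 := by
    intro h0
    have := h3 1
    rw [h0, mul_zero] at this
    exact zero_ne_one this
  have hγD : ∀ d, γ d = d * D⁻¹ := fun d => by rw [eq_mul_inv_iff_mul_eq₀ hD0]; exact h3 d
  have h3' : ∀ a b d, ∃ a' b', x * e a b d * x⁻¹ = e a' b' (d * D⁻¹) := by
    intro a b d
    obtain ⟨a₁, h4⟩ := hβ b
    obtain ⟨a₂, b₂, h5⟩ := hγ d
    refine ⟨α a + (a₁ + a₂), β b + b₂, ?_⟩
    have e2 : ∀ a b c : G, x * (a * (b * c)) * x⁻¹ = (x * a * x⁻¹) * ((x * b * x⁻¹) * (x * c * x⁻¹)) := by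
      intro a b c; group
    rw [h.split, e2, hα, h4, h5, ← h.e_add, ← h.e_add, hγD]; simp
  have h4 : ∀ m : ℕ, ∀ a b d, ∃ a' b', x ^ m * e a b d * (x ^ m)⁻¹ = e a' b' (d * D⁻¹ ^ m) := by
    intro m
    induction m with
    | zero => intro a b d; exact ⟨a, b, by simp⟩
    | succ m ih =>
      intro a b d
      obtain ⟨a₁, b₁, h5⟩ := ih a b d
      obtain ⟨a₂, b₂, h6⟩ := h3' a₁ b₁ (d * D⁻¹ ^ m)
      refine ⟨a₂, b₂, ?_⟩
      have e1 : x ^ (m + 1) * e a b d * (x ^ (m + 1))⁻¹ = x * (x ^ m * e a b d * (x ^ m)⁻¹) * x⁻¹ := by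
        rw [pow_succ']; group
      rw [e1, h5, h6, pow_succ, mul_assoc]
  have h5 : D⁻¹ = 1 := by
    apply h.sq_one_of_pow (n := n)
    obtain ⟨a, b, h6⟩ := h4 (2 ^ n) 0 0 1
    rw [hn, one_mul, inv_one, mul_one, one_mul] at h6
    exact (h.e_eq h6).2.2.symm
  have hγd : ∀ d, γ d = d := fun d => by rw [hγD, h5, mul_one]
  have hβδ : ∀ c, β c = δ c := by
    intro c
    have := h2 1 c
    rwa [one_smul, hγd, one_smul] at this
  refine ⟨?_, β, hβ, ?_, ?_⟩
  · intro v hv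
    obtain ⟨a, b, d, rfl⟩ := h.e_surj v hv
    obtain ⟨a', b', h6⟩ := h3' a b d
    rw [h6, h5, mul_one, h.e_inv, ← h.e_add, h.form.F2]
    exact h.E_le _ _
  · intro d c
    rw [h2, hγd, hβδ]
  · intro b c
    have := h1 b c
    rw [hαa] at this
    rw [this, hβδ c]

end Crd

end Cfsg.Agent.Omega.All.NOne

end

section


/-!
# THEOREM NAT (#13408), interface between (5) and (6)

`SixIn S z V V₁ M e` : the configuration at the end of step (5).  `H = C_G(V₁)`, `R = O₂(H)`,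
`C₁ = C_G(z) ∩ N_G(M)`, `J₁ = ⟨V^{C₁}⟩`, `e : M → F₂³` has the kernel `⟨z⟩`.
It is contradictory if the sectional 2-rank of `G` is at least 5 (`SixIn.false`, steps (6), (7)).
-/

set_option autoImplicit false
set_option linter.dupNamespace false

namespace Cfsg.Agent.Omega.NO1.Nat.SixIn

open Subgroup Cfsg Cfsg.Agent.ZN

universe u

variable {G : Type u} [Group G]

/-- `C₁ = C_G(z) ∩ N_G(M)` -/
def C₁ (z : G) (M : Subgroup G) : Subgroup G := centralizer ({z} : Set G) ⊓ normalizer (M : Set G)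

/-- `J₁ = ⟨V^{C₁}⟩` -/
def J₁ (z : G) (V M : Subgroup G) : Subgroup G :=
  closure {x | ∃ c ∈ C₁ z M, ∃ v ∈ V, x = c * v * c⁻¹}

/-- The end of step (5) of THEOREM NAT. -/
structure SixIn [Finite G] (S : Sylow 2 G) (z : G) (V V₁ M : Subgroup G) (e : G → Fin 3 → ZMod 2) :
    Prop where
  char2 : IsCharacteristicTwoType G
  zc_eq : zc (S : Subgroup G) = zpowers z
  z_ne : z ≠ 1
  z_sq : z * z = 1
  -- `V`, `V₁`
  V_comm : ∀ x ∈ V, ∀ y ∈ V, x * y = y * x
  V_sq : ∀ x ∈ V, x * x = 1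
  V_card : Nat.card V = 16
  V₁_le : V₁ ≤ V
  V₁_card : Nat.card V₁ = 4
  z_mem : z ∈ V₁
  S_V : (S : Subgroup G) ≤ normalizer (V : Set G)
  S_V₁ : (S : Subgroup G) ≤ normalizer (V₁ : Set G)
  tor : ∃ t ∈ normalizer (V : Set G), t ∈ normalizer (V₁ : Set G) ∧ t * z * t⁻¹ ≠ z
  V_le : V ≤ o2 (centralizer (V₁ : Set G))
  quad : ∀ v ∈ V, ∀ r ∈ o2 (centralizer (V₁ : Set G)), v * r * v⁻¹ * r⁻¹ ∈ V₁
  -- `M`
  M_comm : ∀ x ∈ M, ∀ y ∈ M, x * y = y * x
  M_sq : ∀ x ∈ M, x * x = 1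
  M_card : Nat.card M = 16
  V₁_le_M : V₁ ≤ M
  H_M : centralizer (V₁ : Set G) ≤ normalizer (M : Set G)
  S_M : (S : Subgroup G) ≤ normalizer (M : Set G)
  V_M : ∀ v ∈ V, v ∉ V₁ → ∀ m ∈ M, v * m = m * v → m ∈ V₁
  -- `M/⟨z⟩ = F₂³`, `C₁/C_G(M) = GL₃(2)`
  e_mul : ∀ x ∈ M, ∀ y ∈ M, e (x * y) = e x + e y
  e_z : e z = 0
  e_ker : ∀ x ∈ M, e x = 0 → x = 1 ∨ x = z
  faith : ∀ c ∈ C₁ z M, (∀ m ∈ M, e (c * m * c⁻¹) = e m) → ∀ m ∈ M, c * m = m * c
  full : ∀ i j : Fin 3, i ≠ j → ∃ g ∈ J₁ z V M, ∀ m ∈ M, e (g * m * g⁻¹) = e m + Pi.single i (e m j)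

end Cfsg.Agent.Omega.NO1.Nat.SixIn

end

section


/-!
# S1731: strongly quasithin simple groups which are not of even characteristic

* `SQT` : K-proper simple groups of characteristic 2 type, sectional 2-rank at least 5, `m_p ≤ 2` for all odd
  primes `p`, are known (project SQT; follows from `EvenHalf`).
* `Sec` : simple sections of strongly quasithin groups are strongly quasithin.
* `Rows` : the table (only the list of S1765).
* `s1731` : the literal S1731 from `SQT`, S1765, `RankFour`, `Sec`, `Rows`.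
-/

set_option autoImplicit false

namespace Cfsg.Agent.Omega.Quasithin

open Cfsg Cfsg.Agent.Omega.Assembly

universe u

/-- `m_p(G) ≤ 2` for all odd primes `p`. -/
def StrQ (G : Type u) [Group G] : Prop := ∀ p : ℕ, p.Prime → p ≠ 2 → PRankLE p 2 G

/-- **Project SQT.** -/
def SQT : Prop :=
  ∀ (G : Type u) [Group G] [Finite G] [IsSimpleGroup G], ¬ IsMulCommutative G → IsKProper G →
    IsCharacteristicTwoType G → ¬ SectionalPRankLE 2 4 G → StrQ G → IsKnownSimple' G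

theorem sqt_of_evenHalf (h : EvenHalf.{u}) : SQT.{u} := fun G _ _ _ h1 h2 h3 h4 _ => h G h1 h2 h3 h4

/-- **Theorem SEC** for one odd prime. -/
def Sec : Prop :=
  ∀ (p : ℕ) [Fact p.Prime], p ≠ 2 → ∀ (H : Type u) [Group H] [Finite H] (N : Subgroup H) [N.Normal],
    PRankLE p 2 H → IsSimpleGroup (H ⧸ N) → ¬ IsMulCommutative (H ⧸ N) → PRankLE p 2 (H ⧸ N)

/-- The members of `m_p ≤ 2` among the groups of Lie type in characteristic `p`. -/
def Small (p : ℕ) (G : Type u) [Group G] : Prop :=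
  ∃ (F : Type) (_ : Field F) (_ : Fintype F),
    ((Fintype.card F = p ∨ Fintype.card F = p ^ 2) ∧
        Nonempty (G ≃* Matrix.ProjectiveSpecialLinearGroup (Fin 2) F)) ∨
      (Fintype.card F = p ∧ Nonempty (G ≃* Matrix.ProjectiveSpecialLinearGroup (Fin 3) F)) ∨
      (Fintype.card F = p ^ 2 ∧ Nonempty (G ≃* PSU 3 F p))

/-- Row: the groups of type `P` in odd characteristic `p` with `m_p ≤ 2` are in `Small p`. -/
def LieRow (P : ℕ → ∀ (X : Type u) [Group X], Prop) : Prop :=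
  ∀ (p : ℕ), p.Prime → p ≠ 2 → ∀ (G : Type u) [Group G] [Finite G], P p G → PRankLE p 2 G → Small p G

/-- Row: the groups of type `P` have 3-rank at least 3. -/
def ThreeRow (P : ∀ (X : Type u) [Group X], Prop) : Prop :=
  ∀ (G : Type u) [Group G] [Finite G], P G → ¬ PRankLE 3 2 G

/-- Row: the groups of type `P` are of even characteristic. -/
def EvenRow (P : ∀ (X : Type u) [Group X], Prop) : Prop :=
  ∀ (G : Type u) [Group G] [Finite G], P G → IsOfEvenCharacteristic G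

/-- **The table for S1731.** -/
structure Rows : Prop where
  alt : ∀ n : ℕ, 9 ≤ n → ¬ PRankLE 3 2 (alternatingGroup (Fin n))
  psl : LieRow.{u} (fun p X _ => IsPSLChar p X)
  psp : LieRow.{u} (fun p X _ => IsPSpChar p X)
  psu : LieRow.{u} (fun p X _ => IsPSUChar p X)
  omegaOdd : LieRow.{u} (fun p X _ => IsPOmegaOddChar p X)
  omegaPlus : LieRow.{u} (fun p X _ => IsPOmegaPlusChar p X)
  omegaMinus : LieRow.{u} (fun p X _ => IsPOmegaMinusChar p X)
  chev : LieRow.{u} (fun p X _ => IsExceptionalChevChar p X)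
  twisted : LieRow.{u} (fun p X _ => IsTwistedE6D4Char p X)
  ree : LieRow.{u} (fun p X _ => p = 3 ∧ Lie.IsoRee X)
  m12 : EvenRow.{u} (fun X _ => Spor.IsoM12 X)
  j2 : EvenRow.{u} (fun X _ => Spor.IsoJ2 X)
  hs : EvenRow.{u} (fun X _ => Spor.IsoHS X)
  he : EvenRow.{u} (fun X _ => Spor.IsoHe X)
  ru : EvenRow.{u} (fun X _ => Spor.IsoRu X)
  mcl : ThreeRow.{u} (fun X _ => Spor.IsoMcL X)
  ly : ThreeRow.{u} (fun X _ => Spor.IsoLy X)
  on : ThreeRow.{u} (fun X _ => Spor.IsoON X)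
  suz : ThreeRow.{u} (fun X _ => Spor.IsoSuz X)
  co3 : ThreeRow.{u} (fun X _ => Spor.IsoCo3 X)
  co1 : ThreeRow.{u} (fun X _ => Spor.IsoCo1 X)
  fi22 : ThreeRow.{u} (fun X _ => Spor.IsoFi22 X)
  fi23 : ThreeRow.{u} (fun X _ => Spor.IsoFi23 X)
  fi24 : ThreeRow.{u} (fun X _ => Spor.IsoFi24' X)
  hn : ThreeRow.{u} (fun X _ => Spor.IsoHN X)
  b : ThreeRow.{u} (fun X _ => Spor.IsoB X)
  m : ThreeRow.{u} (fun X _ => Spor.IsoM X)

/-! ### elementary facts on ranks -/

theorem prankLE_congr {G H : Type*} [Group G] [Group H] {p k : ℕ} (e : G ≃* H) (h : PRankLE p k G) :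
    PRankLE p k H := by
  intro A hA hp
  have hc : ∀ a ∈ A, ∀ b ∈ A, a * b = b * a := fun a ha b hb => by
    have := hA.is_comm.comm (⟨a, ha⟩ : A) ⟨b, hb⟩
    exact congrArg Subtype.val this
  have h1 := h (A.map e.symm.toMonoidHom) ⟨⟨by
    rintro ⟨_, x, hx, rfl⟩ ⟨_, y, hy, rfl⟩
    apply Subtype.ext
    change e.symm x * e.symm y = e.symm y * e.symm x
    rw [← map_mul, ← map_mul, hc x hx y hy]⟩⟩ (by
    rintro _ ⟨x, hx, rfl⟩
    change (e.symm x) ^ p = 1
    rw [← map_pow, hp x hx, map_one])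
  rwa [Subgroup.card_map_of_injective e.symm.injective] at h1

theorem prankLE_subgroup {G : Type*} [Group G] {p k : ℕ} (h : PRankLE p k G) (H : Subgroup G) :
    PRankLE p k H := by
  intro A hA hp
  have hc : ∀ a ∈ A, ∀ b ∈ A, a * b = b * a := fun a ha b hb => by
    have := hA.is_comm.comm (⟨a, ha⟩ : A) ⟨b, hb⟩
    exact congrArg Subtype.val this
  have h1 := h (A.map H.subtype) ⟨⟨by
    rintro ⟨_, x, hx, rfl⟩ ⟨_, y, hy, rfl⟩
    apply Subtype.ext
    change (x : G) * y = y * x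
    rw [← Subgroup.coe_mul, ← Subgroup.coe_mul, hc x hx y hy]⟩⟩ (by
    rintro _ ⟨x, hx, rfl⟩
    change (x : G) ^ p = 1
    rw [← Subgroup.coe_pow, hp x hx, Subgroup.coe_one])
  rwa [Subgroup.card_map_of_injective H.subtype_injective] at h1

/-- **Simple sections of strongly quasithin groups are strongly quasithin.** -/
theorem strQ_section (hsec : Sec.{u}) {G : Type u} [Group G] [Finite G] (hG : StrQ G) (H : Subgroup G)
    (K : Subgroup H) (N : Subgroup K) [N.Normal] (hs : IsSimpleGroup (K ⧸ N))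
    (hc : ¬ IsMulCommutative (K ⧸ N)) : StrQ (K ⧸ N) := by
  intro p hp hp2
  have : Fact p.Prime := ⟨hp⟩
  exact hsec p hp2 K N (prankLE_subgroup (prankLE_subgroup (hG p hp hp2) H) K) hs hc

/-! ### the induction -/

theorem known_aux (hO : OddKnown.{u}) (hR : RankFour.{u}) (hE : SQT.{u}) (hsec : Sec.{u}) :
    ∀ (n : ℕ) (G : Type u) [Group G] [Finite G], IsSimpleGroup G → ¬ IsMulCommutative G → StrQ G →
      Nat.card G = n → IsKnownSimple' G ∧ IsKProper G := by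
  intro n
  induction n using Nat.strong_induction_on with
  | _ n ih =>
    intro G _ _ hs hc hq hn
    have hK : IsKProper G := by
      intro H hH K N _ hs' hc'
      have h1 : Nat.card (K ⧸ N) ≤ Nat.card K := by
        rw [← Subgroup.index_eq_card]
        exact Nat.le_of_dvd Nat.card_pos N.index_dvd_card
      have h2 : Nat.card K ≤ Nat.card H := Subgroup.card_le_card_group K
      have h3 : Nat.card H < Nat.card G := by
        refine lt_of_le_of_ne (Subgroup.card_le_card_group H) fun h => hH ?_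
        exact Subgroup.eq_top_of_card_eq H h
      exact (ih _ (hn ▸ lt_of_le_of_lt (h1.trans h2) h3) (K ⧸ N) hs' hc'
        (strQ_section hsec hq H K N hs' hc') rfl).1
    refine ⟨?_, hK⟩
    have := hs
    by_cases h2 : IsCharacteristicTwoType G
    · by_cases h4 : SectionalPRankLE 2 4 G
      · exact hR G hc hK h2 h4
      · exact hE G hc hK h2 h4 hq
    · exact hO G hc hK h2

/-- **Strongly quasithin simple groups are K-proper (and known).** -/
theorem kproper (hO : OddKnown.{u}) (hR : RankFour.{u}) (hE : SQT.{u}) (hsec : Sec.{u}) (G : Type u)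
    [Group G] [Finite G] [hs : IsSimpleGroup G] (hc : ¬ IsMulCommutative G) (hq : StrQ G) : IsKProper G :=
  (known_aux hO hR hE hsec _ G hs hc hq rfl).2

/-- A simple group of characteristic 2 type is of even characteristic. -/
theorem evenChar_of_charTwoType {G : Type u} [Group G] (h : IsCharacteristicTwoType G) :
    IsOfEvenCharacteristic G := by
  intro M hM _
  obtain ⟨T, hT, hT1, rfl⟩ := hM
  exact h.2 T hT hT1

/-! ### the literal S1731 -/

/-- the Lie rows together -/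
theorem Rows.lie (R : Rows.{u}) {p : ℕ} (hp : p.Prime) (hp2 : p ≠ 2) {G : Type u} [Group G] [Finite G]
    (h : IsLieTypeChar p G) (hq : PRankLE p 2 G) : Small p G := by
  rcases h with h | h | h | h | h | h | h | h | h | h | h
  · exact R.psl p hp hp2 G h hq
  · exact R.psp p hp hp2 G h hq
  · exact R.psu p hp hp2 G h hq
  · exact R.omegaOdd p hp hp2 G h hq
  · exact R.omegaPlus p hp hp2 G h hq
  · exact R.omegaMinus p hp hp2 G h hq
  · exact R.chev p hp hp2 G h hq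
  · exact R.twisted p hp hp2 G h hq
  · exact absurd h.1 hp2
  · exact absurd h.1 hp2
  · exact R.ree p hp hp2 G h hq

/-- **S1731** from its parts. -/
theorem s1731 (hO : OddLit.{u}) (hR : RankFour.{u}) (hS : SQT.{u}) (hsec : Sec.{u}) (R : Rows.{u})
    {G : Type u} [Group G] [Finite G] [hs : IsSimpleGroup G]
    (hG : ¬ IsMulCommutative G) (hq : ∀ p : ℕ, p.Prime → p ≠ 2 → Cfsg.PRankLE p 2 G)
    (hE : ¬ Cfsg.IsOfEvenCharacteristic G) :
    Nonempty (G ≃* alternatingGroup (Fin 7)) ∨ Cfsg.Spor.IsoJ1 G ∨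
      ∃ p : ℕ, p.Prime ∧ 5 ≤ p ∧ ∃ (F : Type) (_ : Field F) (_ : Fintype F),
        ((Fintype.card F = p ∨ Fintype.card F = p ^ 2) ∧ Nonempty (G ≃* Matrix.ProjectiveSpecialLinearGroup (Fin 2) F)) ∨
        (Fintype.card F = p ∧ Nonempty (G ≃* Matrix.ProjectiveSpecialLinearGroup (Fin 3) F)) ∨
        (Fintype.card F = p ^ 2 ∧ Nonempty (G ≃* Cfsg.PSU 3 F p)) := by
  have hK : IsKProper G := kproper (oddKnown hO) hR hS hsec G hG hq
  have h2 : ¬ IsCharacteristicTwoType G := fun h => hE (evenChar_of_charTwoType h)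
  have h3 : PRankLE 3 2 G := hq 3 Nat.prime_three (by norm_num)
  rcases hO G hG hK h2 with ⟨⟨p, hp, hp2, h⟩, hx2, hx3, hxu⟩ | ⟨n, hn, ⟨e⟩⟩ | h | h | h | h | h | h | h |
      h | h | h | h | h | h | h | h | h | h | h
  · right; right
    obtain ⟨F, iF, iFt, h⟩ := R.lie hp hp2 h (hq p hp hp2)
    by_cases hp3 : p = 3
    · exfalso
      subst hp3
      rcases h with ⟨h, e⟩ | ⟨h, e⟩ | ⟨h, e⟩
      · apply hx2
        refine ⟨F, iF, iFt, ?_, e⟩
        rcases h with h | h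
        · left
          rw [h]
          exact ⟨Nat.prime_three, Or.inl ⟨2, by norm_num⟩⟩
        · right
          rw [h]
          norm_num
      · exact hx3 ⟨F, iF, iFt, h, Or.inl e⟩
      · exact hxu ⟨F, iF, iFt, h, Or.inl e⟩
    · refine ⟨p, hp, ?_, F, iF, iFt, h⟩
      have h4 : p ≠ 4 := by rintro rfl; exact absurd hp (by decide)
      have := hp.two_le
      omega
  · rcases hn with rfl | hn
    · exact Or.inl ⟨e⟩
    · exact absurd (prankLE_congr e h3) (R.alt n hn)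
  · exact absurd (R.m12 G h) hE
  · exact Or.inr (Or.inl h)
  · exact absurd (R.j2 G h) hE
  · exact absurd h3 (R.mcl G h)
  · exact absurd h3 (R.ly G h)
  · exact absurd (R.hs G h) hE
  · exact absurd (R.he G h) hE
  · exact absurd h3 (R.on G h)
  · exact absurd h3 (R.suz G h)
  · exact absurd (R.ru G h) hE
  · exact absurd h3 (R.co3 G h)
  · exact absurd h3 (R.co1 G h)
  · exact absurd h3 (R.fi22 G h)
  · exact absurd h3 (R.fi23 G h)
  · exact absurd h3 (R.fi24 G h)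
  · exact absurd h3 (R.hn G h)
  · exact absurd h3 (R.b G h)
  · exact absurd h3 (R.m G h)

end Cfsg.Agent.Omega.Quasithin

end

section


/-!
# The orthogonal module `O₄⁻(2)` of `A₅`, `S₅` (project OMEGA, II.c and NO-1, Theorem E; helper492)

`V` is elementary abelian of order 16, generated by the five points `z 0, …, z 4` with product 1
(`V` = even subsets of `{0, …, 4}`, `z i` = the complement of `i`); `N_G(V)` permutes the points and
induces at least `A₅` on them.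
-/

set_option autoImplicit false
set_option linter.style.haveILetI false

namespace Cfsg.Agent.Omega.TT

open Subgroup Cfsg.Agent.ZN Equiv

universe u

variable {G : Type u} [Group G]

/-- `g` acts on the points `z i` as the permutation `σ`. -/
def Act (z : Fin 5 → G) (g : G) (σ : Perm (Fin 5)) : Prop := ∀ i, g * z i * g⁻¹ = z (σ i)

/-- `V` is elementary abelian, generated by five different points `z i` with product 1; its normalizer
permutes the points and induces at least the alternating group on them. -/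
structure Pts (V : Subgroup G) (z : Fin 5 → G) : Prop where
  gen : V = closure (Set.range z)
  sq : ∀ i, z i * z i = 1
  comm : ∀ i j, z i * z j = z j * z i
  prod : z 0 * z 1 * z 2 * z 3 * z 4 = 1
  inj : Function.Injective z
  perm : ∀ g ∈ normalizer (V : Set G), ∃ σ : Perm (Fin 5), Act z g σ
  alt : ∀ σ ∈ alternatingGroup (Fin 5), ∃ g ∈ normalizer (V : Set G), Act z g σ

/-- The four-group on `{0, 1, 2, 3}`. -/
def IsFour (σ : Perm (Fin 5)) : Prop :=
  σ = 1 ∨ σ = swap 0 1 * swap 2 3 ∨ σ = swap 0 2 * swap 1 3 ∨ σ = swap 0 3 * swap 1 2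

instance : DecidablePred IsFour := fun σ => by unfold IsFour; infer_instance

/-! ### Permutations -/

/-- The 3-cycle. -/
def tau : Perm (Fin 5) := swap 0 1 * swap 1 2

theorem tau_mem : tau ∈ alternatingGroup (Fin 5) := by
  rw [Equiv.Perm.mem_alternatingGroup]; decide

theorem tau_four : tau 4 = 4 := by decide

theorem swap_mul_swap_mem {i j k l : Fin 5} (h : i ≠ j) (h' : k ≠ l) :
    swap i j * swap k l ∈ alternatingGroup (Fin 5) := by
  rw [Equiv.Perm.mem_alternatingGroup, Perm.sign_mul, Perm.sign_swap h, Perm.sign_swap h']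
  simp

theorem exists_alt_move (i j : Fin 5) : ∃ σ : Perm (Fin 5), σ ∈ alternatingGroup (Fin 5) ∧ σ i = j := by
  by_cases hij : i = j
  · exact ⟨1, one_mem _, by rw [hij]; rfl⟩
  have hd : ∀ i j : Fin 5, i ≠ j → ∃ k l : Fin 5, k ≠ l ∧ swap i j (swap k l i) = j := by decide
  obtain ⟨k, l, hkl, e⟩ := hd i j hij
  exact ⟨_, swap_mul_swap_mem hij hkl, e⟩

set_option maxRecDepth 20000 in
theorem perm_four : ∀ σ : Perm (Fin 5), σ 4 = 4 → ¬ IsFour σ →
    ((σ * σ) ^ 3 = 1 ∧ σ * σ ≠ 1) ∨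
      ((σ * (tau * σ * tau⁻¹)) ^ 3 = 1 ∧ σ * (tau * σ * tau⁻¹) ≠ 1) := by
  decide

theorem tau_conj1 : tau * (swap 0 1 * swap 2 3) * tau⁻¹ = swap 0 3 * swap 1 2 := by decide
theorem tau_conj2 : tau * (swap 0 3 * swap 1 2) * tau⁻¹ = swap 0 2 * swap 1 3 := by decide
theorem tau_conj3 : tau * (swap 0 2 * swap 1 3) * tau⁻¹ = swap 0 1 * swap 2 3 := by decide

namespace Act

variable {z : Fin 5 → G} {g h : G} {σ τ : Perm (Fin 5)}

theorem one : Act z 1 1 := fun i => by simp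

theorem mul (hg : Act z g σ) (hh : Act z h τ) : Act z (g * h) (σ * τ) := fun i => by
  have e : g * h * z i * (g * h)⁻¹ = g * (h * z i * h⁻¹) * g⁻¹ := by group
  rw [e, hh i, hg (τ i)]; rfl

theorem inv (hg : Act z g σ) : Act z g⁻¹ σ⁻¹ := fun i => by
  have e := hg (σ⁻¹ i)
  have e' : σ (σ⁻¹ i) = i := by simp
  rw [e'] at e
  rw [← e]; group

theorem conj (hg : Act z g σ) (hh : Act z h τ) : Act z (h * g * h⁻¹) (τ * σ * τ⁻¹) :=
  (hh.mul hg).mul hh.inv

theorem pow (hg : Act z g σ) (n : ℕ) : Act z (g ^ n) (σ ^ n) := by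
  induction n with
  | zero => simpa using one
  | succ n ih => rw [pow_succ, pow_succ]; exact ih.mul hg

theorem unique (hz : Function.Injective z) (hg : Act z g σ) (hg' : Act z g τ) : σ = τ := by
  ext i
  have := hz ((hg i).symm.trans (hg' i))
  rw [this]

end Act

namespace Pts

variable {V : Subgroup G} {z : Fin 5 → G}

section

variable (h : Pts V z)

include h

theorem mem (i : Fin 5) : z i ∈ V := by
  rw [h.gen]; exact subset_closure ⟨i, rfl⟩

theorem comm_mem {a b : G} (ha : a ∈ V) (hb : b ∈ V) : a * b = b * a := by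
  have h1 : ∀ x ∈ V, ∀ i, x * z i = z i * x := by
    intro x hx i
    rw [h.gen] at hx
    induction hx using closure_induction with
    | mem x hx => obtain ⟨j, rfl⟩ := hx; exact h.comm j i
    | one => simp
    | mul x y _ _ hx hy => rw [mul_assoc, hy, ← mul_assoc, hx, mul_assoc]
    | inv x _ hx => exact Commute.inv_left hx
  rw [h.gen] at hb
  induction hb using closure_induction with
  | mem x hx => obtain ⟨j, rfl⟩ := hx; exact h1 a ha j
  | one => simp
  | mul x y _ _ hx hy => rw [← mul_assoc, hx, mul_assoc, hy, mul_assoc]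
  | inv x _ hx => exact Commute.inv_right hx

theorem sq_mem {a : G} (ha : a ∈ V) : a * a = 1 := by
  have ha' := ha
  rw [h.gen] at ha
  induction ha using closure_induction with
  | mem x hx => obtain ⟨j, rfl⟩ := hx; exact h.sq j
  | one => simp
  | mul x y hx1 hy1 hx hy =>
    rw [← h.gen] at hx1 hy1
    calc x * y * (x * y) = x * (y * x) * y := by group
      _ = x * (x * y) * y := by rw [h.comm_mem hy1 hx1]
      _ = (x * x) * (y * y) := by group
      _ = 1 := by rw [hx hx1, hy hy1, one_mul]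
  | inv x hx1 hx =>
    rw [← h.gen] at hx1
    rw [← mul_inv_rev, hx hx1, inv_one]

theorem le_centralizer : V ≤ centralizer (V : Set G) :=
  fun _ ha => mem_centralizer_iff.2 fun _ hb => h.comm_mem hb ha

theorem inv_eq (i : Fin 5) : (z i)⁻¹ = z i := inv_eq_of_mul_eq_one_left (h.sq i)

/-- An element commuting with the points centralises `V`. -/
theorem mem_cent {g : G} (hg : Act z g 1) : g ∈ centralizer (V : Set G) := by
  rw [h.gen, centralizer_closure, mem_centralizer_iff]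
  rintro _ ⟨i, rfl⟩
  have := hg i
  rw [Perm.one_apply, mul_inv_eq_iff_eq_mul] at this
  exact this.symm

theorem act_one_of_cent {g : G} (hg : g ∈ centralizer (V : Set G)) : Act z g 1 := fun i => by
  rw [Perm.one_apply, mul_inv_eq_iff_eq_mul]
  exact ((mem_centralizer_iff.1 hg) _ (h.mem i)).symm

/-- Fixing a point is the same as commuting with it. -/
theorem fix_iff {g : G} {σ : Perm (Fin 5)} (hg : Act z g σ) (i : Fin 5) : g * z i = z i * g ↔ σ i = i := by
  rw [← mul_inv_eq_iff_eq_mul, hg i]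
  exact h.inj.eq_iff

theorem four_eq : z 4 = z 0 * z 1 * z 2 * z 3 := by
  rw [← inv_eq_of_mul_eq_one_right h.prod]
  have h1 : z 0 * z 1 * z 2 * z 3 ∈ V := mul_mem (mul_mem (mul_mem (h.mem 0) (h.mem 1)) (h.mem 2)) (h.mem 3)
  exact inv_eq_of_mul_eq_one_left (h.sq_mem h1)

/-- All points are nontrivial. -/
theorem ne_one (i : Fin 5) : z i ≠ 1 := by
  intro hi
  -- any other point is conjugate to `z i`
  have key : ∀ j, z j = 1 := by
    intro j
    obtain ⟨σ, hσ, hσi⟩ := exists_alt_move i j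
    obtain ⟨g, -, hg⟩ := h.alt σ hσ
    have := hg i
    rw [hi, hσi] at this
    rw [← this]; group
  have := h.inj ((key 0).trans (key 1).symm)
  exact absurd this (by decide)

/-- The points as elements of `V`. -/
def zV (i : Fin 5) : V := ⟨z i, h.mem i⟩

/-- `V` is a commutative group. -/
@[reducible] def cg : CommGroup V :=
  { (inferInstance : Group V) with mul_comm := fun a b => Subtype.ext (h.comm_mem a.2 b.2) }

/-- The element of `V` given by a set of points. -/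
def ev (s : Finset (Fin 5)) : G :=
  letI := h.cg
  ((∏ i : Fin 5, (if i ∈ s then h.zV i else 1) : V) : G)

theorem ev_mem (s : Finset (Fin 5)) : h.ev s ∈ V := SetLike.coe_mem _

theorem ev_empty : h.ev ∅ = 1 := by simp [ev]

theorem ev_singleton (i : Fin 5) : h.ev {i} = z i := by
  letI := h.cg
  have e : (∏ j : Fin 5, (if j ∈ ({i} : Finset (Fin 5)) then h.zV j else 1) : V) = h.zV i := by
    rw [Finset.prod_eq_single i]
    · simp
    · intro j _ hj; simp [hj]
    · intro hi; exact absurd (Finset.mem_univ i) hi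
  exact congrArg Subtype.val e

theorem ev_mul (s t : Finset (Fin 5)) : h.ev s * h.ev t = h.ev (symmDiff s t) := by
  letI := h.cg
  have hsq : ∀ i, h.zV i * h.zV i = 1 := fun i => Subtype.ext (h.sq i)
  have e : (∏ i : Fin 5, (if i ∈ s then h.zV i else 1) : V) * (∏ i : Fin 5, (if i ∈ t then h.zV i else 1) : V) =
      (∏ i : Fin 5, (if i ∈ symmDiff s t then h.zV i else 1) : V) := by
    rw [← Finset.prod_mul_distrib]
    refine Finset.prod_congr rfl fun i _ => ?_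
    by_cases h1 : i ∈ s <;> by_cases h2 : i ∈ t <;> simp [Finset.mem_symmDiff, h1, h2, hsq]
  exact congrArg Subtype.val e

theorem ev_univ : h.ev Finset.univ = 1 := by
  letI := h.cg
  have e : (∏ i : Fin 5, (if i ∈ (Finset.univ : Finset (Fin 5)) then h.zV i else 1) : V) = 1 := by
    simp only [Finset.mem_univ, if_true]
    rw [Fin.prod_univ_five]
    exact Subtype.ext h.prod
  exact congrArg Subtype.val e

theorem ev_compl (s : Finset (Fin 5)) : h.ev sᶜ = h.ev s := by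
  have h1 := h.ev_mul s Finset.univ
  rw [h.ev_univ, mul_one] at h1
  have h2 : symmDiff s Finset.univ = sᶜ := by
    ext i; simp [Finset.mem_symmDiff]
  rw [h2] at h1
  exact h1.symm

theorem ev_conj {g : G} {σ : Perm (Fin 5)} (hg : Act z g σ) (s : Finset (Fin 5)) :
    g * h.ev s * g⁻¹ = h.ev (s.map σ.toEmbedding) := by
  letI := h.cg
  have hgV : ∀ v ∈ V, g * v * g⁻¹ ∈ V := by
    intro v hv
    rw [h.gen] at hv ⊢
    induction hv using closure_induction with
    | mem x hx => obtain ⟨i, rfl⟩ := hx; rw [hg i]; exact subset_closure ⟨_, rfl⟩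
    | one => simp
    | mul x y _ _ hx hy =>
      have e : g * (x * y) * g⁻¹ = (g * x * g⁻¹) * (g * y * g⁻¹) := by group
      rw [e]; exact mul_mem hx hy
    | inv x _ hx =>
      have e : g * x⁻¹ * g⁻¹ = (g * x * g⁻¹)⁻¹ := by group
      rw [e]; exact inv_mem hx
  let c : V →* V :=
    { toFun := fun v => ⟨g * v * g⁻¹, hgV v v.2⟩
      map_one' := Subtype.ext (by simp)
      map_mul' := fun a b => Subtype.ext (by simp) }
  have e : c (∏ i : Fin 5, (if i ∈ s then h.zV i else 1)) =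
      (∏ i : Fin 5, (if i ∈ s.map σ.toEmbedding then h.zV i else 1) : V) := by
    rw [map_prod]
    refine Eq.trans ?_ (Equiv.prod_comp σ (fun i => if i ∈ s.map σ.toEmbedding then h.zV i else 1))
    refine Finset.prod_congr rfl fun i _ => ?_
    have h2 : σ i ∈ s.map σ.toEmbedding ↔ i ∈ s := by simp
    by_cases hi : i ∈ s
    · simp only [if_pos hi, if_pos (h2.2 hi)]
      exact Subtype.ext (hg i)
    · simp only [if_neg hi, if_neg (fun h3 => hi (h2.1 h3)), map_one]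
  exact congrArg Subtype.val e

theorem exists_ev {v : G} (hv : v ∈ V) : ∃ s, v = h.ev s := by
  have hv' := hv
  rw [h.gen] at hv'
  induction hv' using closure_induction with
  | mem x hx => obtain ⟨i, rfl⟩ := hx; exact ⟨{i}, (h.ev_singleton i).symm⟩
  | one => exact ⟨∅, h.ev_empty.symm⟩
  | mul x y hx1 hy1 hx hy =>
    rw [← h.gen] at hx1 hy1
    obtain ⟨s, rfl⟩ := hx hx1
    obtain ⟨t, rfl⟩ := hy hy1
    exact ⟨_, h.ev_mul s t⟩
  | inv x hx1 hx =>
    rw [← h.gen] at hx1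
    obtain ⟨s, rfl⟩ := hx hx1
    exact ⟨s, inv_eq_of_mul_eq_one_left (h.sq_mem hx1)⟩

theorem ev_eq_one {s : Finset (Fin 5)} : h.ev s = 1 ↔ s = ∅ ∨ s = Finset.univ := by
  constructor
  · have hd : ∀ s : Finset (Fin 5), s = ∅ ∨ s = Finset.univ ∨ (∃ i, s = {i}) ∨ (∃ i, sᶜ = {i}) ∨
        (∃ i j, i ≠ j ∧ s = symmDiff {i} {j}) ∨ (∃ i j, i ≠ j ∧ sᶜ = symmDiff {i} {j}) := by decide
    intro h1
    have h2 : ∀ i j, i ≠ j → h.ev (symmDiff {i} {j}) ≠ 1 := by
      intro i j hij e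
      rw [← h.ev_mul, h.ev_singleton, h.ev_singleton] at e
      have := eq_inv_of_mul_eq_one_left e
      rw [h.inv_eq] at this
      exact hij (h.inj this)
    rcases hd s with h3 | h3 | ⟨i, h3⟩ | ⟨i, h3⟩ | ⟨i, j, hij, h3⟩ | ⟨i, j, hij, h3⟩
    · exact Or.inl h3
    · exact Or.inr h3
    · rw [h3, h.ev_singleton] at h1
      exact absurd h1 (h.ne_one i)
    · rw [← h.ev_compl, h3, h.ev_singleton] at h1
      exact absurd h1 (h.ne_one i)
    · rw [h3] at h1
      exact absurd h1 (h2 i j hij)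
    · rw [← h.ev_compl, h3] at h1
      exact absurd h1 (h2 i j hij)
  · rintro (rfl | rfl)
    · exact h.ev_empty
    · exact h.ev_univ

theorem ev_inj {s t : Finset (Fin 5)} : h.ev s = h.ev t ↔ s = t ∨ s = tᶜ := by
  have h1 : h.ev s = h.ev t ↔ h.ev (symmDiff s t) = 1 := by
    rw [← h.ev_mul]
    constructor
    · intro e; rw [e, h.sq_mem (h.ev_mem t)]
    · intro e
      have := eq_inv_of_mul_eq_one_left e
      rw [inv_eq_of_mul_eq_one_left (h.sq_mem (h.ev_mem t))] at this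
      exact this
  rw [h1, h.ev_eq_one]
  refine or_congr symmDiff_eq_bot ?_
  constructor
  · intro e
    ext i
    have := congrArg (i ∈ ·) e
    simp only [Finset.mem_symmDiff, Finset.mem_univ, eq_iff_iff, iff_true] at this
    rw [Finset.mem_compl]
    tauto
  · rintro rfl
    ext i
    simp only [Finset.mem_symmDiff, Finset.mem_univ, Finset.mem_compl]
    tauto

end

end Pts

end Cfsg.Agent.Omega.TT

end

section


/-!
# The frame of Theorem E (project OMEGA; helper492)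

`Hyp V z S`: `V` with its points, `S` a maximal 2-subgroup of `G` normalising `V` and fixing the point `z 4`,
2-locals have characteristic 2, `V ≰ O₂(C_G(z 4))`.
`ww z k` = normal closure in `C_G(z k)` of the products of two points different from `z k`;
`bb z k` = its centraliser in `O₂(C_G(z k))`.
-/

set_option autoImplicit false

namespace Cfsg.Agent.Omega.TT

open Subgroup Cfsg.Agent.ZN Equiv Cfsg.Agent.MinSimple.MinParabolic Cfsg.Agent.MinSimple.VModule
open Cfsg.Agent.MinSimple.Basic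

universe u

variable {G : Type u} [Group G] {V : Subgroup G} {z : Fin 5 → G}

/-- `C_G(z k)` -/
abbrev cc (z : Fin 5 → G) (k : Fin 5) : Subgroup G := centralizer ({z k} : Set G)

/-- `O₂(C_G(z k))` -/
abbrev qq (z : Fin 5 → G) (k : Fin 5) : Subgroup G := o2 (cc z k)

/-- `W_k` -/
def ww (z : Fin 5 → G) (k : Fin 5) : Subgroup G :=
  closure {x | ∃ c ∈ cc z k, ∃ i j, i ≠ k ∧ j ≠ k ∧ x = c * (z i * z j) * c⁻¹}

/-- `B_k` -/
def bb (z : Fin 5 → G) (k : Fin 5) : Subgroup G := qq z k ⊓ centralizer (ww z k : Set G)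

/-- `Y_k` -/
def yy (V : Subgroup G) (z : Fin 5 → G) (k : Fin 5) : Subgroup G :=
  closure {x | ∃ c ∈ cc z k, ∃ v ∈ V, x = c * v * c⁻¹}

theorem mem_cc {k : Fin 5} {g : G} : g ∈ cc z k ↔ g * z k = z k * g := mem_centralizer_singleton_iff

/-! ### Equivariance -/

section conj

variable {g : G} {σ : Perm (Fin 5)} (hg : Act z g σ)

include hg

theorem conj_mem_cc {k : Fin 5} {x : G} (hx : x ∈ cc z k) : g * x * g⁻¹ ∈ cc z (σ k) := by
  rw [mem_cc] at hx ⊢
  rw [← hg k]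
  calc g * x * g⁻¹ * (g * z k * g⁻¹) = g * (x * z k) * g⁻¹ := by group
    _ = g * (z k * x) * g⁻¹ := by rw [hx]
    _ = _ := by group

theorem conj_mem_ww {k : Fin 5} {x : G} (hx : x ∈ ww z k) : g * x * g⁻¹ ∈ ww z (σ k) := by
  rw [ww] at hx
  induction hx using closure_induction with
  | mem x hx =>
    obtain ⟨c, hc, i, j, hi, hj, rfl⟩ := hx
    refine subset_closure ⟨g * c * g⁻¹, conj_mem_cc hg hc, σ i, σ j, fun e => hi (σ.injective e),
      fun e => hj (σ.injective e), ?_⟩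
    rw [← hg i, ← hg j]; group
  | one => simp
  | mul x y _ _ hx hy =>
    have e : g * (x * y) * g⁻¹ = (g * x * g⁻¹) * (g * y * g⁻¹) := by group
    rw [e]; exact mul_mem hx hy
  | inv x _ hx =>
    have e : g * x⁻¹ * g⁻¹ = (g * x * g⁻¹)⁻¹ := by group
    rw [e]; exact inv_mem hx

theorem map_cc (k : Fin 5) : (cc z k).map (MulAut.conj g).toMonoidHom = cc z (σ k) := by
  ext x
  constructor
  · rintro ⟨y, hy, rfl⟩
    exact conj_mem_cc hg hy
  · intro hx
    have h1 := conj_mem_cc hg.inv hx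
    have e : σ⁻¹ (σ k) = k := by simp
    rw [e] at h1
    exact ⟨_, h1, by simp; group⟩

theorem conj_mem_qq {k : Fin 5} {x : G} (hx : x ∈ qq z k) : g * x * g⁻¹ ∈ qq z (σ k) := by
  have h1 := MinPar.o2_map_equiv (MulAut.conj g) (cc z k)
  rw [map_cc hg] at h1
  rw [qq, h1]
  exact ⟨x, hx, rfl⟩

theorem conj_mem_bb {k : Fin 5} {x : G} (hx : x ∈ bb z k) : g * x * g⁻¹ ∈ bb z (σ k) := by
  refine mem_inf.2 ⟨conj_mem_qq hg (mem_inf.1 hx).1, mem_centralizer_iff.2 fun w hw => ?_⟩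
  have h1 := conj_mem_ww hg.inv hw
  have e : σ⁻¹ (σ k) = k := by simp
  rw [e] at h1
  have h2 := mem_centralizer_iff.1 (mem_inf.1 hx).2 _ h1
  calc w * (g * x * g⁻¹) = g * ((g⁻¹ * w * g⁻¹⁻¹) * x) * g⁻¹ := by group
    _ = _ := by rw [h2]; group

end conj

/-! ### The hypothesis -/

/-- The hypothesis of Theorem E. -/
structure Hyp (V : Subgroup G) (z : Fin 5 → G) (S : Subgroup G) : Prop where
  pts : Pts V z
  two : IsPGroup 2 S
  max : ∀ U : Subgroup G, IsPGroup 2 U → S ≤ normalizer (U : Set G) → U ≤ S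
  norm : S ≤ normalizer (V : Set G)
  fix : S ≤ cc z 4
  char2 : ∀ U : Subgroup G, IsPGroup 2 U → U ≠ ⊥ →
    normalizer (U : Set G) ⊓ centralizer (o2 (normalizer (U : Set G)) : Set G) ≤ o2 (normalizer (U : Set G))
  not_le : ¬ V ≤ qq z 4

variable {S : Subgroup G}

theorem conj_mem_o2 {L : Subgroup G} {l q : G} (hl : l ∈ L) (hq : q ∈ o2 L) : l * q * l⁻¹ ∈ o2 L :=
  (mem_normalizer_iff.1 (le_normalizer_o2 L hl) q).1 hq

theorem norm_iff {A : Subgroup G} (h : ∀ g ∈ S, ∀ x ∈ A, g * x * g⁻¹ ∈ A) : S ≤ normalizer (A : Set G) := by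
  intro g hg
  rw [mem_normalizer_iff]
  intro x
  refine ⟨h g hg x, fun hx => ?_⟩
  have := h g⁻¹ (inv_mem hg) _ hx
  have e : g⁻¹ * (g * x * g⁻¹) * g⁻¹⁻¹ = x := by group
  rwa [e] at this

namespace Hyp

variable (h : Hyp V z S)

include h

theorem Vcc (k : Fin 5) : V ≤ cc z k := fun _ hv => mem_cc.2 (h.pts.comm_mem hv (h.pts.mem k))

theorem char2_cc : cc z 4 ⊓ centralizer (qq z 4 : Set G) ≤ qq z 4 := by
  have hz2 : (z 4) ^ 2 = 1 := by rw [pow_two]; exact h.pts.sq 4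
  have h1 := h.char2 (zpowers (z 4)) (MinSimple.Basic.isPGroup_zpowers hz2)
    (fun e => h.pts.ne_one 4 (zpowers_eq_bot.1 e))
  rwa [MinSimple.Basic.normalizer_zpowers_eq hz2] at h1

theorem Q_le_S : qq z 4 ≤ S :=
  h.max _ (o2_isPGroup _) (h.fix.trans (le_normalizer_o2 _))

theorem Q_le_L : qq z 4 ≤ normalizer (V : Set G) := h.Q_le_S.trans h.norm

theorem Q_le_C (k : Fin 5) : qq z k ≤ cc z k := o2_le _

/-- A nontrivially acting 2-subgroup normalised by `C_L(z 4)` induces exactly the four-group. -/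
theorem four_of {P : Subgroup G} (hP : IsPGroup 2 P) (hPV : P ≤ normalizer (V : Set G)) (hPC : P ≤ cc z 4)
    (hn : ∀ g ∈ normalizer (V : Set G), g ∈ cc z 4 → ∀ x ∈ P, g * x * g⁻¹ ∈ P) :
    (∀ g ∈ P, ∀ σ, Act z g σ → IsFour σ) ∧
      (¬ P ≤ centralizer (V : Set G) → ∀ σ, IsFour σ → ∃ g ∈ P, Act z g σ) := by
  obtain ⟨t, htV, ht⟩ := h.pts.alt tau tau_mem
  have htC : t ∈ cc z 4 := mem_cc.2 ((h.pts.fix_iff ht 4).2 tau_four)
  have h1 : ∀ g ∈ P, ∀ σ, Act z g σ → IsFour σ := by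
    intro g hg σ hσ
    by_contra hF
    have h4 : σ 4 = 4 := (h.pts.fix_iff hσ 4).1 (mem_cc.1 (hPC hg))
    have key : ∀ x ∈ P, ∀ ρ : Perm (Fin 5), Act z x ρ → ρ ^ 3 = 1 → ρ = 1 := by
      intro x hx ρ hρ h3
      obtain ⟨k, hk⟩ := hP ⟨x, hx⟩
      have hk' : x ^ 2 ^ k = 1 := congrArg Subtype.val hk
      have h5 := hρ.pow (2 ^ k)
      rw [hk'] at h5
      have h6 : ρ ^ 2 ^ k = 1 := Act.unique h.pts.inj h5 Act.one
      have h7 : orderOf ρ ∣ 3 := orderOf_dvd_of_pow_eq_one h3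
      have h8 : orderOf ρ ∣ 2 ^ k := orderOf_dvd_of_pow_eq_one h6
      have h9 : Nat.Coprime 3 (2 ^ k) := Nat.Coprime.pow_right k (by norm_num)
      exact orderOf_eq_one_iff.1 (Nat.dvd_one.1 (h9 ▸ Nat.dvd_gcd h7 h8))
    rcases perm_four σ h4 hF with ⟨h5, h6⟩ | ⟨h5, h6⟩
    · exact h6 (key (g * g) (mul_mem hg hg) _ (hσ.mul hσ) h5)
    · exact h6 (key (g * (t * g * t⁻¹)) (mul_mem hg (hn t htV htC g hg)) _ (hσ.mul (hσ.conj ht)) h5)
  refine ⟨h1, fun hne => ?_⟩
  obtain ⟨g, hg, hgV⟩ := SetLike.not_le_iff_exists.1 hne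
  obtain ⟨σ, hσ⟩ := h.pts.perm g (hPV hg)
  have hσ1 : σ ≠ 1 := fun e => hgV (h.pts.mem_cent (e ▸ hσ))
  have hc : ∀ x ∈ P, ∀ ρ, Act z x ρ → ∃ y ∈ P, Act z y (tau * ρ * tau⁻¹) := fun x hx ρ hρ =>
    ⟨_, hn t htV htC x hx, hρ.conj ht⟩
  -- all three involutions
  have h3 : (∃ y ∈ P, Act z y (swap 0 1 * swap 2 3)) ∧ (∃ y ∈ P, Act z y (swap 0 2 * swap 1 3)) ∧
      (∃ y ∈ P, Act z y (swap 0 3 * swap 1 2)) := by
    have step1 : (∃ y ∈ P, Act z y (swap 0 1 * swap 2 3)) → ∃ y ∈ P, Act z y (swap 0 3 * swap 1 2) := by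
      rintro ⟨y, hy, hy'⟩
      have := hc y hy _ hy'
      rwa [tau_conj1] at this
    have step2 : (∃ y ∈ P, Act z y (swap 0 3 * swap 1 2)) → ∃ y ∈ P, Act z y (swap 0 2 * swap 1 3) := by
      rintro ⟨y, hy, hy'⟩
      have := hc y hy _ hy'
      rwa [tau_conj2] at this
    have step3 : (∃ y ∈ P, Act z y (swap 0 2 * swap 1 3)) → ∃ y ∈ P, Act z y (swap 0 1 * swap 2 3) := by
      rintro ⟨y, hy, hy'⟩
      have := hc y hy _ hy'
      rwa [tau_conj3] at this
    rcases h1 g hg σ hσ with rfl | rfl | rfl | rfl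
    · exact absurd rfl hσ1
    · exact ⟨⟨g, hg, hσ⟩, step2 (step1 ⟨g, hg, hσ⟩), step1 ⟨g, hg, hσ⟩⟩
    · exact ⟨step3 ⟨g, hg, hσ⟩, ⟨g, hg, hσ⟩, step1 (step3 ⟨g, hg, hσ⟩)⟩
    · exact ⟨step3 (step2 ⟨g, hg, hσ⟩), step2 ⟨g, hg, hσ⟩, ⟨g, hg, hσ⟩⟩
  rintro τ (rfl | rfl | rfl | rfl)
  · exact ⟨1, one_mem _, Act.one⟩
  · exact h3.1
  · exact h3.2.1
  · exact h3.2.2

theorem Q_four {g : G} (hg : g ∈ qq z 4) : ∃ σ, IsFour σ ∧ Act z g σ := by
  obtain ⟨σ, hσ⟩ := h.pts.perm g (h.Q_le_L hg)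
  exact ⟨σ, (h.four_of (o2_isPGroup _) h.Q_le_L (o2_le _)
    (fun x _ hx y hy => conj_mem_o2 hx hy)).1 g hg σ hσ, hσ⟩

theorem exists_Q {σ : Perm (Fin 5)} (hσ : IsFour σ) : ∃ g ∈ qq z 4, Act z g σ := by
  refine (h.four_of (o2_isPGroup _) h.Q_le_L (o2_le _)
    (fun x _ hx y hy => conj_mem_o2 hx hy)).2 (fun hle => h.not_le ?_) σ hσ
  intro v hv
  exact h.char2_cc ⟨h.Vcc 4 hv, mem_centralizer_iff.2 fun q hq =>
    (mem_centralizer_iff.1 (hle hq) v hv).symm⟩

omit [Group G] h in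
theorem four_move : ∀ i j : Fin 5, i ≠ 4 → j ≠ 4 → ∃ σ, IsFour σ ∧ σ i = j := by
  have hd : ∀ i j : Fin 5, i ≠ 4 → j ≠ 4 → (1 : Perm (Fin 5)) i = j ∨ (swap 0 1 * swap 2 3 : Perm (Fin 5)) i = j ∨
      (swap 0 2 * swap 1 3 : Perm (Fin 5)) i = j ∨ (swap 0 3 * swap 1 2 : Perm (Fin 5)) i = j := by decide
  intro i j hi hj
  rcases hd i j hi hj with e | e | e | e
  · exact ⟨_, Or.inl rfl, e⟩
  · exact ⟨_, Or.inr (Or.inl rfl), e⟩
  · exact ⟨_, Or.inr (Or.inr (Or.inl rfl)), e⟩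
  · exact ⟨_, Or.inr (Or.inr (Or.inr rfl)), e⟩

/-- Products of two points different from `z 4` lie in `Q`. -/
theorem pr_mem_Q {i j : Fin 5} (hi : i ≠ 4) (hj : j ≠ 4) : z i * z j ∈ qq z 4 := by
  obtain ⟨σ, hσ, hij⟩ := four_move i j hi hj
  obtain ⟨q, hq, hqσ⟩ := h.exists_Q hσ
  have h1 : z i * q * (z i)⁻¹ ∈ qq z 4 := conj_mem_o2 (h.Vcc 4 (h.pts.mem i)) hq
  have h2 := mul_mem h1 (inv_mem hq)
  have e : z i * q * (z i)⁻¹ * q⁻¹ = z i * (q * z i * q⁻¹) := by
    rw [h.pts.inv_eq]; group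
  rw [e, hqσ i, hij] at h2
  exact h2

theorem ww_le_Q : ww z 4 ≤ qq z 4 := by
  rw [ww, closure_le]
  rintro _ ⟨c, hc, i, j, hi, hj, rfl⟩
  exact conj_mem_o2 hc (h.pr_mem_Q hi hj)

omit h in
theorem pr_mem_ww {k i j : Fin 5} (hi : i ≠ k) (hj : j ≠ k) : z i * z j ∈ ww z k :=
  subset_closure ⟨1, one_mem _, i, j, hi, hj, by group⟩

omit h in
theorem conj_ww {k : Fin 5} {c x : G} (hc : c ∈ cc z k) (hx : x ∈ ww z k) : c * x * c⁻¹ ∈ ww z k := by
  rw [ww] at hx ⊢
  induction hx using closure_induction with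
  | mem x hx =>
    obtain ⟨d, hd, i, j, hi, hj, rfl⟩ := hx
    exact subset_closure ⟨c * d, mul_mem hc hd, i, j, hi, hj, by group⟩
  | one => simp
  | mul x y _ _ hx hy =>
    have e : c * (x * y) * c⁻¹ = (c * x * c⁻¹) * (c * y * c⁻¹) := by group
    rw [e]; exact mul_mem hx hy
  | inv x _ hx =>
    have e : c * x⁻¹ * c⁻¹ = (c * x * c⁻¹)⁻¹ := by group
    rw [e]; exact inv_mem hx

omit h in
theorem conj_bb {k : Fin 5} {c x : G} (hc : c ∈ cc z k) (hx : x ∈ bb z k) : c * x * c⁻¹ ∈ bb z k := by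
  refine mem_inf.2 ⟨conj_mem_o2 hc (mem_inf.1 hx).1, mem_centralizer_iff.2 fun w hw => ?_⟩
  have h1 := conj_ww (inv_mem hc) hw
  have h2 := mem_centralizer_iff.1 (mem_inf.1 hx).2 _ h1
  calc w * (c * x * c⁻¹) = c * ((c⁻¹ * w * c⁻¹⁻¹) * x) * c⁻¹ := by group
    _ = _ := by rw [h2]; group

end Hyp

end Cfsg.Agent.Omega.TT

end
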