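import Mathlib
import Cfsg.Prelude.Def_CaseTheorems
import Cfsg.Agent.MinSimple.CosetFam
import Cfsg.Agent.MinSimple.Basic
import Cfsg.Agent.Mrg.Omega.Assembly
import Cfsg.Agent.Omega.NoFF.Lines
import Cfsg.Agent.Omega.NatPair.Of
import Cfsg.Agent.ZN.ChoiceSit
import Cfsg.Agent.ClassTwoFusion.Quad
import Cfsg.Agent.Lib.NormalAbelian
import Cfsg.Agent.Omega.NoFF.Basic

section


/-!
# Pairs of parabolics: `V_P`, mutual pairs, the dichotomy FF / NOFF

Everything is a subgroup of the ambient group `G`; `o2 L = O₂(L)`, `zc S = Ω₁(Z(S))`,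
`zl S P = ⟨Ω₁(Z(S))^P⟩ = V_P` are those of `Cfsg.Agent.ZN.Defs`; nothing is solvable here.

* `IsPar S P` (`P ∈ P(S)`), `IsParS S P` (`P ∈ P*(S)`), `IsLoc`, `NonLoc` are those of `Omega.MinPar`;
* `Mutual S P₁ P₂ x` : mutual pair (frame v1): `P₁, P₂ ∈ P*(S)`, `V_{P₁}` and `(V_{P₂})^x` normalise
  each other and do not commute; `FF S`: there is one;
* `PairData` : the abstract data `Z_i ≤ Q_i ⊴ P_i ≥ S`, each `i` either *noncentral*
  (`C_S(Z_i) ≤ Q_i`) or *central* (`Z_i ≤ Z_{3-i}`); `Pair.dichotomy` : a critical pair gives either two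
  noncentral `Z_i`, `Z_j^x` which normalise each other and do not commute, or `b` is odd and every
  critical pair goes from the noncentral type to the central one;
* `MinPar.IsPar.dichotomy` : the same for two minimal parabolics `P₁`, `P₂` with `O₂(⟨P₁, P₂⟩) = 1`.
-/

set_option autoImplicit false

namespace Cfsg.Agent.Omega

open Subgroup MulAction Pointwise Cfsg Cfsg.Agent.ZN Cfsg.Agent.MinSimple
open Cfsg.Agent.Omega.MinPar (IsPar IsParS IsLoc NonLoc)
open Cfsg.Agent.MinSimple.CosetGraph Cfsg.Agent.MinSimple.CosetFam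
open Cfsg.Agent.MinSimple.VModule (le_o2 mem_zc zc_le zc_le_zl zl_le_zc zl_comm zl_sq
  le_normalizer_zl zl_le inf_centralizer_zl o2_le_centralizer_zl normalizer_le_normalizer_zc)
open scoped commutatorElement

universe u

variable {G : Type u} [Group G]

/-! ### Definitions -/

/-- Mutual pair: `V = V_{P₁}` and `V' = (V_{P₂})^x` normalise each other and do not commute. -/
structure Mutual (S P₁ P₂ : Subgroup G) (x : G) : Prop where
  star₁ : IsParS S P₁
  star₂ : IsParS S P₂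
  le₁ : zl S P₁ ≤ normalizer ((MulAut.conj x • zl S P₂ : Subgroup G) : Set G)
  le₂ : MulAut.conj x • zl S P₂ ≤ normalizer (zl S P₁ : Set G)
  ne : ⁅zl S P₁, MulAut.conj x • zl S P₂⁆ ≠ ⊥

/-- Case FF: there is a mutual pair. -/
def FF (S : Subgroup G) : Prop := ∃ (P₁ P₂ : Subgroup G) (x : G), Mutual S P₁ P₂ x

/-! ### Conjugation -/

theorem conj_smul_commutator (g : G) (X Y : Subgroup G) :
    MulAut.conj g • ⁅X, Y⁆ = ⁅MulAut.conj g • X, MulAut.conj g • Y⁆ :=
  Subgroup.map_commutator _ _ _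

theorem conj_inv_smul (g : G) (X : Subgroup G) : MulAut.conj g⁻¹ • MulAut.conj g • X = X := by
  rw [conj_smul_conj_smul, inv_mul_cancel, conj_one_smul]

theorem conj_smul_inv (g : G) (X : Subgroup G) : MulAut.conj g • MulAut.conj g⁻¹ • X = X := by
  rw [conj_smul_conj_smul, mul_inv_cancel, conj_one_smul]

theorem conj_smul_mono_iff {g : G} {X Y : Subgroup G} :
    MulAut.conj g • X ≤ MulAut.conj g • Y ↔ X ≤ Y :=
  pointwise_smul_le_pointwise_smul_iff

theorem conj_smul_eq_bot_iff {g : G} {X : Subgroup G} : MulAut.conj g • X = ⊥ ↔ X = ⊥ := by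
  constructor
  · intro h
    rw [← conj_inv_smul g X, h, smul_bot]
  · rintro rfl
    exact smul_bot _

theorem Mutual.symm {S P₁ P₂ : Subgroup G} {x : G} (h : Mutual S P₁ P₂ x) : Mutual S P₂ P₁ x⁻¹ := by
  refine ⟨h.star₂, h.star₁, ?_, ?_, ?_⟩
  · rw [← conj_smul_mono_iff (g := x), ← normalizer_conj, conj_smul_inv]
    exact h.le₂
  · rw [← conj_smul_mono_iff (g := x), ← normalizer_conj, conj_smul_inv]
    exact h.le₁
  · intro h0
    apply h.ne
    rw [commutator_comm, ← conj_smul_inv x (zl S P₁), ← conj_smul_commutator, h0, smul_bot]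

/-! ### Abstract pairs -/

/-- Abstract data of a pair of parabolics over `S`. -/
structure PairData (S : Subgroup G) (P Q Z : Bool → Subgroup G) : Prop where
  le : ∀ i, S ≤ P i
  Qn : ∀ i, P i ≤ normalizer (Q i : Set G)
  Zn : ∀ i, P i ≤ normalizer (Z i : Set G)
  ZQ : ∀ i, Z i ≤ Q i
  QS : ∀ i, Q i ≤ S
  QZ : ∀ i, Q i ≤ centralizer (Z i : Set G)
  alt : ∀ i, S ⊓ centralizer (Z i : Set G) ≤ Q i ∨ Z i ≤ Z (!i)
  core : ∀ N : Subgroup G, N ≤ P false → N ≤ P true → P false ≤ normalizer (N : Set G) →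
    P true ≤ normalizer (N : Set G) → N = ⊥
  ne : ∃ i, Z i ≠ ⊥

namespace Pair

variable {S : Subgroup G} {P Q Z : Bool → Subgroup G}

/-- The index `i` is noncentral. -/
def NC (S : Subgroup G) (Q Z : Bool → Subgroup G) (i : Bool) : Prop :=
  S ⊓ centralizer (Z i : Set G) ≤ Q i

theorem exists_crit (h : PairData S P Q Z) :
    ∃ b, 1 ≤ b ∧ (coset P).Crit (fam P Z) (fam P Q) b := by
  have hfaith : (coset P).Faithful := coset_faithful P h.core
  have hZe : Eqv (fam P Z) := fam_eqv P h.Zn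
  have hQe : Eqv (fam P Q) := fam_eqv P h.Qn
  have hZQ : ∀ v, fam P Z v ≤ fam P Q v := by
    refine forall_vertex P (p := fun v => fam P Z v ≤ fam P Q v) ?_ ?_
    · intro g v h1
      exact (hZe.le_iff hQe).mpr h1
    · intro i
      rw [fam_mk_one P h.Zn, fam_mk_one P h.Qn]; exact h.ZQ i
  have hQs : ∀ v, fam P Q v ≤ stabilizer G v := by
    refine forall_vertex P (p := fun v => fam P Q v ≤ stabilizer G v) ?_ ?_
    · intro g v h1
      exact (hQe.le_iff Eqv.stabilizer).mpr h1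
    · intro i
      rw [fam_mk_one P h.Qn, mk_one_stab]
      exact (h.QS i).trans (h.le i)
  obtain ⟨i, hi⟩ := h.ne
  have hne : fam P Z (mk P i 1) ≠ ⊥ := by rw [fam_mk_one P h.Zn]; exact hi
  obtain ⟨b, hb⟩ := RGraph.exists_crit hfaith hZe hQe hQs (coset_adj P i 1) hne
  exact ⟨b, hb.pos hZQ, hb⟩

/-- An adjacent pair of vertices is a translate of a base edge. -/
theorem exists_edge {v w : CV P} (hvw : (coset P).A v w) :
    ∃ (g : G) (i : Bool), v = g • mk P i 1 ∧ w = g • mk P (!i) 1 := by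
  obtain ⟨i, g, rfl, rfl⟩ := hvw
  exact ⟨g, i, by rw [smul_mk_one], by rw [smul_mk_one]⟩

/-- The output of the mutual case: `Z_i ≤ (Q_{¬j})^x`, `(Z_j)^x ≤ Q_{¬i}`, both noncentral, not commuting,
at distance `b` in the coset graph. -/
structure MutualAt (S : Subgroup G) (P Q Z : Bool → Subgroup G) (b : ℕ) (i j : Bool) (x : G) : Prop where
  nc₁ : NC S Q Z i
  nc₂ : NC S Q Z j
  le₁ : Z i ≤ MulAut.conj x • Q (!j)
  le₂ : MulAut.conj x • Z j ≤ Q (!i)
  ne : ⁅Z i, MulAut.conj x • Z j⁆ ≠ ⊥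
  walk : (coset P).W b (mk P i 1) (mk P j x)
  walk₁ : (coset P).W (b - 1) (mk P (!i) 1) (mk P j x)
  walk₂ : (coset P).W (b - 1) (mk P i 1) (mk P (!j) x)

/-- A critical pair: the first member is noncentral; if the second member is noncentral, the pair is
mutual (up to conjugation). -/
theorem crit_pair (h : PairData S P Q Z) {b : ℕ} (hb : (coset P).Crit (fam P Z) (fam P Q) b)
    {v w : CV P} (hw : (coset P).W b v w) (hn : ¬ fam P Z v ≤ fam P Q w) :
    NC S Q Z v.1 ∧ (NC S Q Z w.1 → ∃ x : G, MutualAt S P Q Z b v.1 w.1 x) := by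
  have hZe : Eqv (fam P Z) := fam_eqv P h.Zn
  have hQe : Eqv (fam P Q) := fam_eqv P h.Qn
  have hZ1 : ∀ (g : G) (i : Bool), fam P Z (g • mk P i 1) = MulAut.conj g • Z i := fun g i => by
    rw [hZe, fam_mk_one P h.Zn]
  have hQ1 : ∀ (g : G) (i : Bool), fam P Q (g • mk P i 1) = MulAut.conj g • Q i := fun g i => by
    rw [hQe, fam_mk_one P h.Qn]
  have hZQ : ∀ v, fam P Z v ≤ fam P Q v := by
    refine forall_vertex P (p := fun v => fam P Z v ≤ fam P Q v) ?_ ?_
    · intro g v h1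
      exact (hZe.le_iff hQe).mpr h1
    · intro i
      rw [fam_mk_one P h.Zn, fam_mk_one P h.Qn]; exact h.ZQ i
  have hb1 := hb.pos hZQ
  obtain ⟨b, rfl⟩ : ∃ b', b = b' + 1 := ⟨b - 1, by omega⟩
  obtain ⟨p, hvp, hpw⟩ := Wlk.succ_iff.mp hw
  obtain ⟨q, hvq, hqw⟩ := Wlk.succ_iff'.mp hw
  obtain ⟨g, i, rfl, rfl⟩ := exists_edge hvp
  obtain ⟨g', j, rfl, rfl⟩ := exists_edge ((coset P).symm hqw)
  have hi : (g • mk P i 1 : CV P).1 = i := rfl
  have hj : (g' • mk P j 1 : CV P).1 = j := rfl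
  rw [hi, hj]
  have hZq : fam P Z (g • mk P i 1) ≤ fam P Q (g' • mk P (!j) 1) := hb.min b (by omega) _ _ hvq
  have hnc : NC S Q Z i := by
    rcases h.alt i with h1 | h1
    · exact h1
    · exfalso
      apply hn
      refine le_trans ?_ (hb.min b (by omega) _ _ hpw)
      rw [hZ1, hZ1]
      exact conj_smul_mono_iff.mpr h1
  refine ⟨hnc, fun hncj => ?_⟩
  have hZp : fam P Z (g' • mk P j 1) ≤ fam P Q (g • mk P (!i) 1) :=
    hb.min b (by omega) _ _ (RGraph.W.symm hpw)
  rw [hZ1, hQ1] at hZq hZp hn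
  have hne : ⁅MulAut.conj g • Z i, MulAut.conj g' • Z j⁆ ≠ ⊥ := by
    intro h0
    apply hn
    rw [commutator_eq_bot_iff_le_centralizer, centralizer_conj] at h0
    refine le_trans (le_inf (hZq.trans (conj_smul_mono_iff.mpr (h.QS (!j)))) h0) ?_
    rw [← smul_inf]
    exact conj_smul_mono_iff.mpr hncj
  have e2 : ∀ X : Subgroup G, MulAut.conj (g⁻¹ * g') • X = MulAut.conj g⁻¹ • MulAut.conj g' • X :=
    fun X => (conj_smul_conj_smul _ _ _).symm
  refine ⟨g⁻¹ * g', hnc, hncj, ?_, ?_, ?_, ?_, ?_, ?_⟩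
  · rw [e2, ← conj_smul_mono_iff (g := g), conj_smul_inv]
    exact hZq
  · rw [e2, ← conj_smul_mono_iff (g := g), conj_smul_inv]
    exact hZp
  · intro h0
    apply hne
    rw [← conj_smul_inv g (MulAut.conj g' • Z j), ← conj_smul_commutator, ← e2, h0, smul_bot]
  · have h1 := RGraph.W.smul g⁻¹ hw
    rw [inv_smul_smul, ← mul_smul, smul_mk_one] at h1
    exact h1
  · have h1 := RGraph.W.smul g⁻¹ hpw
    rw [inv_smul_smul, ← mul_smul, smul_mk_one] at h1
    exact h1
  · have h1 := RGraph.W.smul g⁻¹ hvq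
    rw [inv_smul_smul, ← mul_smul, smul_mk_one] at h1
    exact h1

/-- **Dichotomy.** Either a critical pair is mutual (two noncentral members which normalise each other and
do not commute), or `b` is odd, exactly one type `i` is noncentral and every critical pair goes from type `i`
to type `¬i`, where `Z_{¬i} ≤ Z_i`. -/
theorem dichotomy (h : PairData S P Q Z) {b : ℕ} (hb : (coset P).Crit (fam P Z) (fam P Q) b) :
    (∃ (i j : Bool) (x : G), MutualAt S P Q Z b i j x) ∨
    (Odd b ∧ ∃ i : Bool, NC S Q Z i ∧ ¬ NC S Q Z (!i) ∧ Z (!i) ≤ Z i ∧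
      ∀ v w : CV P, (coset P).W b v w → ¬ fam P Z v ≤ fam P Q w → v.1 = i ∧ w.1 = !i) := by
  by_cases h1 : ∃ v w : CV P, (coset P).W b v w ∧ ¬ fam P Z v ≤ fam P Q w ∧ NC S Q Z w.1
  · obtain ⟨v, w, hw, hn, h2⟩ := h1
    obtain ⟨x, hx⟩ := (crit_pair h hb hw hn).2 h2
    exact Or.inl ⟨_, _, x, hx⟩
  · right
    push Not at h1
    obtain ⟨v, w, hw, hn⟩ := hb.ex
    have h2 := (crit_pair h hb hw hn).1
    have h3 := h1 v w hw hn
    have hvw : w.1 = !v.1 := by
      have : w.1 ≠ v.1 := fun e => h3 (e ▸ h2)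
      cases hv : v.1 <;> cases hw' : w.1 <;> simp_all
    have hodd : Odd b := by
      rw [← Nat.not_even_iff_odd, ← RGraph.W.typ_eq hw]
      change ¬ (w.1 = v.1)
      rw [hvw]
      cases v.1 <;> simp
    rw [hvw] at h3
    refine ⟨hodd, v.1, h2, h3, ?_, ?_⟩
    · rcases h.alt (!v.1) with h4 | h4
      · exact absurd h4 h3
      · rwa [Bool.not_not] at h4
    · intro v' w' hw' hn'
      have h5 := (crit_pair h hb hw' hn').1
      have h6 := h1 v' w' hw' hn'
      have e1 : v'.1 = v.1 := by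
        by_contra hne
        have : v'.1 = !v.1 := by cases h7 : v'.1 <;> cases h8 : v.1 <;> simp_all
        exact h3 (this ▸ h5)
      refine ⟨e1, ?_⟩
      by_contra hne
      have : w'.1 = v.1 := by cases h7 : w'.1 <;> cases h8 : v.1 <;> simp_all
      exact h6 (this ▸ h2)

end Pair

/-! ### Minimal parabolics -/

section MinPar

variable [Finite G]

omit [Finite G] in
theorem zl_eq_zc {S P : Subgroup G} (h : P ≤ normalizer (zc S : Set G)) : zl S P = zc S :=
  le_antisymm (VModule.zl_le le_rfl h) (zc_le_zl S P)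

omit [Finite G] in
theorem normalizer_le_normalizer_o2' (N : Subgroup G) :
    normalizer (N : Set G) ≤ normalizer (o2 N : Set G) := by
  intro g hg
  rw [mem_normalizer_iff_conj_smul] at hg ⊢
  rw [← o2_conj, hg]

omit [Finite G] in
/-- A subgroup normal in two groups of characteristic 2 over `S` whose join has trivial `O₂` is trivial. -/
theorem core_of_o2 {X Y : Subgroup G} (hX : X ⊓ centralizer (o2 X : Set G) ≤ o2 X)
    (h : o2 (X ⊔ Y) = ⊥) (N : Subgroup G) (h1 : N ≤ X)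
    (h3 : X ≤ normalizer (N : Set G)) (h4 : Y ≤ normalizer (N : Set G)) : N = ⊥ := by
  have hXY : X ⊔ Y ≤ normalizer (N : Set G) := sup_le h3 h4
  have hO : o2 N = ⊥ := by
    rw [eq_bot_iff, ← h]
    refine le_o2 ((o2_le_self N).trans (h1.trans le_sup_left)) (CosetFam.o2_isPGroup N) ?_
    exact hXY.trans (normalizer_le_normalizer_o2' N)
  have hcom : N ≤ centralizer (o2 X : Set G) := by
    rw [← commutator_eq_bot_iff_le_centralizer, eq_bot_iff, ← hO]
    have h5 : ⁅N, o2 X⁆ ≤ N ⊓ o2 X := by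
      rw [commutator_le]
      intro n hn x hx
      refine ⟨?_, ?_⟩
      · rw [commutatorElement_def, mul_assoc, mul_assoc]
        refine N.mul_mem hn ?_
        rw [← mul_assoc]
        exact (mem_normalizer_iff.mp (h3 (o2_le_self X hx)) _).mp (N.inv_mem hn)
      · rw [commutatorElement_def]
        exact (o2 X).mul_mem ((mem_normalizer_iff.mp (CosetFam.le_normalizer_o2 X (h1 hn)) _).mp hx)
          ((o2 X).inv_mem hx)
    refine h5.trans (le_o2 inf_le_left ((CosetFam.o2_isPGroup X).to_le inf_le_right) ?_)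
    intro n hn
    have h6 : n ∈ normalizer (o2 X : Set G) := CosetFam.le_normalizer_o2 X (h1 hn)
    have h7 : n ∈ normalizer (N : Set G) := le_normalizer hn
    rw [mem_normalizer_iff] at h6 h7 ⊢
    intro y
    exact ⟨fun hy => ⟨(h7 y).mp hy.1, (h6 y).mp hy.2⟩, fun hy => ⟨(h7 y).mpr hy.1, (h6 y).mpr hy.2⟩⟩
  have h8 : N ≤ o2 X := (le_inf h1 hcom).trans hX
  have h9 : N ≤ o2 N := le_o2 le_rfl ((CosetFam.o2_isPGroup X).to_le h8) le_normalizer
  rw [eq_bot_iff, ← hO]
  exact h9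

omit [Finite G] in
theorem zc_ne_bot_of_par [Finite G] (S : Sylow 2 G) {P : Subgroup G} (h : IsPar (S : Subgroup G) P) :
    zc (S : Subgroup G) ≠ ⊥ := by
  refine Basic.zc_ne_bot S.isPGroup' fun h0 => h.o2_ne ?_
  rw [eq_bot_iff, ← h0]
  exact CosetFam.o2_le_of_sylow S.isPGroup' (Basic.not_dvd_relIndex S h.le)

/-- The pair data of two minimal parabolics with `O₂(⟨P₁, P₂⟩) = 1`. -/
theorem MinPar.IsPar.pairData (hG : IsCharacteristicTwoType G) (S : Sylow 2 G) {P : Bool → Subgroup G}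
    (h : ∀ i, IsPar (S : Subgroup G) (P i)) (core : o2 (P false ⊔ P true) = ⊥) :
    PairData (S : Subgroup G) P (fun i => o2 (P i)) (fun i => zl (S : Subgroup G) (P i)) where
  le i := (h i).le
  Qn i := CosetFam.le_normalizer_o2 (P i)
  Zn i := le_normalizer_zl _ _
  ZQ i := ((h i).isLoc.zl_le S hG).trans (zc_le _)
  QS i := CosetFam.o2_le_of_sylow S.isPGroup' (Basic.not_dvd_relIndex S (h i).le)
  QZ i := (VModule.le_centralizer_zc _).trans (centralizer_le ((h i).isLoc.zl_le S hG))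
  alt i := by
    by_cases h1 : P i ≤ normalizer (zc (S : Subgroup G) : Set G)
    · exact Or.inr (by rw [zl_eq_zc h1]; exact zc_le_zl _ _)
    · exact Or.inl (IsParS.inf_centralizer S hG ⟨h i, h1⟩).le
  core N h1 _ h3 h4 := core_of_o2 ((h false).isLoc.char2 S hG) core N h1 h3 h4
  ne := ⟨false, fun h0 => zc_ne_bot_of_par S (h false) (le_bot_iff.mp (h0 ▸ zc_le_zl _ _))⟩

/-- `i` is noncentral iff `P_i ∈ P*(S)`. -/
theorem MinPar.IsPar.nc_iff (hG : IsCharacteristicTwoType G) (S : Sylow 2 G) {P : Bool → Subgroup G}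
    (h : ∀ i, IsPar (S : Subgroup G) (P i)) {i : Bool} (hne : ¬ S ≤ o2 (P i)) :
    Pair.NC (S : Subgroup G) (fun i => o2 (P i)) (fun i => zl (S : Subgroup G) (P i)) i ↔
      IsParS (S : Subgroup G) (P i) := by
  constructor
  · refine fun h1 => ⟨h i, fun h2 => hne ?_⟩
    refine le_trans ?_ h1
    change _ ≤ _ ⊓ centralizer ((zl (S : Subgroup G) (P i) : Subgroup G) : Set G)
    rw [zl_eq_zc h2]
    exact le_inf le_rfl (VModule.le_centralizer_zc _)
  · exact fun h1 => (IsParS.inf_centralizer S hG h1).le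

omit [Finite G] in
/-- `S` is not normal in `P ∈ P(S)`. -/
theorem MinPar.IsPar.not_le_o2 {S P : Subgroup G} (h : IsPar S P) (hO : o2 P ≤ S) : ¬ S ≤ o2 P := fun h1 =>
  h.not_le ((le_antisymm h1 hO) ▸ CosetFam.le_normalizer_o2 P)

/-- **FF / NOFF for a nonlocal pair of minimal parabolics.** `G` of characteristic 2 type,
`P₁, P₂ ∈ P(S)`, `O₂(⟨P₁, P₂⟩) = 1`, `b` the critical distance of `V_P` against `O₂(P)` in the coset graph:
either there is a mutual pair (with `P₁`, `P₂` themselves), or `b` is odd, `P_i ∈ P*(S)`, `P_{¬i}` normalises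
`Ω₁(Z(S))` and every critical pair goes from type `i` to type `¬i`. -/
theorem MinPar.IsPar.dichotomy (hG : IsCharacteristicTwoType G) (S : Sylow 2 G) {P : Bool → Subgroup G}
    (h : ∀ i, IsPar (S : Subgroup G) (P i)) (core : o2 (P false ⊔ P true) = ⊥) :
    ∃ b, 1 ≤ b ∧ (coset P).Crit (fam P (fun i => zl (S : Subgroup G) (P i)))
        (fam P (fun i => o2 (P i))) b ∧
      ((∃ (i j : Bool) (x : G), Pair.MutualAt (S : Subgroup G) P (fun i => o2 (P i))
          (fun i => zl (S : Subgroup G) (P i)) b i j x ∧ Mutual (S : Subgroup G) (P i) (P j) x) ∨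
        (Odd b ∧ ∃ i : Bool, IsParS (S : Subgroup G) (P i) ∧
          P (!i) ≤ normalizer (zc (S : Subgroup G) : Set G) ∧
          ∀ v w : CV P, (coset P).W b v w →
            ¬ fam P (fun i => zl (S : Subgroup G) (P i)) v ≤ fam P (fun i => o2 (P i)) w →
              v.1 = i ∧ w.1 = !i)) := by
  have hD := MinPar.IsPar.pairData hG S h core
  have hQS : ∀ i, o2 (P i) ≤ S := hD.QS
  have hiff : ∀ i, Pair.NC (S : Subgroup G) (fun i => o2 (P i))
      (fun i => zl (S : Subgroup G) (P i)) i ↔ IsParS (S : Subgroup G) (P i) := fun i =>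
    MinPar.IsPar.nc_iff hG S h ((h i).not_le_o2 (hQS i))
  obtain ⟨b, hb1, hb⟩ := Pair.exists_crit hD
  refine ⟨b, hb1, hb, ?_⟩
  rcases Pair.dichotomy hD hb with ⟨i, j, x, hx⟩ | ⟨hodd, i, h1, h2, -, h4⟩
  · left
    refine ⟨i, j, x, hx, (hiff i).mp hx.nc₁, (hiff j).mp hx.nc₂, ?_, ?_, hx.ne⟩
    · rw [normalizer_conj]
      refine hx.le₁.trans (conj_smul_mono_iff.mpr ?_)
      exact (hQS (!j)).trans ((hD.le j).trans (le_normalizer_zl _ _))
    · exact hx.le₂.trans ((hQS (!i)).trans ((hD.le i).trans (le_normalizer_zl _ _)))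
  · right
    refine ⟨hodd, i, (hiff i).mp h1, ?_, h4⟩
    by_contra h5
    exact h2 ((hiff (!i)).mpr ⟨h (!i), h5⟩)

/-- In the case NOFF a nonlocal pair of minimal parabolics has exactly one member in `P*(S)` and `b` is
odd. -/
theorem MinPar.IsPar.odd_of_not_FF (hG : IsCharacteristicTwoType G) (S : Sylow 2 G)
    (hF : ¬ FF (S : Subgroup G)) {P : Bool → Subgroup G}
    (h : ∀ i, IsPar (S : Subgroup G) (P i)) (core : o2 (P false ⊔ P true) = ⊥) :
    ∃ b, (coset P).Crit (fam P (fun i => zl (S : Subgroup G) (P i))) (fam P (fun i => o2 (P i))) b ∧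
      Odd b ∧ ∃ i : Bool, IsParS (S : Subgroup G) (P i) ∧
        P (!i) ≤ normalizer (zc (S : Subgroup G) : Set G) ∧
        ∀ v w : CV P, (coset P).W b v w →
          ¬ fam P (fun i => zl (S : Subgroup G) (P i)) v ≤ fam P (fun i => o2 (P i)) w →
            v.1 = i ∧ w.1 = !i := by
  obtain ⟨b, -, hb, h1 | h1⟩ := MinPar.IsPar.dichotomy hG S h core
  · obtain ⟨i, j, x, -, h2⟩ := h1
    exact absurd ⟨_, _, _, h2⟩ hF
  · exact ⟨b, hb, h1⟩

omit [Finite G] in
/-- In the case NOFF two conjugates of `V_{P₁}`, `V_{P₂}` (`P₁, P₂ ∈ P*(S)`) which normalise each other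
commute. -/
theorem commute_of_not_FF {S : Subgroup G} (hF : ¬ FF S) {P₁ P₂ : Subgroup G} (h₁ : IsParS S P₁)
    (h₂ : IsParS S P₂) (x : G)
    (le₁ : zl S P₁ ≤ normalizer ((MulAut.conj x • zl S P₂ : Subgroup G) : Set G))
    (le₂ : MulAut.conj x • zl S P₂ ≤ normalizer (zl S P₁ : Set G)) :
    ⁅zl S P₁, MulAut.conj x • zl S P₂⁆ = ⊥ := by
  by_contra h
  exact hF ⟨P₁, P₂, x, h₁, h₂, le₁, le₂, h⟩

end MinPar

end Cfsg.Agent.Omega

end

section


/-!
# OMEGA: the master reduction of the even half (frame)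

`G` is simple, K-proper, of characteristic 2 type and of sectional 2-rank at least 5 (`Ctx G`), `S` is a
Sylow 2-subgroup, `Z = Ω₁(Z(S)) = zc S`, `L(S)`, `P(S)`, `P*(S)` are `IsLoc`, `IsPar`, `IsParS`.

* `FF S` (`Omega.VP`): there is a mutual pair `V_P`, `V_{P'}^g` (`P, P' ∈ P*(S)`);
* `Full S`: no proper subgroup of `G` contains all members of `L(S)`;
* `NodeI`: not `Full S` implies that `G` has a strongly embedded subgroup;
* `NodeFF`, `NodeNOFF`: the two main cases;
* `evenHalf`: Bender's theorem and the three nodes imply the even half.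

`NodeFF` is subdivided in `Omega.FrameFF`, `NodeNOFF` in `Omega.FrameNOFF`, `NodeI` in `Omega.FrameI`.
-/

set_option autoImplicit false

namespace Cfsg.Agent.Omega.Frame

open Subgroup Cfsg Cfsg.Agent.ZN Cfsg.Agent.Omega.MinPar
open Cfsg.Agent.MinSimple.VModule (zc_le normalizer_le_normalizer_zc)
open Cfsg.Agent.MinSimple.Basic (zc_ne_bot)

universe u

/-! ### The context -/

/-- The standing hypotheses of the even half. -/
structure Ctx (G : Type u) [Group G] [Finite G] : Prop where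
  simple : IsSimpleGroup G
  nonComm : ¬ IsMulCommutative G
  kproper : IsKProper G
  char2 : IsCharacteristicTwoType G
  rank : ¬ SectionalPRankLE 2 4 G

section defs

variable {G : Type u} [Group G]

/-- No proper subgroup contains all members of `L(S)`. -/
def Full (S : Subgroup G) : Prop :=
  ∀ Y : Subgroup G, (∀ L : Subgroup G, IsLoc S L → L ≤ Y) → Y = ⊤

end defs

/-! ### Bender's theorem -/

theorem charP_two {F : Type*} [Field F] [Fintype F] {n : ℕ} (hF : Fintype.card F = 2 ^ n) :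
    CharP F 2 := by
  obtain ⟨p, hp⟩ := CharP.exists F
  have hp' : p.Prime := (CharP.char_is_prime_or_zero F p).resolve_right
    (fun h0 => by subst h0; exact CharP.char_ne_zero_of_finite F 0 rfl)
  obtain ⟨k, hk1, hk2⟩ := FiniteField.card F p
  have h2 : p = 2 := by
    have h1 : p ∣ 2 ^ n := by
      rw [← hF, hk2]
      exact dvd_pow_self p k.pos.ne'
    exact (Nat.prime_dvd_prime_iff_eq hp' Nat.prime_two).mp (hp'.dvd_of_dvd_pow h1)
  rwa [h2] at hp

/-- The text of `StrongEmb.Strong.result` (landed): Bender's theorem for simple groups. -/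
def Bender : Prop :=
  ∀ (G : Type u) [Group G] [Finite G] [IsSimpleGroup G], (∃ a b : G, a * b ≠ b * a) →
    ∀ H : Subgroup G, IsStronglyEmbedded H →
    (∃ (F : Type) (_ : Field F) (_ : Fintype F), (∃ n : ℕ, 2 ≤ n ∧ Fintype.card F = 2 ^ n) ∧
          Nonempty (G ≃* Matrix.ProjectiveSpecialLinearGroup (Fin 2) F)) ∨
        Cfsg.Lie.IsoSuzuki G ∨
        (∃ (F : Type) (_ : Field F) (_ : Fintype F) (n : ℕ), 2 ≤ n ∧
          Fintype.card F = (2 ^ n) ^ 2 ∧ Nonempty (G ≃* Cfsg.PSU 3 F (2 ^ n)))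

/-- A simple group with a strongly embedded subgroup is known. -/
theorem known_of_stronglyEmbedded (hB : Bender.{u}) {G : Type u} [Group G] [Finite G]
    [IsSimpleGroup G] (hna : ¬ IsMulCommutative G) {H : Subgroup G} (hH : IsStronglyEmbedded H) :
    IsKnownSimple' G := by
  have hna' : ∃ a b : G, a * b ≠ b * a := by
    by_contra hcon
    push Not at hcon
    exact hna ⟨⟨hcon⟩⟩
  rcases hB G hna' H hH with ⟨F, i1, i2, ⟨n, hn, hF⟩, he⟩ | h |
    ⟨F, i1, i2, n, hn, hF, he⟩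
  · have hc := charP_two hF
    refine OddHalf.Known.known_of_isLie (p := 2) (Or.inl ⟨F, i1, i2, hc, 2, le_rfl, fun _ => ?_, he⟩)
    rw [hF]
    calc 4 = 2 ^ 2 := by norm_num
      _ ≤ 2 ^ n := Nat.pow_le_pow_right (by norm_num) hn
  · refine OddHalf.Known.known_of_isLie (p := 2) ?_
    unfold IsLieTypeChar
    tauto
  · have hF' : Fintype.card F = 2 ^ (n * 2) := by rw [hF, ← pow_mul]
    have hc := charP_two hF'
    refine OddHalf.Known.known_of_isLie (p := 2) (Or.inr (Or.inr (Or.inl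
      ⟨F, i1, i2, hc, 3, 2 ^ n, hF, le_rfl, ?_, he⟩)))
    rintro ⟨-, h2⟩
    have h4 : 4 ≤ 2 ^ n := by
      calc 4 = 2 ^ 2 := by norm_num
        _ ≤ 2 ^ n := Nat.pow_le_pow_right (by norm_num) hn
    omega

/-! ### The nodes -/

/-- **Node I** (`|M(S)| = 1` and its generalisation): if all members of `L(S)` lie in a proper subgroup,
then `G` has a strongly embedded subgroup. -/
def NodeI : Prop :=
  ∀ (G : Type u) [Group G] [Finite G], Ctx G → ∀ (S : Sylow 2 G), ¬ Full (S : Subgroup G) →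
    ∃ H : Subgroup G, IsStronglyEmbedded H

/-- **Node FF**: a mutual pair exists. -/
def NodeFF : Prop :=
  ∀ (G : Type u) [Group G] [Finite G], Ctx G → ∀ (S : Sylow 2 G), Full (S : Subgroup G) →
    FF (S : Subgroup G) → IsKnownSimple' G

/-- **Node NOFF**: no mutual pair exists. -/
def NodeNOFF : Prop :=
  ∀ (G : Type u) [Group G] [Finite G], Ctx G → ∀ (S : Sylow 2 G), Full (S : Subgroup G) →
    ¬ FF (S : Subgroup G) → IsKnownSimple' G

/-- **The even half from the three nodes.** -/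
theorem evenHalf (hB : Bender.{u}) (h1 : NodeI.{u}) (h2 : NodeFF.{u}) (h3 : NodeNOFF.{u}) : Assembly.EvenHalf.{u} := by
  intro G _ _ _ hna hK hc hr
  have hG : Ctx G := ⟨inferInstance, hna, hK, hc, hr⟩
  have S : Sylow 2 G := default
  by_cases hF : Full (S : Subgroup G)
  · by_cases hm : FF (S : Subgroup G)
    · exact h2 G hG S hF hm
    · exact h3 G hG S hF hm
  · obtain ⟨H, hH⟩ := h1 G hG S hF
    exact known_of_stronglyEmbedded hB hna hH

/-! ### The same relative to a class of groups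

`K` is a class of groups (for the even half: all groups; for the strongly quasithin case: `StrQ`). -/

/-- A class of groups. -/
abbrev Cls : Type (u + 1) := ∀ (G : Type u) [Group G], Prop

/-- The class of all groups. -/
def All : Cls.{u} := fun _ _ => True

section classes

variable (K : Cls.{u})

/-- `NodeI` relative to the class `K`. -/
def NodeIK : Prop :=
  ∀ (G : Type u) [Group G] [Finite G], Ctx G → K G → ∀ (S : Sylow 2 G), ¬ Full (S : Subgroup G) →
    ∃ H : Subgroup G, IsStronglyEmbedded H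

/-- `NodeFF` relative to the class `K`. -/
def NodeFFK : Prop :=
  ∀ (G : Type u) [Group G] [Finite G], Ctx G → K G → ∀ (S : Sylow 2 G), Full (S : Subgroup G) →
    FF (S : Subgroup G) → IsKnownSimple' G

/-- `NodeNOFF` relative to the class `K`. -/
def NodeNOFFK : Prop :=
  ∀ (G : Type u) [Group G] [Finite G], Ctx G → K G → ∀ (S : Sylow 2 G), Full (S : Subgroup G) →
    ¬ FF (S : Subgroup G) → IsKnownSimple' G

/-- The even half relative to the class `K`. -/
def EvenHalfK : Prop :=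
  ∀ (G : Type u) [Group G] [Finite G] [IsSimpleGroup G], ¬ IsMulCommutative G → IsKProper G →
    IsCharacteristicTwoType G → ¬ SectionalPRankLE 2 4 G → K G → IsKnownSimple' G

variable {K}

theorem NodeI.toK (h : NodeI.{u}) : NodeIK K := fun G _ _ hG _ S => h G hG S

theorem NodeFF.toK (h : NodeFF.{u}) : NodeFFK K := fun G _ _ hG _ S => h G hG S

theorem NodeNOFF.toK (h : NodeNOFF.{u}) : NodeNOFFK K := fun G _ _ hG _ S => h G hG S

theorem NodeIK.all (h : NodeIK All.{u}) : NodeI.{u} := fun G _ _ hG S => h G hG trivial S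

theorem NodeFFK.all (h : NodeFFK All.{u}) : NodeFF.{u} := fun G _ _ hG S => h G hG trivial S

theorem NodeNOFFK.all (h : NodeNOFFK All.{u}) : NodeNOFF.{u} := fun G _ _ hG S => h G hG trivial S

/-- **The even half relative to a class, from the three nodes.** -/
theorem evenHalfK (hB : Bender.{u}) (h1 : NodeIK K) (h2 : NodeFFK K) (h3 : NodeNOFFK K) :
    EvenHalfK K := by
  intro G _ _ _ hna hK hc hr hcl
  have hG : Ctx G := ⟨inferInstance, hna, hK, hc, hr⟩
  have S : Sylow 2 G := default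
  by_cases hF : Full (S : Subgroup G)
  · by_cases hm : FF (S : Subgroup G)
    · exact h2 G hG hcl S hF hm
    · exact h3 G hG hcl S hF hm
  · obtain ⟨H, hH⟩ := h1 G hG hcl S hF
    exact known_of_stronglyEmbedded hB hna hH

theorem EvenHalfK.all (h : EvenHalfK All.{u}) : Assembly.EvenHalf.{u} :=
  fun G _ _ _ h1 h2 h3 h4 => h G h1 h2 h3 h4 trivial

end classes

/-! ### Elementary consequences -/

section facts

variable {G : Type u} [Group G] [Finite G]

theorem Ctx.not_isPGroup (h : Ctx G) : ¬ IsPGroup 2 G := by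
  intro h1
  have := h.simple
  have h2 : Fact (Nat.Prime 2) := ⟨Nat.prime_two⟩
  have h3 : Group.IsSolvable G := by
    have := h1.isNilpotent
    infer_instance
  exact h.nonComm (IsSimpleGroup.comm_iff_isSolvable.mpr h3 |> fun h => ⟨⟨h⟩⟩)

/-- `O₂(G) = 1`. -/
theorem Ctx.eq_bot (h : Ctx G) {U : Subgroup G} (hU : IsPGroup 2 U)
    (hn : normalizer (U : Set G) = ⊤) : U = ⊥ := by
  have := h.simple
  have h1 : U.Normal := normalizer_eq_top_iff.mp hn
  rcases h1.eq_bot_or_eq_top with h2 | h2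
  · exact h2
  · exfalso
    refine h.not_isPGroup ?_
    rw [h2] at hU
    exact hU.of_equiv Subgroup.topEquiv

/-- Two subgroups generating `G` are not contained in a common 2-local subgroup. -/
theorem Ctx.nonLoc (h : Ctx G) {A B : Subgroup G} (hAB : A ⊔ B = ⊤) : NonLoc A B := by
  intro U hU hA hB
  exact h.eq_bot hU (top_le_iff.mp (hAB ▸ sup_le hA hB))

theorem Ctx.sylow_ne_bot (h : Ctx G) (S : Sylow 2 G) : (S : Subgroup G) ≠ ⊥ := by
  intro h0
  have h2 : Fact (Nat.Prime 2) := ⟨Nat.prime_two⟩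
  have h1 := S.not_dvd_index
  rw [h0, index_bot] at h1
  exact h1 h.char2.1.two_dvd

/-- `Full S`, in terms of minimal parabolics: a subgroup containing `N_G(S)` and all members of `P(S)`
is `G`. -/
theorem Full.eq_top {S : Sylow 2 G} (h : Full (S : Subgroup G)) {Y : Subgroup G}
    (hN : normalizer ((S : Subgroup G) : Set G) ≤ Y)
    (hP : ∀ P : Subgroup G, IsPar (S : Subgroup G) P → P ≤ Y) : Y = ⊤ :=
  h Y fun _ hL => hL.le_of_forall S (inf_le_right.trans hN) fun P hPp _ => hP P hPp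

/-- In the case `Full` some member of `P(S)` moves `Ω₁(Z(S))`. -/
theorem Ctx.exists_isParS (h : Ctx G) {S : Sylow 2 G} (hF : Full (S : Subgroup G)) :
    ∃ P : Subgroup G, IsParS (S : Subgroup G) P := by
  by_contra hcon
  push Not at hcon
  have h1 : normalizer (zc (S : Subgroup G) : Set G) = ⊤ := by
    refine hF.eq_top (normalizer_le_normalizer_zc _) fun P hP => ?_
    by_contra h2
    exact hcon P ⟨hP, h2⟩
  refine zc_ne_bot S.isPGroup' (h.sylow_ne_bot S) ?_
  exact h.eq_bot (S.isPGroup'.to_le (zc_le _)) h1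

end facts

end Cfsg.Agent.Omega.Frame

end

section


/-!
# OMEGA: case III (no mutual pair) of the master reduction (v5.1, #12237 (A))

`P* = P*(S)`, `V_P = zl S P`, `C = C_G(Ω₁(Z(S)))`, `Q = O₂(C)`, no mutual pair.

* `NodeNO1`: some `P ∈ P*` has `V_P ≰ Q`;
* `NodeNO3S`: `V_P ≤ Q` for all `P ∈ P*`, and `⟨P, C⟩` is nonlocal for some `P ∈ P*`;
* `NodeNO3L`: `V_P ≤ Q` for all `P ∈ P*`, and `⟨P, C⟩` is local for all `P ∈ P*`;
* `nodeNOFF`: the three leaves imply `Frame.NodeNOFFK K`;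
* `sys`, `geo`, `exists_crit`: the abstract hypotheses of `NoFF.Basic`, `NoFF.Lines` hold.
-/

set_option autoImplicit false

namespace Cfsg.Agent.Omega.FrameNOFF

open Subgroup Cfsg Cfsg.Agent.ZN Cfsg.Agent.Omega.MinPar Cfsg.Agent.Omega.Frame
open Cfsg.Agent.MinSimple.VModule
open scoped Pointwise

universe u

section defs

variable {G : Type u} [Group G]

/-- `C_G(Ω₁(Z(S)))`. -/
abbrev CZ (S : Subgroup G) : Subgroup G := centralizer (zc S : Set G)

/-- The set `P*(S)`. -/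
def PS (S : Subgroup G) : Set (Subgroup G) := {P | IsParS S P}

end defs

/-! ### The leaves, relative to a class `K` (`Frame.All` for the even half) -/

section leaves

variable (K : Cls.{u})

/-- **NO-1'**: some `V_P` is not contained in `O₂(C_G(Z))`. -/
def NodeNO1 : Prop :=
  ∀ (G : Type u) [Group G] [Finite G], Ctx G → K G → ∀ (S : Sylow 2 G), Full (S : Subgroup G) →
    ¬ FF (S : Subgroup G) →
    (∃ P : Subgroup G, IsParS (S : Subgroup G) P ∧
      ¬ zl (S : Subgroup G) P ≤ o2 (CZ (S : Subgroup G))) → IsKnownSimple' G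

/-- **NO-3S**: all `V_P ≤ O₂(C_G(Z))`, some `⟨P, C_G(Z)⟩` nonlocal. -/
def NodeNO3S : Prop :=
  ∀ (G : Type u) [Group G] [Finite G], Ctx G → K G → ∀ (S : Sylow 2 G), Full (S : Subgroup G) →
    ¬ FF (S : Subgroup G) →
    (∀ P : Subgroup G, IsParS (S : Subgroup G) P →
      zl (S : Subgroup G) P ≤ o2 (CZ (S : Subgroup G))) →
    (∃ P : Subgroup G, IsParS (S : Subgroup G) P ∧ NonLoc P (CZ (S : Subgroup G))) →
    IsKnownSimple' G

/-- **NO-3L**: all `V_P ≤ O₂(C_G(Z))`, all `⟨P, C_G(Z)⟩` local. -/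
def NodeNO3L : Prop :=
  ∀ (G : Type u) [Group G] [Finite G], Ctx G → K G → ∀ (S : Sylow 2 G), Full (S : Subgroup G) →
    ¬ FF (S : Subgroup G) →
    (∀ P : Subgroup G, IsParS (S : Subgroup G) P →
      zl (S : Subgroup G) P ≤ o2 (CZ (S : Subgroup G))) →
    (∀ P : Subgroup G, IsParS (S : Subgroup G) P → ¬ NonLoc P (CZ (S : Subgroup G))) →
    IsKnownSimple' G

variable {K}

/-- **Case III from its leaves.** -/
theorem nodeNOFF (h1 : NodeNO1 K) (h2 : NodeNO3S K) (h3 : NodeNO3L K) : NodeNOFFK K := by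
  intro G _ _ hG hcl S hF hm
  by_cases ha : ∃ P : Subgroup G, IsParS (S : Subgroup G) P ∧
      ¬ zl (S : Subgroup G) P ≤ o2 (CZ (S : Subgroup G))
  · exact h1 G hG hcl S hF hm ha
  · push Not at ha
    by_cases hb : ∃ P : Subgroup G, IsParS (S : Subgroup G) P ∧ NonLoc P (CZ (S : Subgroup G))
    · exact h2 G hG hcl S hF hm ha hb
    · push Not at hb
      exact h3 G hG hcl S hF hm ha hb

end leaves

/-! ### The abstract hypotheses -/

section plug

variable {G : Type u} [Group G]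

theorem V_eq_zl (S P : Subgroup G) : NoFF.Basic.V (zc S) P = zl S P := rfl

theorem zl_conj_eq {S P : Subgroup G} {p : G} (hp : p ∈ P) :
    MulAut.conj p • zl S P = zl S P := by
  have := NoFF.Basic.conj_V_mul (Z := zc S) (g := 1) hp
  rwa [one_mul, map_one, one_smul] at this

variable [Finite G]

/-- `C_{S^p}(V_P) = O₂(P)` for all `p ∈ P`: an element of `S` centralising `V_P` is in `O₂(P)`. -/
theorem mem_o2_of_cent (hc : IsCharacteristicTwoType G) (S : Sylow 2 G) {P : Subgroup G}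
    (hP : IsParS (S : Subgroup G) P) {x : G} (hx : x ∈ (S : Subgroup G))
    (hxV : x ∈ centralizer (zl (S : Subgroup G) P : Set G)) : x ∈ o2 P := by
  rw [← hP.inf_centralizer S hc]
  exact ⟨hx, hxV⟩

theorem o2_le_conj (S : Sylow 2 G) {P : Subgroup G} (hP : IsPar (S : Subgroup G) P) {p : G}
    (hp : p ∈ P) : o2 P ≤ MulAut.conj p • (S : Subgroup G) := by
  intro x hx
  rw [NoFF.Basic.mem_conj]
  have h1 : p⁻¹ * x * p ∈ o2 P := by
    have h2 := (mem_normalizer_iff.mp (le_normalizer_o2 P (P.inv_mem hp)) x).mp hx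
    rwa [inv_inv] at h2
  exact hP.isLoc.o2_le S h1

/-- The hypotheses of `NoFF.Basic`. -/
theorem sys (hc : IsCharacteristicTwoType G) (S : Sylow 2 G) (hm : ¬ FF (S : Subgroup G)) :
    NoFF.Basic.Sys (S : Subgroup G) (zc (S : Subgroup G)) (PS (S : Subgroup G)) where
  ZS := zc_le _
  cent := fun s hs => mem_centralizer_iff.mpr fun z hz => ((mem_zc.mp hz).2.1 s hs).symm
  SP := fun P hP => hP.le
  abel := by
    intro P hP
    have h1 := hP.isLoc.zl_le S hc
    intro x hx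
    rw [mem_centralizer_iff]
    intro y hy
    have h2 := mem_zc.mp (h1 hx)
    have h3 := mem_zc.mp (h1 hy)
    exact h3.2.1 x h2.1 |>.symm
  core := fun P hP p hp x hx hxV => o2_le_conj S hP.toIsPar hp (mem_o2_of_cent hc S hP hx hxV)
  noff := by
    intro P hP P' hP' g h1 h2
    by_contra hcon
    apply hm
    refine ⟨P, P', g, ⟨hP, hP', ?_, ?_, ?_⟩⟩
    · refine h1.trans ?_
      intro x hx
      have h3 := le_normalizer_zl (S : Subgroup G) P'
      rw [mem_normalizer_iff]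
      rw [NoFF.Basic.mem_conj] at hx
      intro y
      have h4 := mem_normalizer_iff.mp (h3 hx) (g⁻¹ * y * g)
      change y ∈ MulAut.conj g • zl (S : Subgroup G) P' ↔ x * y * x⁻¹ ∈ MulAut.conj g • zl (S : Subgroup G) P'
      rw [NoFF.Basic.mem_conj, NoFF.Basic.mem_conj, h4]
      have e : g⁻¹ * x * g * (g⁻¹ * y * g) * (g⁻¹ * x * g)⁻¹ = g⁻¹ * (x * y * x⁻¹) * g := by group
      rw [e]
    · exact h2.trans (le_normalizer_zl _ _)
    · intro h3
      exact hcon (commutator_eq_bot_iff_le_centralizer.mp h3)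

omit [Finite G] in
/-- `N_G(S)` normalises everything. -/
theorem inv (S : Sylow 2 G) :
    NoFF.Main.Inv (S : Subgroup G) (zc (S : Subgroup G)) (normalizer ((S : Subgroup G) : Set G))
      (PS (S : Subgroup G)) := by
  have hS : ∀ n ∈ normalizer ((S : Subgroup G) : Set G),
      MulAut.conj n • (S : Subgroup G) = (S : Subgroup G) :=
    fun n hn => NoFF.Main.conj_eq_of_mem_normalizer hn
  refine ⟨hS, fun n hn => ?_, fun n hn P hP => ?_⟩
  · exact NoFF.Main.conj_eq_of_mem_normalizer (normalizer_le_normalizer_zc _ hn)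
  · have h1 : IsParS ((S : Subgroup G).map (MulAut.conj n).toMonoidHom)
        (P.map (MulAut.conj n).toMonoidHom) := IsParS.map (MulAut.conj n) hP
    have h2 : (S : Subgroup G).map (MulAut.conj n).toMonoidHom = S := hS n hn
    rw [h2] at h1
    exact h1

/-- The hypotheses of `NoFF.Lines` (cases NO-3S, NO-3L). -/
theorem geo (hc : IsCharacteristicTwoType G) (S : Sylow 2 G) (hm : ¬ FF (S : Subgroup G))
    (hS : (S : Subgroup G) ≠ ⊥)
    (hlow : ∀ P : Subgroup G, IsParS (S : Subgroup G) P →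
      zl (S : Subgroup G) P ≤ o2 (CZ (S : Subgroup G))) :
    NoFF.Lines.Geo (S : Subgroup G) (zc (S : Subgroup G)) (CZ (S : Subgroup G))
      (PS (S : Subgroup G)) where
  toSys := sys hc S hm
  CZ := centralizer_le_normalizer _
  cen := le_rfl
  low := by
    intro P hP c hcC x hx
    rw [NoFF.Basic.mem_conj]
    have h1 : c⁻¹ * x * c ∈ o2 (CZ (S : Subgroup G)) := by
      have h2 := (mem_normalizer_iff.mp (le_normalizer_o2 _ ((CZ (S : Subgroup G)).inv_mem hcC)) x).mp
        (hlow P hP hx)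
      rwa [inv_inv] at h2
    exact (isLoc_centralizer_zc S hS).o2_le S h1
  Zsq := fun z hz => (mem_zc.mp hz).2.2

omit [Finite G] in
theorem le_CZ (S : Sylow 2 G) : (S : Subgroup G) ≤ CZ (S : Subgroup G) :=
  le_centralizer_zc _

/-- The members of `P(S)` which normalise `Z` centralise `Z`. -/
theorem par_le_CZ (S : Sylow 2 G) {P : Subgroup G} (hP : IsPar (S : Subgroup G) P)
    (hZ : ¬ IsParS (S : Subgroup G) P) : P ≤ CZ (S : Subgroup G) := by
  have hz : P ≤ normalizer (zc (S : Subgroup G) : Set G) := by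
    by_contra h
    exact hZ ⟨hP, h⟩
  have hn : P ≤ normalizer ((P ⊓ CZ (S : Subgroup G) : Subgroup G) : Set G) := by
    intro p hp
    rw [mem_normalizer_iff]
    intro x
    have h1 := mem_normalizer_iff.mp (Subgroup.le_normalizer hp) x
    have h2 : x ∈ CZ (S : Subgroup G) ↔ p * x * p⁻¹ ∈ CZ (S : Subgroup G) := by
      rw [mem_centralizer_iff, mem_centralizer_iff]
      constructor
      · intro h z hz'
        have h3 := h _ ((mem_normalizer_iff''.mp (hz hp) z).mp hz')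
        have e : z * (p * x * p⁻¹) = p * ((p⁻¹ * z * p) * x) * p⁻¹ := by group
        rw [e, h3]
        group
      · intro h z hz'
        have h3 := h _ ((mem_normalizer_iff.mp (hz hp) z).mp hz')
        have e : z * x = p⁻¹ * ((p * z * p⁻¹) * (p * x * p⁻¹)) * p := by group
        rw [e, h3]
        group
    rw [mem_inf, mem_inf, h1, h2]
  rcases hP.sup_eq_or_inf_le S (N := P ⊓ CZ (S : Subgroup G)) inf_le_left hn with h | h
  · have h1 : (S : Subgroup G) ≤ P ⊓ CZ (S : Subgroup G) := le_inf hP.le (le_CZ S)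
    rw [sup_eq_left.mpr h1] at h
    exact inf_eq_left.mp h
  · exfalso
    have h1 : (S : Subgroup G) ≤ o2 P := (le_inf le_rfl (le_inf hP.le (le_CZ S))).trans h
    have h2 : o2 P = (S : Subgroup G) := le_antisymm (hP.isLoc.o2_le S) h1
    exact hP.not_le (h2 ▸ le_normalizer_o2 P)

/-- `N_G(S)` normalises `⟨C_G(Z), P*(S)⟩`. -/
theorem conj_sup (S : Sylow 2 G) {n : G} (hn : n ∈ normalizer ((S : Subgroup G) : Set G)) :
    MulAut.conj n • (CZ (S : Subgroup G) ⊔ sSup (PS (S : Subgroup G))) ≤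
      CZ (S : Subgroup G) ⊔ sSup (PS (S : Subgroup G)) := by
  rw [Subgroup.smul_sup]
  apply sup_le_sup
  · intro x hx
    rw [NoFF.Basic.mem_conj] at hx
    rw [mem_centralizer_iff] at hx ⊢
    intro z hz
    have hn' := normalizer_le_normalizer_zc _ hn
    have h3 := hx _ ((mem_normalizer_iff''.mp hn' z).mp hz)
    have e : z * x = n * ((n⁻¹ * z * n) * (n⁻¹ * x * n)) * n⁻¹ := by group
    rw [e, h3]
    group
  · rw [Subgroup.pointwise_smul_subset_iff]
    refine sSup_le fun P hP => ?_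
    rw [← Subgroup.pointwise_smul_subset_iff]
    exact le_sSup ((inv S).nF n hn P hP)

/-- A 2-subgroup normalised by `C_G(Z)` and by all members of `P*(S)` is trivial. -/
theorem eq_bot_of_norm (h : Ctx G) (S : Sylow 2 G) (hF : Full (S : Subgroup G)) {U : Subgroup G}
    (hU : IsPGroup 2 U) (hP : ∀ P ∈ PS (S : Subgroup G), P ≤ normalizer (U : Set G))
    (hC : CZ (S : Subgroup G) ≤ normalizer (U : Set G)) : U = ⊥ := by
  by_contra hU1
  set Y : Subgroup G := CZ (S : Subgroup G) ⊔ sSup (PS (S : Subgroup G)) with hY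
  have hYU : Y ≤ normalizer (U : Set G) := sup_le hC (sSup_le hP)
  have hSY : (S : Subgroup G) ≤ Y := (le_CZ S).trans le_sup_left
  have hUS : U ≤ (S : Subgroup G) := le_of_le_normalizer S hU (hSY.trans hYU)
  have hO : o2 Y ≠ ⊥ := o2_ne_bot_of_le hU hU1 (hUS.trans hSY) hYU
  apply hO
  refine h.eq_bot (o2_isPGroup Y) (hF.eq_top ?_ ?_)
  · intro n hn
    have key : ∀ n ∈ normalizer ((S : Subgroup G) : Set G), Y.map (MulAut.conj n).toMonoidHom = Y := by
      intro n hn
      apply le_antisymm (conj_sup S hn)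
      have h1 := conj_sup S (inv_mem hn)
      have h2 := NoFF.Basic.conj_le_iff (g := n).2 h1
      rwa [NoFF.Basic.conj_conj, mul_inv_cancel, map_one, one_smul] at h2
    have h3 : (o2 Y).map (MulAut.conj n).toMonoidHom = o2 Y := by
      rw [← o2_map_equiv, key n hn]
    rw [mem_normalizer_iff]
    intro x
    constructor
    · intro hx
      rw [← h3]
      exact ⟨x, hx, rfl⟩
    · intro hx
      rw [← h3] at hx
      obtain ⟨y, hy, hxy⟩ := hx
      have : y = x := (MulAut.conj n).injective hxy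
      exact this ▸ hy
  · intro P hPp
    by_cases hs : IsParS (S : Subgroup G) P
    · exact ((le_sSup (a := P) hs).trans le_sup_right).trans (le_normalizer_o2 Y)
    · exact ((par_le_CZ S hPp hs).trans le_sup_left).trans (le_normalizer_o2 Y)

/-- A critical pair exists. -/
theorem exists_crit (h : Ctx G) (S : Sylow 2 G) (hF : Full (S : Subgroup G))
    (hm : ¬ FF (S : Subgroup G))
    (hlow : ∀ P : Subgroup G, IsParS (S : Subgroup G) P →
      zl (S : Subgroup G) P ≤ o2 (CZ (S : Subgroup G))) :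
    ∃ n, 1 ≤ n ∧ ∃ y, NoFF.Lines.Crit (zc (S : Subgroup G)) (CZ (S : Subgroup G))
      (PS (S : Subgroup G)) n 1 y := by
  obtain ⟨P, hP⟩ := h.exists_isParS hF
  refine (geo h.char2 S hm (h.sylow_ne_bot S) hlow).exists_crit ⟨P, hP⟩
    (MinSimple.Basic.zc_ne_bot S.isPGroup' (h.sylow_ne_bot S)) ?_
  intro U hU hPU hCU
  exact eq_bot_of_norm h S hF hU hPU hCU

end plug

end Cfsg.Agent.Omega.FrameNOFF

end

section


/-!
# OMEGA: the first cut `V_P ≤ O₂(C_G(Z))` (ruling on #13114)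

`AllIn S` : `V_P ≤ O₂(C_G(Z))` for all `P ∈ P*(S)`.  The master reduction (MASTER v5.2) reads

* `Frame.NodeIK K` (not `Full S`),
* `NodeN1 K` (`Full S`, not `AllIn S`; no hypothesis on mutual pairs),
* `NodeFF K` (`Full S`, `AllIn S`, a mutual pair),
* `FrameNOFF.NodeNO3S K`, `FrameNOFF.NodeNO3L K` (`Full S`, `AllIn S`, no mutual pair).
-/

set_option autoImplicit false

namespace Cfsg.Agent.Omega.FrameLE

open Subgroup Cfsg Cfsg.Agent.ZN Cfsg.Agent.Omega.MinPar Cfsg.Agent.Omega.Frame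
open Cfsg.Agent.Omega.FrameNOFF (CZ)

universe u

/-- `V_P ≤ O₂(C_G(Z))` for all `P ∈ P*(S)`. -/
def AllIn {G : Type u} [Group G] (S : Subgroup G) : Prop :=
  ∀ P : Subgroup G, IsParS S P → zl S P ≤ o2 (CZ S)

section nodes

variable (K : Cls.{u})

/-- **N1**: some `V_P`, `P ∈ P*(S)`, is not contained in `O₂(C_G(Z))` (mutual pairs allowed). -/
def NodeN1 : Prop :=
  ∀ (G : Type u) [Group G] [Finite G], Ctx G → K G → ∀ (S : Sylow 2 G), Full (S : Subgroup G) →
    ∀ P : Subgroup G, IsParS (S : Subgroup G) P → ¬ zl (S : Subgroup G) P ≤ o2 (CZ (S : Subgroup G)) →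
      IsKnownSimple' G

/-- **II**: `AllIn S` and a mutual pair. -/
def NodeFF : Prop :=
  ∀ (G : Type u) [Group G] [Finite G], Ctx G → K G → ∀ (S : Sylow 2 G), Full (S : Subgroup G) →
    AllIn (S : Subgroup G) → FF (S : Subgroup G) → IsKnownSimple' G

variable {K}

/-- **The even half, MASTER v5.2.** -/
theorem evenHalf (hB : Bender.{u}) (h1 : NodeIK K) (hN : NodeN1 K) (h2 : NodeFF K)
    (h3 : FrameNOFF.NodeNO3S K) (h4 : FrameNOFF.NodeNO3L K) : EvenHalfK K := by
  refine evenHalfK hB h1 ?_ (FrameNOFF.nodeNOFF ?_ h3 h4)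
  · intro G _ _ hG hcl S hF hm
    by_cases hLE : AllIn (S : Subgroup G)
    · exact h2 G hG hcl S hF hLE hm
    · unfold AllIn at hLE
      push Not at hLE
      obtain ⟨P, hP, hn⟩ := hLE
      exact hN G hG hcl S hF P hP hn
  · intro G _ _ hG hcl S hF _ ⟨P, hP, hn⟩
    exact hN G hG hcl S hF P hP hn

end nodes

end Cfsg.Agent.Omega.FrameLE

end

section


/-!
# Case FF: the leaves (project OMEGA, MASTER REDUCTION v5.1, case II)

`S` a Sylow 2-subgroup, `V_P = zl S P`, `Mutual S P₁ P₂ x` : `V_{P₁}` and `(V_{P₂})^x` are a mutual pair.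

* `NatOver F N V D` : `N` induces on `V / D` a group with a normal subgroup `SL₂(F)`, `V / D` is the natural
  module and the `SL₂(F)` is induced by elements which centralise `D`;
* `Single S P` : `V_P / C_{V_P}(O²(P))` is a natural `SL₂(F)`-module (one factor) for `P`;
* `Free S P` : `C_{V_P}(O²(P)) = 1`;
* leaves: `LeafMulti` (a mutual pair with a member which is not `Single`: `k ≥ 2` natural factors,
  `S_{2^m+1}`; II.c, II.d), `LeafH1` (all are `Single`, one is not `Free`; II.0h1), `LeafB` (no mutual pair of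
  one type: `W_V`, `W_{V'}` abelian; II.b), `LeafA2`, `LeafA4` (a mutual pair `V, V^h`, `q = 2` resp. `q ≥ 4`;
  II.a); `NormStep` : the `SL₂(F)` is normal in `N_G(V)/C_G(V)` for `|V|` minimal (#12618);
* `nodeFF` : the leaves imply `FrameLE.NodeFF K`.

All leaves are relative to a class `K` (`Frame.All` for the even half) and contain the hypothesis
`AllIn S` : `V_P ≤ O₂(C_G(Z))` for all `P ∈ P*(S)` (ruling of 03:35Z on #13114).
-/

set_option autoImplicit false

namespace Cfsg.Agent.Omega.FrameFF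

open Subgroup Cfsg Cfsg.Agent.ZN Cfsg.Agent.Omega.MinPar Cfsg.Agent.Omega.Frame
open Cfsg.Agent.Omega.FrameLE (AllIn)
open Cfsg.Agent.Omega.NatPair (NatMod ap)
open Cfsg.Agent.MinSimple.VModule (oddGen)
open Cfsg.Agent.Lib.SL2Mat

universe u

/-! ### One natural factor -/

section defs

variable {G : Type u} [Group G]

/-- `V / D` is the natural module `F²` for a normal subgroup `SL₂(F)` of the group induced by `N`, and this
`SL₂(F)` is induced by elements which centralise `D`. -/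
structure NatOver (F : Type) [Field F] (N V D : Subgroup G) where
  e : G → (Fin 2 → F)
  mul : ∀ v ∈ V, ∀ w ∈ V, e (v * w) = e v + e w
  surj : ∀ x : Fin 2 → F, ∃ v ∈ V, e v = x
  ker : ∀ v ∈ V, e v = 0 ↔ v ∈ D
  lift : ∀ A : Matrix.SpecialLinearGroup (Fin 2) F, ∃ g ∈ N, (∀ v ∈ V, e (g * v * g⁻¹) = ap A (e v)) ∧
    ∀ d ∈ D, g * d = d * g
  norm : ∀ g ∈ N, ∀ h ∈ N, ∀ A : Matrix.SpecialLinearGroup (Fin 2) F,
    (∀ v ∈ V, e (h * v * h⁻¹) = ap A (e v)) → ∃ B : Matrix.SpecialLinearGroup (Fin 2) F,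
      ∀ v ∈ V, e (g * h * g⁻¹ * v * (g * h * g⁻¹)⁻¹) = ap B (e v)

/-- `C_{V_P}(O²(P))` -/
def cv (S P : Subgroup G) : Subgroup G := zl S P ⊓ centralizer (oddGen P : Set G)

/-- `V_P / C_{V_P}(O²(P))` is one natural `SL₂(q)`-module for `P`. -/
def Single (S P : Subgroup G) : Prop :=
  ∃ (F : Type) (_ : Field F) (_ : Finite F) (_ : CharP F 2), Nonempty (NatOver F P (zl S P) (cv S P))

/-- `C_{V_P}(O²(P)) = 1` -/
def Free (S P : Subgroup G) : Prop := cv S P = ⊥

/-- All members of mutual pairs have one natural factor. -/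
def AllSingle (S : Subgroup G) : Prop :=
  ∀ (P₁ P₂ : Subgroup G) (x : G), Mutual S P₁ P₂ x → Single S P₁ ∧ Single S P₂

/-- All members of mutual pairs have one natural factor and `C_V(O²(P)) = 1`. -/
def AllFree (S : Subgroup G) : Prop :=
  AllSingle S ∧ ∀ (P₁ P₂ : Subgroup G) (x : G), Mutual S P₁ P₂ x → Free S P₁ ∧ Free S P₂

/-- `(V, V^g)`, `V = V_P`, is a mutual pair and `|V|` is minimal. -/
structure MinSame (S P : Subgroup G) (g : G) : Prop where
  pair : Mutual S P P g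
  min : ∀ (P' : Subgroup G) (g' : G), Mutual S P' P' g' → Nat.card (zl S P) ≤ Nat.card (zl S P')

end defs

/-! ### The leaves -/

section leaves

variable (K : Cls.{u})

/-- II.c, II.d, N6: a mutual pair with a member which has not exactly one natural factor. -/
def LeafMulti : Prop :=
  ∀ (G : Type u) [Group G] [Finite G], Ctx G → K G → ∀ (S : Sylow 2 G), Full (S : Subgroup G) →
    AllIn (S : Subgroup G) →
    ∀ (P₁ P₂ : Subgroup G) (x : G), Mutual (S : Subgroup G) P₁ P₂ x →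
      ¬ (Single (S : Subgroup G) P₁ ∧ Single (S : Subgroup G) P₂) → IsKnownSimple' G

/-- II.0h1: all have one natural factor, and `C_V(O²(P)) ≠ 1` occurs. -/
def LeafH1 : Prop :=
  ∀ (G : Type u) [Group G] [Finite G], Ctx G → K G → ∀ (S : Sylow 2 G), Full (S : Subgroup G) →
    AllIn (S : Subgroup G) →
    AllSingle (S : Subgroup G) →
    ∀ (P₁ P₂ : Subgroup G) (x : G), Mutual (S : Subgroup G) P₁ P₂ x → ¬ Free (S : Subgroup G) P₁ →
      IsKnownSimple' G

/-- II.b: no mutual pair of one type (so `W_V` and `W_{V'}` are abelian). -/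
def LeafB : Prop :=
  ∀ (G : Type u) [Group G] [Finite G], Ctx G → K G → ∀ (S : Sylow 2 G), Full (S : Subgroup G) →
    AllIn (S : Subgroup G) →
    AllFree (S : Subgroup G) → (∀ (P : Subgroup G) (g : G), ¬ Mutual (S : Subgroup G) P P g) →
    ∀ (P₁ P₂ : Subgroup G) (x : G), Mutual (S : Subgroup G) P₁ P₂ x → IsKnownSimple' G

/-- #12618: the `SL₂(F)` is normal in `N_G(V)/C_G(V)` for a mutual pair `V, V^g` with `|V|` minimal. -/
def NormStep : Prop :=
  ∀ (G : Type u) [Group G] [Finite G], Ctx G → K G → ∀ (S : Sylow 2 G), Full (S : Subgroup G) →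
    AllIn (S : Subgroup G) →
    AllFree (S : Subgroup G) → ∀ (P : Subgroup G) (g : G), MinSame (S : Subgroup G) P g →
      ∃ (F : Type) (_ : Field F) (_ : Finite F) (_ : CharP F 2), Nonempty (NatMod F (zl (S : Subgroup G) P))

/-- II.a, `q = 2`. -/
def LeafA2 : Prop :=
  ∀ (G : Type u) [Group G] [Finite G], Ctx G → K G → ∀ (S : Sylow 2 G), Full (S : Subgroup G) →
    AllIn (S : Subgroup G) →
    AllFree (S : Subgroup G) → ∀ (P : Subgroup G) (g : G), MinSame (S : Subgroup G) P g →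
      Nat.card (zl (S : Subgroup G) P) = 4 → IsKnownSimple' G

/-- II.a, `q ≥ 4`. -/
def LeafA4 : Prop :=
  ∀ (G : Type u) [Group G] [Finite G], Ctx G → K G → ∀ (S : Sylow 2 G), Full (S : Subgroup G) →
    AllIn (S : Subgroup G) →
    AllFree (S : Subgroup G) → ∀ (P : Subgroup G) (g : G), MinSame (S : Subgroup G) P g →
      ∀ (F : Type) [Field F] [Finite F] [CharP F 2], NatMod F (zl (S : Subgroup G) P) → 4 ≤ Nat.card F →
        IsKnownSimple' G

end leaves

/-! ### The node -/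

theorem card_eq_four {G : Type u} [Group G] {F : Type} [Field F] [Finite F] {V : Subgroup G} (M : NatMod F V)
    (h : Nat.card F = 2) : Nat.card V = 4 := by
  have h1 : Nat.card V = Nat.card (Fin 2 → F) := by
    refine (Nat.card_congr (Equiv.ofBijective (fun x => (⟨M.e x, M.e_mem x⟩ : V)) ⟨?_, ?_⟩)).symm
    · intro x y hxy
      exact M.e_inj (congrArg Subtype.val hxy)
    · rintro ⟨v, hv⟩
      obtain ⟨x, hx⟩ := (M.mem_iff v).1 hv
      exact ⟨x, Subtype.ext hx⟩
  rw [h1, Nat.card_fun, h]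
  simp

theorem two_le_card {F : Type} [Field F] [Finite F] [CharP F 2] : Nat.card F = 2 ∨ 4 ≤ Nat.card F := by
  have : Fintype F := Fintype.ofFinite F
  obtain ⟨n, -, hn⟩ := FiniteField.card F 2
  rw [Nat.card_eq_fintype_card, hn]
  rcases Nat.lt_or_ge (n : ℕ) 2 with h | h
  · left
    have h1 : (n : ℕ) = 1 := by have := n.pos; omega
    rw [h1]; norm_num
  · right
    calc 4 = 2 ^ 2 := by norm_num
      _ ≤ 2 ^ (n : ℕ) := Nat.pow_le_pow_right (by norm_num) h

/-- **Case FF from its leaves.** -/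
theorem nodeFF {K : Cls.{u}} (hM : LeafMulti K) (hH : LeafH1 K) (hB : LeafB K) (hN : NormStep K)
    (hA2 : LeafA2 K) (hA4 : LeafA4 K) : FrameLE.NodeFF K := by
  intro G _ _ hG hcl S hF hLE hFF
  by_cases hs : AllSingle (S : Subgroup G)
  · by_cases hf : ∀ (P₁ P₂ : Subgroup G) (x : G), Mutual (S : Subgroup G) P₁ P₂ x →
        Free (S : Subgroup G) P₁ ∧ Free (S : Subgroup G) P₂
    · by_cases hsame : ∀ (P : Subgroup G) (g : G), ¬ Mutual (S : Subgroup G) P P g
      · obtain ⟨P₁, P₂, x, h⟩ := hFF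
        exact hB G hG hcl S hF hLE ⟨hs, hf⟩ hsame P₁ P₂ x h
      · push Not at hsame
        -- a mutual pair of one type with `|V|` minimal
        let s : Set (Subgroup G × G) := {q | Mutual (S : Subgroup G) q.1 q.1 q.2}
        have hne : s.Nonempty := by
          obtain ⟨P, g, h⟩ := hsame
          exact ⟨(P, g), h⟩
        obtain ⟨⟨P, g⟩, hm, hmin⟩ := Set.exists_min_image s
          (fun q => Nat.card (zl (S : Subgroup G) q.1)) (Set.toFinite s) hne
        have hMS : MinSame (S : Subgroup G) P g := ⟨hm, fun P' g' h' => hmin (P', g') h'⟩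
        obtain ⟨F, _, _, _, ⟨M⟩⟩ := hN G hG hcl S hF hLE ⟨hs, hf⟩ P g hMS
        rcases two_le_card (F := F) with h2 | h4
        · exact hA2 G hG hcl S hF hLE ⟨hs, hf⟩ P g hMS (card_eq_four M h2)
        · exact hA4 G hG hcl S hF hLE ⟨hs, hf⟩ P g hMS F M h4
    · push Not at hf
      obtain ⟨P₁, P₂, x, h, hfr⟩ := hf
      by_cases h1 : Free (S : Subgroup G) P₁
      · exact hH G hG hcl S hF hLE hs P₂ P₁ x⁻¹ h.symm (hfr h1)
      · exact hH G hG hcl S hF hLE hs P₁ P₂ x h h1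
  · unfold AllSingle at hs
    push Not at hs
    obtain ⟨P₁, P₂, x, h, hns⟩ := hs
    exact hM G hG hcl S hF hLE P₁ P₂ x h fun hc => hns hc.1 hc.2

end Cfsg.Agent.Omega.FrameFF

end

section


/-!
# The K-free FF theorem for minimal parabolics, as a proposition

`T` is a Sylow 2-subgroup of `H`, `H` is a minimal parabolic over `T` (`IsMinPar T H`) of characteristic 2,
`V = zl T H = ⟨Ω₁(Z(T))^H⟩`, `D = cv T H = C_V(O²(H))`.

* `Off V A` : `A` is elementary abelian, `[V, A] ≠ 1` and `|V : C_V(A)| ≤ |A : C_A(V)|`;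
* `NoOver V H` : `|A : C_A(V)| ≤ |V : C_V(A)|` for all elementary abelian 2-subgroups `A` of `H`;
* `NatK F T H V D k` : `V / D` is the direct sum of `k` natural `SL₂(F)`-modules (coordinates `e`), the group
  `SL₂(F)^k` is induced by elements of `H` which centralise `D` and is normal in `H / C_H(V)`, `H` permutes the
  summands, `T` permutes them transitively, `T` respects the lines `{x | x 1 = 0}`, `H = SL₂(F)^k T C_H(V)`, and
  every offender in `T` is a product of full root groups;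
* `SymK T H V D k m` : the same with `k` even-subset modules of `S_{2^m+1}`; every offender in `T` is generated
  by transpositions;
* `FFThm` : the statement (#12272; authors helper431, 645, 385, 31, 65, 670, 51, 150);
* `NatK.single` : `k = 1` gives `FrameFF.Single`;
* `FFThm.of_mutual` : the consequence for the members of a mutual pair.
-/

set_option autoImplicit false

namespace Cfsg.Agent.Omega

open Subgroup Cfsg Cfsg.Agent.ZN Cfsg.Agent.ZN.ChoiceBase Cfsg.Agent.ZN.ChoiceSit Cfsg.Agent.Omega.MinPar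
open Cfsg.Agent.Omega.FrameFF Cfsg.Agent.MinSimple.MinParabolic
open Cfsg.Agent.Omega.NatPair (ap)
open Cfsg.Agent.Lib.SL2Mat

universe u

namespace FFThm

section defs

variable {G : Type u} [Group G]

/-! ### Offenders -/

/-- `A` is an offender on `V`: elementary abelian, `[V, A] ≠ 1`, `|V : C_V(A)| ≤ |A : C_A(V)|`. -/
structure Off (V A : Subgroup G) : Prop where
  elem : IsElementaryAbelian 2 A
  ne : ¬ A ≤ centralizer (V : Set G)
  le : Nat.card V * Nat.card ↥(A ⊓ centralizer (V : Set G)) ≤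
    Nat.card A * Nat.card ↥(V ⊓ centralizer (A : Set G))

/-- No over-offender: `|A : C_A(V)| ≤ |V : C_V(A)|` for all elementary abelian 2-subgroups `A` of `H`. -/
def NoOver (V H : Subgroup G) : Prop :=
  ∀ A : Subgroup G, A ≤ H → IsElementaryAbelian 2 A →
    Nat.card A * Nat.card ↥(V ⊓ centralizer (A : Set G)) ≤
      Nat.card V * Nat.card ↥(A ⊓ centralizer (V : Set G))

/-! ### Sums of natural `SL₂(F)`-modules -/

/-- `g` acts as `A ∈ SL₂(F)^k` on the coordinates of `V` and trivially on `D`. -/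
def ActsSL {F : Type} [Field F] {k : ℕ} (e : G → Fin k → Fin 2 → F) (V D : Subgroup G) (g : G)
    (A : Fin k → Matrix.SpecialLinearGroup (Fin 2) F) : Prop :=
  (∀ v ∈ V, ∀ i, e (g * v * g⁻¹) i = ap (A i) (e v i)) ∧ ∀ d ∈ D, g * d = d * g

/-- `V / D` is the sum of `k` natural modules for the normal subgroup `SL₂(F)^k` of `H / C_H(V)`. -/
structure NatK (F : Type) [Field F] (T H V D : Subgroup G) (k : ℕ) where
  e : G → Fin k → Fin 2 → F
  mul : ∀ v ∈ V, ∀ w ∈ V, e (v * w) = e v + e w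
  surj : ∀ x : Fin k → Fin 2 → F, ∃ v ∈ V, e v = x
  ker : ∀ v ∈ V, e v = 0 ↔ v ∈ D
  lift : ∀ A : Fin k → Matrix.SpecialLinearGroup (Fin 2) F, ∃ g ∈ H, ActsSL e V D g A
  norm : ∀ g ∈ H, ∀ h ∈ H, ∀ A : Fin k → Matrix.SpecialLinearGroup (Fin 2) F,
    (∀ v ∈ V, ∀ i, e (h * v * h⁻¹) i = ap (A i) (e v i)) →
      ∃ B : Fin k → Matrix.SpecialLinearGroup (Fin 2) F,
        ∀ v ∈ V, ∀ i, e (g * h * g⁻¹ * v * (g * h * g⁻¹)⁻¹) i = ap (B i) (e v i)
  /-- `H` permutes the summands -/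
  perm : ∀ g ∈ H, ∃ σ : Equiv.Perm (Fin k), ∀ v ∈ V, ∀ i, e (g * v * g⁻¹) (σ i) = 0 ↔ e v i = 0
  /-- `T` is transitive on the summands -/
  trans : ∀ i j, ∃ t ∈ T, ∀ v ∈ V, e (t * v * t⁻¹) j = 0 ↔ e v i = 0
  /-- `T` permutes the lines `{x | x 1 = 0}` -/
  line : ∀ t ∈ T, ∃ σ : Equiv.Perm (Fin k), ∀ v ∈ V, ∀ i,
    e (t * v * t⁻¹) (σ i) 1 = 0 ↔ e v i 1 = 0
  /-- the upper unitriangular elements are induced by `T` -/
  unip : ∀ b : Fin k → F, ∃ t ∈ T, ActsSL e V D t fun i => up (b i)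
  /-- `H = SL₂(F)^k T C_H(V)` -/
  gen : ∀ K : Subgroup G, T ≤ K → (∀ h ∈ H, ∀ A, ActsSL e V D h A → h ∈ K) → H ≤ K
  /-- every offender in `T` is a product of full root groups -/
  off : ∀ A : Subgroup G, A ≤ T → Off V A → ∃ I : Set (Fin k),
    (∀ a ∈ A, ∃ b : Fin k → F, (∀ i, i ∉ I → b i = 0) ∧ ActsSL e V D a fun i => up (b i)) ∧
      ∀ b : Fin k → F, (∀ i, i ∉ I → b i = 0) → ∃ a ∈ A, ActsSL e V D a fun i => up (b i)

/-! ### Sums of even-subset modules -/

/-- `g` acts on the coordinates of `V` by the permutation `(σ, τ)` of the points. -/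
def ActsSym {k n : ℕ} (e : G → Fin k → Fin n → ZMod 2) (V : Subgroup G) (g : G)
    (σ : Equiv.Perm (Fin k)) (τ : Fin k → Equiv.Perm (Fin n)) : Prop :=
  ∀ v ∈ V, ∀ i x, e (g * v * g⁻¹) (σ i) (τ i x) = e v i x

/-- `V / D` is the sum of `k` even-subset modules of symmetric groups of degree `2^m + 1`. -/
structure SymK (T H V D : Subgroup G) (k m : ℕ) where
  e : G → Fin k → Fin (2 ^ m + 1) → ZMod 2
  mul : ∀ v ∈ V, ∀ w ∈ V, e (v * w) = e v + e w
  even : ∀ v ∈ V, ∀ i, ∑ x, e v i x = 0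
  surj : ∀ y : Fin k → Fin (2 ^ m + 1) → ZMod 2, (∀ i, ∑ x, y i x = 0) → ∃ v ∈ V, e v = y
  ker : ∀ v ∈ V, e v = 0 ↔ v ∈ D
  lift : ∀ τ : Fin k → Equiv.Perm (Fin (2 ^ m + 1)), ∃ g ∈ H, ActsSym e V g 1 τ ∧ ∀ d ∈ D, g * d = d * g
  perm : ∀ g ∈ H, ∃ σ τ, ActsSym e V g σ τ
  /-- `T` is transitive on the summands -/
  trans : ∀ i j, ∃ t ∈ T, ∃ σ τ, ActsSym e V t σ τ ∧ σ i = j
  /-- `T` fixes the points `0` -/
  fix0 : ∀ t ∈ T, ∀ σ τ, ActsSym e V t σ τ → ∀ i, τ i 0 = 0
  /-- `H = (S_{2^m+1})^k T C_H(V)` -/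
  gen : ∀ K : Subgroup G, T ≤ K →
    (∀ h ∈ H, ∀ τ, ActsSym e V h 1 τ → (∀ d ∈ D, h * d = d * h) → h ∈ K) → H ≤ K
  /-- every offender in `T` is generated by transpositions -/
  off : ∀ A : Subgroup G, A ≤ T → Off V A → (∀ a ∈ A, ∀ d ∈ D, a * d = d * a) ∧
    ∀ a ∈ A, ∃ τ : Fin k → Equiv.Perm (Fin (2 ^ m + 1)), ActsSym e V a 1 τ ∧
      ∀ i x, τ i x ≠ x → τ i (τ i x) = x ∧
        ∃ b ∈ A, ActsSym e V b 1 (Function.update 1 i (Equiv.swap x (τ i x)))

/-- The conclusion of the FF theorem. -/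
def Concl (T H : Subgroup G) : Prop :=
  (∃ (F : Type) (_ : Field F) (_ : Finite F) (_ : CharP F 2) (k : ℕ),
    0 < k ∧ Nonempty (NatK F T H (zl T H) (cv T H) k)) ∨
  ∃ k m : ℕ, 0 < k ∧ 2 ≤ m ∧ Nonempty (SymK T H (zl T H) (cv T H) k m)

end defs

/-- **The K-free FF theorem** (#12272) for a minimal parabolic `H` of characteristic 2 over its Sylow
2-subgroup `T`, `V = zl T H`. -/
def Stmt : Prop :=
  ∀ (G : Type u) [Group G] [Finite G] (T H : Subgroup G), Syl T H → IsMinPar T H →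
    H ⊓ centralizer (o2 H : Set G) ≤ o2 H → (∃ A : Subgroup G, A ≤ H ∧ Off (zl T H) A) →
      NoOver (zl T H) H ∧ Concl T H

/-! ### One summand -/

section single

variable {G : Type u} [Group G] {F : Type} [Field F] {T H V D : Subgroup G}

/-- One natural summand: the structure of `FrameFF`. -/
def NatK.natOver (h : NatK F T H V D 1) : NatOver F H V D where
  e g := h.e g 0
  mul v hv w hw := by rw [h.mul v hv w hw]; rfl
  surj x := by
    obtain ⟨v, hv, hx⟩ := h.surj fun _ => x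
    exact ⟨v, hv, by rw [hx]⟩
  ker v hv := by
    rw [← h.ker v hv]
    constructor
    · intro h0
      funext i
      rw [Subsingleton.elim i 0, h0]
      rfl
    · intro h0
      rw [h0]
      rfl
  lift A := by
    obtain ⟨g, hg, h1, h2⟩ := h.lift fun _ => A
    exact ⟨g, hg, fun v hv => h1 v hv 0, h2⟩
  norm g hg x hx A hA := by
    obtain ⟨B, hB⟩ := h.norm g hg x hx (fun _ => A) fun v hv i => by
      rw [Subsingleton.elim i 0]
      exact hA v hv
    exact ⟨B 0, fun v hv => hB v hv 0⟩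

theorem NatK.single [Finite F] [CharP F 2] (h : NatK F T H (zl T H) (cv T H) 1) : Single T H :=
  ⟨F, inferInstance, inferInstance, inferInstance, ⟨h.natOver⟩⟩

end single

/-! ### Conjugation and symmetry of offenders -/

section off

variable {G : Type u} [Group G]

theorem off_cj {V A : Subgroup G} (h : Off V A) (g : G) : Off (cj g V) (cj g A) := by
  refine ⟨isElementaryAbelian_cj g h.elem, fun h0 => h.ne ?_, ?_⟩
  · rw [← cj_centralizer, cj_le_iff, cj_inv_cj] at h0
    exact h0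
  · rw [← cj_centralizer, ← cj_centralizer, ← cj_inf, ← cj_inf, card_cj, card_cj, card_cj, card_cj]
    exact h.le

/-- Of two elementary abelian groups which do not commute, one is an offender on the other. -/
theorem off_or {V W : Subgroup G} (hV : IsElementaryAbelian 2 V) (hW : IsElementaryAbelian 2 W)
    (hne : ¬ W ≤ centralizer (V : Set G)) : Off V W ∨ Off W V := by
  have hne' : ¬ V ≤ centralizer (W : Set G) := fun h => hne (le_centralizer_iff.mp h)
  rcases le_total (Nat.card V * Nat.card ↥(W ⊓ centralizer (V : Set G)))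
    (Nat.card W * Nat.card ↥(V ⊓ centralizer (W : Set G))) with h | h
  · exact Or.inl ⟨hW, hne, h⟩
  · exact Or.inr ⟨hV, hne', h⟩

end off

end FFThm

end Cfsg.Agent.Omega

end

section


/-!
# SQ0: the conclusion of the FF theorem for a faithful action

`X` acts on the elementary abelian 2-group `V` (written multiplicatively, `MulDistribMulAction X V`), `T` a subgroup of
`X`.  `AbsNat`, `AbsSym` are the structures `NatK`, `SymK` of `FFThm` word for word in this language, with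
`D = odd X V` = the fixed points of `O²(X)`.
-/

set_option autoImplicit false
set_option linter.unusedSectionVars false

namespace Cfsg.Agent.Omega.FFBr

open Subgroup Cfsg.Agent.Lib.SL2Mat
open Cfsg.Agent.Omega.NatPair (ap)

universe u

/-- the abstract situation of the FF theorem -/
structure Abs (X V : Type*) [Group X] [Group V] [MulDistribMulAction X V] (T : Sylow 2 X) (M : Subgroup X) : Prop where
  comm : ∀ v w : V, v * w = w * v
  sq : ∀ v : V, v * v = 1
  faith : ∀ x : X, (∀ v : V, x • v = v) → x = 1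
  core : ∀ N : Subgroup X, N.Normal → IsPGroup 2 N → N = ⊥
  TM : (T : Subgroup X) ≤ M
  Mne : M ≠ ⊤
  max : ∀ K : Subgroup X, (T : Subgroup X) ≤ K → K ≤ M ∨ K = ⊤
  gen : ∀ W : Subgroup V, (∀ v : V, (∀ t ∈ T, t • v = v) → ∀ x : X, x • v ∈ W) → W = ⊤
  nfix : ∃ v : V, (∀ t ∈ T, t • v = v) ∧ ∃ x : X, x • v ≠ v

section

variable (X V : Type*) [Group X] [Group V] [MulDistribMulAction X V]

/-- the fixed points of `O²(X)` -/
def odd : Subgroup V where
  carrier := {v | ∀ x : X, Odd (orderOf x) → x • v = v}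
  one_mem' := fun x _ => smul_one x
  mul_mem' := fun {v w} hv hw x hx => by rw [smul_mul', hv x hx, hw x hx]
  inv_mem' := fun {v} hv x hx => by rw [smul_inv', hv x hx]

end

section

variable {X V : Type*} [Group X] [Group V] [MulDistribMulAction X V]

theorem mem_odd {v : V} : v ∈ odd X V ↔ ∀ x : X, Odd (orderOf x) → x • v = v := Iff.rfl

/-- `A` is an offender on `V` -/
structure AOff (V : Type*) [Group V] [MulDistribMulAction X V] (A : Subgroup X) : Prop where
  comm : ∀ a ∈ A, ∀ b ∈ A, a * b = b * a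
  sq : ∀ a ∈ A, a * a = 1
  ne : A ≠ ⊥
  le : (ClassTwoFusion.Quad.cv V (A : Set X)).index ≤ Nat.card A

/-- no over-offender -/
def ANoOver (X V : Type*) [Group X] [Group V] [MulDistribMulAction X V] : Prop :=
  ∀ A : Subgroup X, (∀ a ∈ A, ∀ b ∈ A, a * b = b * a) → (∀ a ∈ A, a * a = 1) →
    Nat.card A ≤ (ClassTwoFusion.Quad.cv V (A : Set X)).index

/-- `g` acts as `A ∈ SL₂(F)^k` on the coordinates of `V` and trivially on `C_V(O²(X))` -/
def AActs {F : Type} [Field F] {k : ℕ} (e : V → Fin k → Fin 2 → F) (g : X)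
    (A : Fin k → Matrix.SpecialLinearGroup (Fin 2) F) : Prop :=
  (∀ v i, e (g • v) i = ap (A i) (e v i)) ∧ ∀ d ∈ odd X V, g • d = d

/-- `V / C_V(O²(X))` is the sum of `k` natural `SL₂(F)`-modules -/
structure AbsNat (F : Type) [Field F] (T : Subgroup X) (V : Type*) [Group V] [MulDistribMulAction X V] (k : ℕ) where
  e : V → Fin k → Fin 2 → F
  mul : ∀ v w, e (v * w) = e v + e w
  surj : ∀ x, ∃ v, e v = x
  ker : ∀ v, e v = 0 ↔ v ∈ odd X V
  lift : ∀ A : Fin k → Matrix.SpecialLinearGroup (Fin 2) F, ∃ g : X, AActs e g A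
  norm : ∀ (g h : X) (A : Fin k → Matrix.SpecialLinearGroup (Fin 2) F),
    (∀ v i, e (h • v) i = ap (A i) (e v i)) →
      ∃ B : Fin k → Matrix.SpecialLinearGroup (Fin 2) F, ∀ v i, e ((g * h * g⁻¹) • v) i = ap (B i) (e v i)
  perm : ∀ g : X, ∃ σ : Equiv.Perm (Fin k), ∀ v i, e (g • v) (σ i) = 0 ↔ e v i = 0
  trans : ∀ i j, ∃ t ∈ T, ∀ v, e (t • v) j = 0 ↔ e v i = 0
  line : ∀ t ∈ T, ∃ σ : Equiv.Perm (Fin k), ∀ v i, e (t • v) (σ i) 1 = 0 ↔ e v i 1 = 0
  unip : ∀ b : Fin k → F, ∃ t ∈ T, AActs e t fun i => up (b i)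
  gen : ∀ K : Subgroup X, T ≤ K → (∀ h A, AActs e h A → h ∈ K) → K = ⊤
  off : ∀ A : Subgroup X, A ≤ T → AOff V A → ∃ I : Set (Fin k),
    (∀ a ∈ A, ∃ b : Fin k → F, (∀ i, i ∉ I → b i = 0) ∧ AActs e a fun i => up (b i)) ∧
      ∀ b : Fin k → F, (∀ i, i ∉ I → b i = 0) → ∃ a ∈ A, AActs e a fun i => up (b i)

/-- `g` acts on the coordinates by the permutation `(σ, τ)` of the points -/
def AActsSym {k n : ℕ} (e : V → Fin k → Fin n → ZMod 2) (g : X) (σ : Equiv.Perm (Fin k))
    (τ : Fin k → Equiv.Perm (Fin n)) : Prop :=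
  ∀ v i x, e (g • v) (σ i) (τ i x) = e v i x

/-- `V / C_V(O²(X))` is the sum of `k` even-subset modules of `S_{2^m+1}` -/
structure AbsSym (T : Subgroup X) (V : Type*) [Group V] [MulDistribMulAction X V] (k m : ℕ) where
  e : V → Fin k → Fin (2 ^ m + 1) → ZMod 2
  mul : ∀ v w, e (v * w) = e v + e w
  even : ∀ v i, ∑ x, e v i x = 0
  surj : ∀ y : Fin k → Fin (2 ^ m + 1) → ZMod 2, (∀ i, ∑ x, y i x = 0) → ∃ v, e v = y
  ker : ∀ v, e v = 0 ↔ v ∈ odd X V
  lift : ∀ τ : Fin k → Equiv.Perm (Fin (2 ^ m + 1)), ∃ g : X, AActsSym e g 1 τ ∧ ∀ d ∈ odd X V, g • d = d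
  perm : ∀ g : X, ∃ σ τ, AActsSym e g σ τ
  trans : ∀ i j, ∃ t ∈ T, ∃ σ τ, AActsSym e t σ τ ∧ σ i = j
  fix0 : ∀ t ∈ T, ∀ σ τ, AActsSym e t σ τ → ∀ i, τ i 0 = 0
  gen : ∀ K : Subgroup X, T ≤ K → (∀ h τ, AActsSym e h 1 τ → (∀ d ∈ odd X V, h • d = d) → h ∈ K) → K = ⊤
  off : ∀ A : Subgroup X, A ≤ T → AOff V A → (∀ a ∈ A, ∀ d ∈ odd X V, a • d = d) ∧
    ∀ a ∈ A, ∃ τ : Fin k → Equiv.Perm (Fin (2 ^ m + 1)), AActsSym e a 1 τ ∧
      ∀ i x, τ i x ≠ x → τ i (τ i x) = x ∧
        ∃ b ∈ A, AActsSym e b 1 (Function.update 1 i (Equiv.swap x (τ i x)))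

/-- the abstract conclusion -/
def AConcl (T : Subgroup X) (V : Type*) [Group V] [MulDistribMulAction X V] : Prop :=
  (∃ (F : Type) (_ : Field F) (_ : Finite F) (_ : CharP F 2) (k : ℕ), 0 < k ∧ Nonempty (AbsNat F T V k)) ∨
  ∃ k m : ℕ, 0 < k ∧ 2 ≤ m ∧ Nonempty (AbsSym T V k m)

end

/-- **the abstract FF theorem** -/
def AStmt : Prop :=
  ∀ (X V : Type u) [Group X] [Finite X] [Group V] [Finite V] [MulDistribMulAction X V] (T : Sylow 2 X) (M : Subgroup X),
    Abs X V T M → (∃ A : Subgroup X, AOff V A) → ANoOver X V ∧ AConcl (T : Subgroup X) V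

end Cfsg.Agent.Omega.FFBr

end

section


/-!
# Case NOFF: the cases NO-1', NO-3S and NO-3L (#11758, #11889, #12149, MASTER v5.1 #12237)

`S` a Sylow 2-subgroup of `G` of characteristic 2 type, no mutual pair (`¬ FF S`), `|M(S)| ≠ 1`,
`C = C_G(Ω₁(Z(S)))` (`CC S`), `Q = O₂(C)`.

* `sys` : the system of the `V_P`, `P ∈ P*(S)`, satisfies `NoFF.Basic.Sys`;
* `geo` : all `V_P ≤ Q`: the geometry `Lines.Geo`, for every subset `F` of `P*(S)`;
* `alt` : one of
  - NO-1': `P ∈ P*(S)`, `V_P ≰ Q`, `(P, C)` nonlocal, `C_{V_P}(O²(P)) = 1`;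
  - NO-3S: all `V_P ≤ Q`, `P ∈ P*(S)`, `(P, C)` nonlocal, `C_{V_P}(O²(P)) = 1`, geometry and critical pair for
    the lines `(V_P)^g`;
  - NO-3L: all `V_P ≤ Q`, `(P, C)` local for all `P ∈ P*(S)`, geometry and critical pair for all lines.
-/

set_option autoImplicit false

namespace Cfsg.Agent.Omega.NoFF.LinesPlug

open Subgroup Cfsg Cfsg.Agent.ZN Cfsg.Agent.Omega.MinPar Cfsg.Agent.MinSimple.VModule
open Cfsg.Agent.Omega Cfsg.Agent.Omega.NoFF.Basic Cfsg.Agent.Omega.NoFF.Lines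
open scoped Pointwise

variable {G : Type*} [Group G]

/-- `P*(S)` as a set. -/
def PStar (S : Subgroup G) : Set (Subgroup G) := {P | IsParS S P}

/-- `C_G(Ω₁(Z(S)))` -/
abbrev CC (S : Subgroup G) : Subgroup G := centralizer (zc S : Set G)

theorem V_eq (S P : Subgroup G) : V (zc S) P = zl S P := rfl

/-- `P = O²(P) S`. -/
theorem oddGen_sup [Finite G] {P S : Subgroup G} (hSP : S ≤ P) (hSyl : ¬ 2 ∣ S.relIndex P) :
    oddGen P ⊔ S = P := by
  have : Fact (Nat.Prime 2) := ⟨Nat.prime_two⟩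
  apply le_antisymm (sup_le (oddGen_le P) hSP)
  have hN : ((oddGen P).subgroupOf P).Normal := normal_subgroupOf_of_le_normalizer (le_normalizer_oddGen P)
  have h1 : IsPGroup 2 (P ⧸ (oddGen P).subgroupOf P) := by
    intro q
    obtain ⟨x, rfl⟩ := QuotientGroup.mk_surjective q
    obtain ⟨a, m, hm, ha⟩ := Nat.exists_eq_pow_mul_and_not_dvd (orderOf_pos (x : G)).ne' 2 (by norm_num)
    refine ⟨a, ?_⟩
    rw [← QuotientGroup.mk_pow, QuotientGroup.eq_one_iff, mem_subgroupOf]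
    refine mem_oddGen (P.pow_mem x.2 _) ?_
    have hm0 : 0 < m := Nat.pos_of_ne_zero (by rintro rfl; simp at hm)
    have h2 : orderOf ((x : G) ^ 2 ^ a) = m := by
      rw [orderOf_pow_of_dvd (by positivity) (ha ▸ Dvd.intro _ rfl), ha, Nat.mul_div_cancel_left _ (by positivity)]
    rw [coe_pow, h2]
    exact Nat.not_even_iff_odd.1 fun h => hm h.two_dvd
  obtain ⟨k, hk⟩ := IsPGroup.iff_card.1 h1
  have h2 : (oddGen P ⊔ S).relIndex P ∣ 2 ^ k := by
    have h3 : (oddGen P ⊔ S).relIndex P ∣ (oddGen P).relIndex P := relIndex_dvd_of_le_left _ le_sup_left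
    have h4 : (oddGen P).relIndex P = 2 ^ k := by
      rw [← hk, relIndex, index_eq_card]
    rwa [h4] at h3
  obtain ⟨j, -, hj⟩ := (Nat.dvd_prime_pow Nat.prime_two).1 h2
  have h5 : (oddGen P ⊔ S).relIndex P ∣ S.relIndex P := relIndex_dvd_of_le_left _ le_sup_right
  rw [hj] at h5
  rcases Nat.eq_zero_or_pos j with rfl | hj0
  · rw [pow_zero] at hj
    exact relIndex_eq_one.1 hj
  · exact absurd ((dvd_pow_self 2 hj0.ne').trans h5) hSyl

/-- A nontrivial subgroup of `S` normalised by the `2`-group `S` meets `Z(S)`. -/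
theorem exists_fixed {S N : Subgroup G} [Finite G] (hS : IsPGroup 2 S) (hN : N ≤ S)
    (hS' : S ≤ normalizer (N : Set G)) (hne : N ≠ ⊥) : ∃ x ∈ N, x ≠ 1 ∧ ∀ s ∈ S, s * x = x * s := by
  have : Fact (Nat.Prime 2) := ⟨Nat.prime_two⟩
  have hnil : Group.IsNilpotent S := hS.isNilpotent
  have hn : (N.subgroupOf S).Normal := normal_subgroupOf_of_le_normalizer hS'
  have h1 : N.subgroupOf S ≠ ⊥ := by
    intro h
    rw [subgroupOf_eq_bot, disjoint_iff, inf_eq_left.2 hN] at h
    exact hne h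
  have h2 := Lib.NormalAbelian.normal_inf_center_ne_bot _ h1
  obtain ⟨x, hx, hx1⟩ := (Subgroup.ne_bot_iff_exists_ne_one.1 h2).imp fun a ha => (⟨a.2, ha⟩ : _ ∧ _)
  obtain ⟨x, hx'⟩ := x
  refine ⟨x, hx.1, fun h => hx1 (Subtype.ext (Subtype.ext h)), fun s hs => ?_⟩
  have := mem_center_iff.1 hx.2 ⟨s, hs⟩
  exact congrArg Subtype.val this

variable [Finite G]

theorem o2_le_conj (S : Sylow 2 G) {L : Subgroup G} (h : IsLoc (S : Subgroup G) L) {c : G} (hc : c ∈ L) :
    o2 L ≤ MulAut.conj c • (S : Subgroup G) := by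
  intro x hx
  rw [Basic.mem_conj]
  have h1 := (mem_normalizer_iff.1 (le_normalizer_o2 L (L.inv_mem hc)) x).1 hx
  rw [inv_inv] at h1
  exact h.o2_le S h1

/-- The system of the modules `V_P`, `P ∈ P*(S)`. -/
theorem sys (hG : IsCharacteristicTwoType G) (S : Sylow 2 G) (hF : ¬ FF (S : Subgroup G)) :
    Sys (S : Subgroup G) (zc (S : Subgroup G)) (PStar (S : Subgroup G)) where
  ZS := zc_le _
  cent := le_centralizer_zc _
  SP _ hP := (IsParS.isLoc hP).le
  abel P hP := by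
    have h1 := (IsParS.isLoc hP).zl_le S hG
    intro x hx
    rw [mem_centralizer_iff]
    intro y hy
    exact zc_comm _ _ (h1 hy) _ (h1 hx)
  core P hP p hp x hx hxc := by
    have h1 := hP.inf_centralizer S hG
    have h2 : x ∈ o2 P := h1 ▸ ⟨hx, hxc⟩
    exact o2_le_conj S (IsParS.isLoc hP) hp h2
  noff P hP P' hP' g h1 h2 := by
    have hn : ∀ P, P ≤ normalizer (zl (S : Subgroup G) P : Set G) := fun P => le_normalizer_zl _ _
    have h3 := commute_of_not_FF hF hP hP' g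
      (by
        rw [Main.normalizer_conj]
        exact h1.trans (Basic.conj_le_iff.2 (hn P'))) (h2.trans (hn P))
    rw [commutator_eq_bot_iff_le_centralizer] at h3
    exact h3

omit [Finite G] in
theorem _root_.Cfsg.Agent.Omega.NoFF.Basic.Sys.mono {S Z : Subgroup G} {F F' : Set (Subgroup G)}
    (D : Sys S Z F) (h : F' ⊆ F) : Sys S Z F' where
  ZS := D.ZS
  cent := D.cent
  SP P hP := D.SP P (h hP)
  abel P hP := D.abel P (h hP)
  core P hP := D.core P (h hP)
  noff P hP P' hP' := D.noff P (h hP) P' (h hP')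

/-- **NO-3**: the geometry, for every subset `F` of `P*(S)`. -/
theorem geo (hG : IsCharacteristicTwoType G) (S : Sylow 2 G) (hS : (S : Subgroup G) ≠ ⊥)
    (hF : ¬ FF (S : Subgroup G)) {F : Set (Subgroup G)} (hFP : F ⊆ PStar (S : Subgroup G))
    (hlow : ∀ P ∈ F, zl (S : Subgroup G) P ≤ o2 (CC (S : Subgroup G))) :
    Geo (S : Subgroup G) (zc (S : Subgroup G)) (CC (S : Subgroup G)) F where
  toSys := (sys hG S hF).mono hFP
  CZ := centralizer_le_normalizer _
  cen := le_rfl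
  low P hP _ hc := (hlow P hP).trans (o2_le_conj S (isLoc_centralizer_zc S hS) hc)
  Zsq := zc_sq _

/-- **NO-1'**: `V_P ≰ O₂(C)` gives a nonlocal pair. -/
theorem nonLoc (hG : IsCharacteristicTwoType G) (S : Sylow 2 G) {P : Subgroup G}
    (hP : IsParS (S : Subgroup G) P)
    (hlow : ¬ zl (S : Subgroup G) P ≤ o2 (CC (S : Subgroup G))) :
    NonLoc P (CC (S : Subgroup G)) := by
  by_contra hcon
  rw [not_nonLoc_iff S hP.le] at hcon
  refine hlow (le_trans ?_ (o2_le_o2 S (le_centralizer_zc _)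
    (le_sup_right : _ ≤ P ⊔ CC (S : Subgroup G))))
  refine le_trans ?_ ((hcon.zl_le S hG).trans (zc_le _))
  exact MinSimple.VModule.zl_le (zc_le_zl _ _) (le_sup_left.trans (le_normalizer_zl _ _))

omit [Finite G] in
/-- A nonlocal pair `(P, C)` has `C_{Ω₁Z(S)}(P) = 1`. -/
theorem inf_eq_bot (S : Sylow 2 G) {P : Subgroup G} (h : NonLoc P (CC (S : Subgroup G))) :
    zc (S : Subgroup G) ⊓ centralizer (P : Set G) = ⊥ := by
  refine h _ ((S.isPGroup'.to_le (zc_le _)).to_le inf_le_left) ?_ ?_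
  · refine le_trans ?_ (centralizer_le_normalizer _)
    exact le_centralizer_iff.1 inf_le_right
  · refine le_trans ?_ (centralizer_le_normalizer _)
    exact centralizer_le (inf_le_left : zc (S : Subgroup G) ⊓ centralizer (P : Set G) ≤ _)

omit [Finite G] in
theorem normalizer_le_normalizer_centralizer' (B : Subgroup G) :
    normalizer (B : Set G) ≤ normalizer ((centralizer (B : Set G) : Subgroup G) : Set G) := by
  have key : ∀ g ∈ normalizer (B : Set G), ∀ x ∈ centralizer (B : Set G), g * x * g⁻¹ ∈ centralizer (B : Set G) := by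
    intro g hg x hx
    rw [mem_centralizer_iff] at hx ⊢
    intro b hb
    have h1 : g⁻¹ * b * g ∈ B := by
      have := (mem_normalizer_iff.1 (inv_mem hg) b).1 hb
      rwa [inv_inv] at this
    have h4 := congrArg (fun t => g * t * g⁻¹) (hx _ h1)
    simpa [mul_assoc] using h4
  intro g hg
  rw [mem_normalizer_iff]
  refine fun x => ⟨key g hg x, fun hx => ?_⟩
  have := key g⁻¹ (inv_mem hg) _ hx
  have e : g⁻¹ * (g * x * g⁻¹) * g⁻¹⁻¹ = x := by group
  rwa [e] at this

/-- A nonlocal pair `(P, C)` has `C_{V_P}(O²(P)) = 1`. -/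
theorem inf_oddGen_eq_bot (hG : IsCharacteristicTwoType G) (S : Sylow 2 G) {P : Subgroup G}
    (hP : IsPar (S : Subgroup G) P) (h : zc (S : Subgroup G) ⊓ centralizer (P : Set G) = ⊥) :
    zl (S : Subgroup G) P ⊓ centralizer (oddGen P : Set G) = ⊥ := by
  by_contra hne
  have hle := (hP.isLoc.zl_le S hG).trans (zc_le _)
  have hVS : zl (S : Subgroup G) P ≤ (S : Subgroup G) := hle.trans (hP.isLoc.o2_le S)
  have hSP := hP.isLoc.le
  have hn : (S : Subgroup G) ≤ normalizer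
      ((zl (S : Subgroup G) P ⊓ centralizer (oddGen P : Set G) : Subgroup G) : Set G) := by
    have h1 : P ≤ normalizer (zl (S : Subgroup G) P : Set G) := le_normalizer_zl _ _
    have h2 : P ≤ normalizer ((centralizer (oddGen P : Set G) : Subgroup G) : Set G) :=
      (le_normalizer_oddGen P).trans (normalizer_le_normalizer_centralizer' _)
    intro s hs
    rw [mem_normalizer_iff]
    intro x
    have h3 := mem_normalizer_iff.1 (h1 (hSP hs)) x
    have h4 := mem_normalizer_iff.1 (h2 (hSP hs)) x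
    exact ⟨fun hx => ⟨h3.1 hx.1, h4.1 hx.2⟩, fun hx => ⟨h3.2 hx.1, h4.2 hx.2⟩⟩
  obtain ⟨x, hx, hx1, hxS⟩ := exists_fixed S.isPGroup' (inf_le_left.trans hVS) hn hne
  apply hx1
  have h5 : x ∈ zc (S : Subgroup G) ⊓ centralizer (P : Set G) := by
    refine ⟨mem_zc.2 ⟨hVS hx.1, hxS, zc_sq _ _ (hP.isLoc.zl_le S hG hx.1)⟩, ?_⟩
    have h6 : P ≤ centralizer ({x} : Set G) := by
      conv_lhs => rw [← oddGen_sup hSP (MinSimple.Basic.not_dvd_relIndex S hSP)]
      refine sup_le (fun y hy => ?_) (fun y hy => ?_)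
      · rw [mem_centralizer_singleton_iff]
        exact mem_centralizer_iff.1 hx.2 y hy
      · rw [mem_centralizer_singleton_iff]
        exact hxS y hy
    exact mem_centralizer_iff.2 fun y hy => mem_centralizer_singleton_iff.1 (h6 hy)
  rw [h] at h5
  exact mem_bot.1 h5

/-- `P ∈ P(S)` not in `P*(S)` centralises `Ω₁(Z(S))`. -/
theorem le_CC (S : Sylow 2 G) {P : Subgroup G} (hP : IsPar (S : Subgroup G) P)
    (h : P ≤ normalizer (zc (S : Subgroup G) : Set G)) : P ≤ CC (S : Subgroup G) := by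
  have hSP := hP.isLoc.le
  have hSC : (S : Subgroup G) ≤ CC (S : Subgroup G) := le_centralizer_zc _
  have hn : P ≤ normalizer ((P ⊓ CC (S : Subgroup G) : Subgroup G) : Set G) := by
    have h2 := h.trans (normalizer_le_normalizer_centralizer' _)
    intro s hs
    rw [mem_normalizer_iff]
    intro x
    have h3 := mem_normalizer_iff.1 (le_normalizer hs : s ∈ normalizer (P : Set G)) x
    have h4 := mem_normalizer_iff.1 (h2 hs) x
    exact ⟨fun hx => ⟨h3.1 hx.1, h4.1 hx.2⟩, fun hx => ⟨h3.2 hx.1, h4.2 hx.2⟩⟩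
  rcases hP.sup_eq_or_inf_le S inf_le_left hn with h1 | h1
  · rw [sup_eq_left.2 (le_inf hSP hSC)] at h1
    exact h1 ▸ inf_le_right
  · exfalso
    have h5 : (S : Subgroup G) = o2 P :=
      le_antisymm ((le_inf le_rfl (le_inf hSP hSC)).trans h1) (hP.isLoc.o2_le S)
    exact hP.not_le (h5 ▸ le_normalizer_o2 P)

/-- `C` and the members of `P*(S)` do not normalise a common nontrivial 2-subgroup. -/
theorem eq_bot_of_le (S : Sylow 2 G) (hM : ¬ OneMax (S : Subgroup G)) (U : Subgroup G) (hU : IsPGroup 2 U)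
    (h1 : ∀ P ∈ PStar (S : Subgroup G), P ≤ normalizer (U : Set G))
    (h2 : CC (S : Subgroup G) ≤ normalizer (U : Set G)) : U = ⊥ := by
  -- `X = ⟨P*(S), C⟩` is normalised by `N_G(S)`
  set X : Subgroup G := CC (S : Subgroup G) ⊔ sSup (PStar (S : Subgroup G)) with hX
  have hXU : X ≤ normalizer (U : Set G) := sup_le h2 (sSup_le h1)
  have hSX : (S : Subgroup G) ≤ X := (le_centralizer_zc _).trans le_sup_left
  have hUX : U ≤ o2 X :=
    le_o2 ((le_of_le_normalizer S hU (hSX.trans hXU)).trans hSX) hU hXU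
  have hconj : ∀ n ∈ normalizer ((S : Subgroup G) : Set G), MulAut.conj n • X ≤ X := by
    intro n hn
    have hnS : (S : Subgroup G).map (MulAut.conj n).toMonoidHom = S := mem_normalizer_iff_map_conj_eq.1 hn
    have hnZ : MulAut.conj n • zc (S : Subgroup G) = zc (S : Subgroup G) :=
      Main.conj_eq_of_mem_normalizer (normalizer_le_normalizer_zc _ hn)
    rw [hX, Subgroup.smul_sup]
    refine sup_le (le_trans ?_ le_sup_left) (le_trans ?_ le_sup_right)
    · intro x hx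
      rw [Basic.mem_conj] at hx
      rw [mem_centralizer_iff] at hx ⊢
      intro z hz
      have h3 : n⁻¹ * z * n ∈ zc (S : Subgroup G) := by
        rw [← Basic.mem_conj, hnZ]
        exact hz
      have h4 := congrArg (fun t => n * t * n⁻¹) (hx _ h3)
      simpa [mul_assoc] using h4
    · rw [Subgroup.pointwise_smul_subset_iff]
      refine sSup_le fun P hP => ?_
      rw [← Subgroup.pointwise_smul_subset_iff]
      refine le_sSup (α := Subgroup G) (a := MulAut.conj n • P) ?_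
      have h5 := IsParS.map (MulAut.conj n) hP
      have h6 : (S : Subgroup G).map (MulAut.conj n).toMonoidHom = S := hnS
      rw [h6] at h5
      exact h5
  have hnX : normalizer ((S : Subgroup G) : Set G) ≤ normalizer (X : Set G) := by
    intro n hn
    exact mem_normalizer_of_map_le (hconj n hn)
  have h3 := o2_sSup_eq_bot S hM
  rw [eq_bot_iff, ← h3]
  refine hUX.trans (le_o2 ?_ (o2_isPGroup _) (sup_le (hnX.trans ?_) (sSup_le fun P hP => ?_)))
  · exact (o2_le_of_sylow S.isPGroup' (MinSimple.Basic.not_dvd_relIndex S hSX)).trans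
      (le_sup_of_le_left le_normalizer)
  · exact normalizer_le_normalizer_o2' X
  · by_cases h4 : P ≤ normalizer (zc (S : Subgroup G) : Set G)
    · exact (le_CC S hP h4).trans (le_sup_left.trans (le_normalizer_o2 X))
    · exact (le_sSup (show P ∈ PStar (S : Subgroup G) from ⟨hP, h4⟩)).trans
        (le_sup_right.trans (le_normalizer_o2 X))

/-- `P*(S)` is nonempty. -/
theorem nonempty (S : Sylow 2 G) (hS : (S : Subgroup G) ≠ ⊥) (hM : ¬ OneMax (S : Subgroup G)) :
    (PStar (S : Subgroup G)).Nonempty := by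
  by_contra hcon
  rw [Set.not_nonempty_iff_eq_empty] at hcon
  refine MinSimple.Basic.zc_ne_bot S.isPGroup' hS (eq_bot_of_le S hM _ (S.isPGroup'.to_le (zc_le _)) ?_
    (centralizer_le_normalizer _))
  intro P hP
  rw [hcon] at hP
  exact absurd hP (Set.notMem_empty P)

/-- **NO-1'** -/
structure NoOne (S P : Subgroup G) : Prop where
  star : IsParS S P
  not_le : ¬ zl S P ≤ o2 (CC S)
  nonLoc : NonLoc P (CC S)
  cen : zl S P ⊓ centralizer (oddGen P : Set G) = ⊥

/-- **NO-3S** -/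
structure NoThreeS (S P : Subgroup G) (n : ℕ) (y : G) : Prop where
  le : ∀ P, IsParS S P → zl S P ≤ o2 (CC S)
  star : IsParS S P
  nonLoc : NonLoc P (CC S)
  cen : zl S P ⊓ centralizer (oddGen P : Set G) = ⊥
  geo : Geo S (zc S) (CC S) {P}
  pos : 1 ≤ n
  crit : Crit (zc S) (CC S) {P} n 1 y

/-- **NO-3L** -/
structure NoThreeL (S : Subgroup G) (n : ℕ) (y : G) : Prop where
  le : ∀ P, IsParS S P → zl S P ≤ o2 (CC S)
  loc : ∀ P, IsParS S P → IsLoc S (P ⊔ CC S)
  geo : Geo S (zc S) (CC S) (PStar S)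
  pos : 1 ≤ n
  crit : Crit (zc S) (CC S) (PStar S) n 1 y

/-- **The three cases of NOFF.** -/
theorem alt (hG : IsCharacteristicTwoType G) (S : Sylow 2 G) (hS : (S : Subgroup G) ≠ ⊥)
    (hF : ¬ FF (S : Subgroup G)) (hM : ¬ OneMax (S : Subgroup G)) :
    (∃ P, NoOne (S : Subgroup G) P) ∨ (∃ P n y, NoThreeS (S : Subgroup G) P n y) ∨
      ∃ n y, NoThreeL (S : Subgroup G) n y := by
  have hZ := MinSimple.Basic.zc_ne_bot S.isPGroup' hS
  by_cases h : ∀ P, IsParS (S : Subgroup G) P → zl (S : Subgroup G) P ≤ o2 (CC (S : Subgroup G))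
  · right
    by_cases h2 : ∃ P, IsParS (S : Subgroup G) P ∧ NonLoc P (CC (S : Subgroup G))
    · left
      obtain ⟨P, hP, hPn⟩ := h2
      have hD := geo hG S hS hF (F := {P}) (Set.singleton_subset_iff.2 hP)
        (by rintro Q rfl; exact h Q hP)
      obtain ⟨n, hn, y, hy⟩ := hD.exists_crit (Set.singleton_nonempty P) hZ
        fun U hU h1 h3 => hPn U hU (h1 P rfl) h3
      exact ⟨P, n, y, h, hP, hPn, inf_oddGen_eq_bot hG S hP.toIsPar (inf_eq_bot S hPn), hD, hn, hy⟩
    · right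
      push Not at h2
      have hD := geo hG S hS hF (F := PStar (S : Subgroup G)) le_rfl h
      obtain ⟨n, hn, y, hy⟩ := hD.exists_crit (nonempty S hS hM) hZ (eq_bot_of_le S hM)
      exact ⟨n, y, h, fun P hP => (not_nonLoc_iff S hP.isLoc.le).1 (h2 P hP), hD, hn, hy⟩
  · left
    push Not at h
    obtain ⟨P, hP, h1⟩ := h
    have hPn := nonLoc hG S hP h1
    exact ⟨P, hP, h1, hPn, inf_oddGen_eq_bot hG S hP.toIsPar (inf_eq_bot S hPn)⟩

end Cfsg.Agent.Omega.NoFF.LinesPlug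

end

section


/-!
# THEOREM ALL-N1 (bb #15220), step (A): `R` is a TI-subgroup

* `Core.o2_eq` : `O₂(C_G(r)) = Q` for `r ∈ R - 1`;
* `Core.ti` : `R` is TI; `Core.o2_CZ` : `O₂(C_G(Z)) = Q`.
-/

set_option autoImplicit false
set_option linter.unusedSectionVars false

namespace Cfsg.Agent.Omega.All.NOne

open Subgroup Cfsg Cfsg.Agent.ZN Cfsg.Agent.Omega.MinPar
open Cfsg.Agent.MinSimple.VModule (le_o2 o2_le o2_isPGroup le_normalizer_o2 mem_zc zc_le)
open Cfsg.Agent.Omega.FrameNOFF (CZ)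

universe u

variable {G : Type u} [Group G]

/-- `O₂(N) ≤ O₂(M)` for `N` normal in `M`. -/
theorem o2_le_o2_of_normal {N M : Subgroup G} (hNM : N ≤ M) (hM : M ≤ normalizer (N : Set G)) : o2 N ≤ o2 M := by
  apply le_o2 ((o2_le _).trans hNM) (o2_isPGroup _)
  have key : ∀ g ∈ M, ∀ x ∈ o2 N, g * x * g⁻¹ ∈ o2 N := by
    intro g hg x hx
    have h3 : (o2 N).map (MulAut.conj g).toMonoidHom ≤ o2 N := by
      apply le_o2
      · rintro _ ⟨y, hy, rfl⟩
        exact (mem_normalizer_iff.1 (hM hg) y).1 (o2_le _ hy)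
      · exact (o2_isPGroup _).map _
      · intro c hc
        have hc' : g⁻¹ * c * g ∈ N := by
          have := (mem_normalizer_iff.1 (inv_mem (hM hg)) c).1 hc
          rwa [inv_inv] at this
        have hc2 := le_normalizer_o2 _ hc'
        rw [mem_normalizer_iff]
        intro y
        have m : ∀ y, y ∈ (o2 N).map (MulAut.conj g).toMonoidHom ↔ g⁻¹ * y * g ∈ o2 N := by
          intro y
          constructor
          · rintro ⟨u, hu, rfl⟩
            have : g⁻¹ * (g * u * g⁻¹) * g = u := by group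
            simpa [this] using hu
          · intro hy
            refine ⟨g⁻¹ * y * g, hy, ?_⟩
            simp [mul_assoc]
        rw [m, m]
        have e : g⁻¹ * (c * y * c⁻¹) * g = (g⁻¹ * c * g) * (g⁻¹ * y * g) * (g⁻¹ * c * g)⁻¹ := by group
        rw [e]
        exact mem_normalizer_iff.1 hc2 _
    exact h3 ⟨x, hx, rfl⟩
  intro g hg
  rw [mem_normalizer_iff]
  intro x
  constructor
  · exact key g hg x
  · intro hx
    have := key g⁻¹ (inv_mem hg) _ hx
    have e : g⁻¹ * (g * x * g⁻¹) * g⁻¹⁻¹ = x := by group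
    rwa [e] at this

/-- `g O₂(C(z)) g⁻¹ = O₂(C(g z g⁻¹))`, elementwise -/
theorem conj_mem_o2_centralizer {z g y : G} (hy : y ∈ o2 (centralizer ({z} : Set G))) :
    g * y * g⁻¹ ∈ o2 (centralizer ({g * z * g⁻¹} : Set G)) := by
  have h1 : (centralizer ({z} : Set G)).map (MulAut.conj g).toMonoidHom = centralizer ({g * z * g⁻¹} : Set G) := by
    ext x
    rw [mem_centralizer_singleton_iff]
    constructor
    · rintro ⟨u, hu, rfl⟩
      rw [SetLike.mem_coe, mem_centralizer_singleton_iff] at hu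
      change g * u * g⁻¹ * (g * z * g⁻¹) = g * z * g⁻¹ * (g * u * g⁻¹)
      calc g * u * g⁻¹ * (g * z * g⁻¹) = g * (u * z) * g⁻¹ := by group
        _ = g * (z * u) * g⁻¹ := by rw [hu]
        _ = g * z * g⁻¹ * (g * u * g⁻¹) := by group
    · intro hx
      refine ⟨g⁻¹ * x * g, ?_, by simp [mul_assoc]⟩
      rw [SetLike.mem_coe, mem_centralizer_singleton_iff]
      calc g⁻¹ * x * g * z = g⁻¹ * (x * (g * z * g⁻¹)) * g := by group
        _ = g⁻¹ * (g * z * g⁻¹ * x) * g := by rw [hx]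
        _ = z * (g⁻¹ * x * g) := by group
  rw [← h1, o2_map_equiv]
  exact ⟨y, hy, rfl⟩

namespace Core

variable {F T : Type*} [Field F] [AddCommGroup T] [Module F T]
  {V R Q X : Subgroup G} {e : F → T → F → G} {N : T → F} {B : T → T → F}

section

variable {S : Subgroup G} (h : Core S V R Q X e N B)
include h

/-- `O₂(L) ≤ Q` for all `L ≥ S C_G(R)` with `O₂(L) ≤ S`. -/
theorem o2_le_Q {L : Subgroup G} (hK : centralizer (R : Set G) ≤ L) (hO : o2 L ≤ S) : o2 L ≤ Q := by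
  -- `O ∩ C(R) ≤ Q`
  have h1 : o2 L ⊓ centralizer (R : Set G) ≤ Q := by
    have hn : normalizer (R : Set G) ≤ normalizer ((centralizer (R : Set G) : Subgroup G) : Set G) := by
      intro g hg
      have key : ∀ g ∈ normalizer (R : Set G), ∀ x ∈ centralizer (R : Set G), g * x * g⁻¹ ∈ centralizer (R : Set G) := by
        intro g hg x hx
        rw [mem_centralizer_iff] at hx ⊢
        intro r hr
        have h1 : g⁻¹ * r * g ∈ R := h.R_nor' hg hr
        have h2 := hx _ h1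
        calc r * (g * x * g⁻¹) = g * (g⁻¹ * r * g * x) * g⁻¹ := by group
          _ = g * (x * (g⁻¹ * r * g)) * g⁻¹ := by rw [h2]
          _ = g * x * g⁻¹ * r := by group
      rw [mem_normalizer_iff]
      intro x
      constructor
      · exact key g hg x
      · intro hx
        have := key g⁻¹ (inv_mem hg) _ hx
        have e : g⁻¹ * (g * x * g⁻¹) * g⁻¹⁻¹ = x := by group
        rwa [e] at this
    have h2 : o2 L ⊓ centralizer (R : Set G) ≤ o2 (centralizer (R : Set G)) := by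
      apply le_o2 inf_le_right ((o2_isPGroup _).to_le inf_le_left)
      intro g hg
      have hg1 : g ∈ normalizer (o2 L : Set G) := le_normalizer_o2 _ (hK hg)
      rw [mem_normalizer_iff]
      intro x
      rw [mem_inf, mem_inf]
      exact and_congr (mem_normalizer_iff.1 hg1 x)
        ⟨fun hx => mul_mem (mul_mem hg hx) (inv_mem hg), fun hx => by
          have := mul_mem (mul_mem (inv_mem hg) hx) hg
          have e : g⁻¹ * (g * x * g⁻¹) * g = x := by group
          rwa [e] at this⟩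
    rw [h.Q_eq]
    exact h2.trans (o2_le_o2_of_normal h.cenR_norm hn)
  -- `O ≤ C(R)`
  have h2 : o2 L ≤ centralizer (R : Set G) := by
    intro x hx
    apply h.triv x (hO hx)
    intro v hv
    have h3 : x * v * x⁻¹ * v⁻¹ ∈ V := mul_mem (h.V_nor (h.S_V (hO hx)) hv) (inv_mem hv)
    apply h1
    refine ⟨?_, h.V_cenR h3⟩
    have h4 := (mem_normalizer_iff.1 (le_normalizer_o2 L (hK (h.V_cenR hv))) x⁻¹).1 (inv_mem hx)
    have h5 : x * v * x⁻¹ * v⁻¹ = x * (v * x⁻¹ * v⁻¹) := by group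
    rw [h5]
    exact mul_mem hx h4
  intro x hx
  exact h1 ⟨hx, h2 hx⟩

/-- For `c ∈ N(R)` and `z ∈ R - 1` there is `n ∈ N(V) ∩ N(R)` with `c n ∈ C(z)`. -/
theorem exists_fix {z c : G} (hz : z ∈ R) (hz1 : z ≠ 1) (hc : c ∈ normalizer (R : Set G)) :
    ∃ n, n ∈ normalizer (V : Set G) ∧ n ∈ normalizer (R : Set G) ∧ c * n ∈ centralizer ({z} : Set G) := by
  obtain ⟨n, h1, h2, h3⟩ := h.tran z hz hz1 _ (h.R_nor' hc hz) (by
    intro h0
    apply hz1
    calc z = c * (c⁻¹ * z * c) * c⁻¹ := by group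
      _ = 1 := by rw [h0]; group)
  refine ⟨n, h1, h2, ?_⟩
  rw [mem_centralizer_singleton_iff]
  calc c * n * z = c * (n * z * n⁻¹) * n := by group
    _ = c * (c⁻¹ * z * c) * n := by rw [h3]
    _ = z * (c * n) := by group

theorem e_ne : e 0 0 1 ∈ V ∧ e 0 0 1 ≠ 1 := ⟨h.e_mem _ _ _, fun h0 => one_ne_zero (h.e_inj _ _ _ h0).2.2⟩

/-- `Q` does not centralise `V` -/
theorem exists_not_cenV : ∃ y ∈ Q, y ∉ centralizer (V : Set G) := by
  obtain ⟨c, -, hc⟩ := h.form.exists_ne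
  obtain ⟨y, hy, hya⟩ := h.act_surj c
  refine ⟨y, hy, fun hcon => hc ?_⟩
  have h1 := (mem_centralizer_iff.1 hcon) _ (h.e_mem 0 0 1)
  have h2 := hya 0 0 1
  rw [← h1, mul_inv_cancel_right] at h2
  obtain ⟨-, h3, -⟩ := h.e_eq h2
  rw [one_smul, zero_add] at h3
  exact h3.symm

end

section sylow

variable [Finite G] (S : Sylow 2 G) (h : Core (S : Subgroup G) V R Q X e N B) (hG : IsCharacteristicTwoType G)
include h hG

/-- `O₂(C_G(z)) = Q` for `z ∈ Ω₁(Z(S))`. -/
theorem o2_eq_zc {z : G} (hz : z ∈ zc (S : Subgroup G)) (hz1 : z ≠ 1) : o2 (centralizer ({z} : Set G)) = Q := by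
  have hzR : z ∈ R := h.Z_R hz
  set L := centralizer ({z} : Set G) with hL
  have hSL : (S : Subgroup G) ≤ L := by
    intro s hs
    rw [hL, mem_centralizer_singleton_iff]
    exact (mem_zc.1 hz).2.1 s hs
  have hloc : IsLoc (S : Subgroup G) L := isLoc_centralizer S (mem_zc.1 hz).2.2 hz1 hSL
  have hK : centralizer (R : Set G) ≤ L := by
    intro x hx
    rw [hL, mem_centralizer_singleton_iff]
    exact ((mem_centralizer_iff.1 hx) z hzR).symm
  have hOS : o2 L ≤ (S : Subgroup G) := hloc.o2_le S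
  have hOQ : o2 L ≤ Q := h.o2_le_Q hK hOS
  have hchar := hloc.char2 S hG
  have hRO : R ≤ o2 L := by
    refine le_trans ?_ hchar
    refine le_inf (h.R_V.trans (h.V_cenR.trans hK)) ?_
    intro r hr
    rw [mem_centralizer_iff]
    intro y hy
    exact ((mem_centralizer_iff.1 (h.Q_cen (hOQ hy))) r hr).symm
  have nO : ∀ g ∈ L, ∀ y ∈ o2 L, g * y * g⁻¹ ∈ o2 L := fun g hg y hy =>
    (mem_normalizer_iff.1 (le_normalizer_o2 L hg) y).1 hy
  have nO' : ∀ g ∈ L, ∀ y ∈ o2 L, g⁻¹ * y * g ∈ o2 L := fun g hg y hy => by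
    have := nO g⁻¹ (inv_mem hg) y hy
    rwa [inv_inv] at this
  by_cases hV : o2 L ≤ centralizer (V : Set G)
  · -- impossible
    exfalso
    have h1 : Q ≤ centralizer (o2 L : Set G) := by
      apply h.Q_gen
      intro c hc a b
      obtain ⟨n, hnV, hnR, hcn⟩ := h.exists_fix hzR hz1 hc
      rw [mem_centralizer_iff]
      intro o ho
      have h2 : (c * n)⁻¹ * o * (c * n) ∈ o2 L := nO' _ hcn _ ho
      have h3 : n⁻¹ * e a b 0 * n ∈ V := h.V_nor' hnV (h.e_mem _ _ _)
      have h4 := (mem_centralizer_iff.1 (hV h2)) _ h3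
      calc o * (c * e a b 0 * c⁻¹)
          = (c * n) * ((c * n)⁻¹ * o * (c * n) * (n⁻¹ * e a b 0 * n)) * (c * n)⁻¹ := by group
        _ = (c * n) * ((n⁻¹ * e a b 0 * n) * ((c * n)⁻¹ * o * (c * n))) * (c * n)⁻¹ := by rw [h4]
        _ = c * e a b 0 * c⁻¹ * o := by group
    have h2 : Q ≤ o2 L := (le_inf (h.Q_cen.trans hK) h1).trans hchar
    obtain ⟨y, hy, hyV⟩ := h.exists_not_cenV
    exact hyV (hV (h2 hy))
  · -- `w ∈ O₂(L)` acts as `u_c`, `c ≠ 0`
    obtain ⟨w, hw, hwV⟩ := SetLike.not_le_iff_exists.1 hV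
    obtain ⟨c, hc⟩ := h.act w (hOQ hw)
    have hc0 : c ≠ 0 := by
      rintro rfl
      apply hwV
      rw [mem_centralizer_iff]
      intro x hx
      obtain ⟨a', b', d', rfl⟩ := h.e_surj x hx
      have h5 := hc a' b' d'
      rw [h.form.B_zero, h.form.N_zero, smul_zero, zero_mul, add_zero, add_zero, add_zero] at h5
      calc e a' b' d' * w = (w * e a' b' d' * w⁻¹) * w := by rw [h5]
        _ = w * e a' b' d' := by group
    have h1 : ∀ d : F, e 0 (d • c) 0 ∈ o2 L := by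
      intro d
      have hv : e 0 0 d ∈ L := hK (h.V_cenR (h.e_mem _ _ _))
      have h2 : w * e 0 0 d * w⁻¹ * (e 0 0 d)⁻¹ ∈ o2 L := by
        have h4 := nO _ hv _ (inv_mem hw)
        have h5 : w * e 0 0 d * w⁻¹ * (e 0 0 d)⁻¹ = w * (e 0 0 d * w⁻¹ * (e 0 0 d)⁻¹) := by group
        rw [h5]; exact mul_mem hw h4
      rw [hc, h.e_inv, ← h.e_add, h.form.zero_B] at h2
      have h3 : e (N c * d) 0 0 ∈ o2 L := hRO (h.e_R _)
      have h4 := mul_mem h2 h3
      rw [← h.e_add] at h4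
      have e1 : 0 + 0 + N c * d + 0 + N c * d = 0 := by
        rw [add_zero, add_zero, zero_add]; exact h.form.F2 _
      have e2 : 0 + d • c + 0 + 0 = d • c := by rw [zero_add, add_zero, add_zero]
      have e3 : d + d + 0 = (0 : F) := by rw [add_zero]; exact h.form.F2 _
      rwa [e1, e2, e3] at h4
    obtain ⟨k, hk, hbas⟩ := h.bas c hc0
    have hkL : k ∈ L := by
      rcases hk with hk | hk
      · exact hK hk
      · exact hSL hk
    have h2 : ∀ a b, e a b 0 ∈ o2 L := by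
      intro a b
      have h3 : e a b 0 = e a 0 0 * e 0 b 0 := by
        rw [← h.e_add, add_zero, zero_add, add_zero]
      rw [h3]
      apply mul_mem (hRO (h.e_R _))
      obtain ⟨a', f, f', h4⟩ := hbas b
      rw [h4]
      exact mul_mem (mul_mem (hRO (h.e_R _)) (h1 f)) (nO k hkL _ (h1 f'))
    apply le_antisymm hOQ
    apply h.Q_gen
    intro c hc a b
    obtain ⟨n, hnV, hnR, hcn⟩ := h.exists_fix hzR hz1 hc
    obtain ⟨a', b', h3⟩ := h.mem_E (h.V_nor' hnV (h.e_mem a b 0)) (h.Q_nor' hnR (h.E_le a b))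
    have h4 : c * e a b 0 * c⁻¹ = (c * n) * (n⁻¹ * e a b 0 * n) * (c * n)⁻¹ := by group
    rw [h4, ← h3]
    exact nO _ hcn _ (h2 a' b')

variable (hZ : zc (S : Subgroup G) ≠ ⊥)
include hZ

/-- `O₂(C_G(r)) = Q` for `r ∈ R - 1`. -/
theorem o2_eq {r : G} (hr : r ∈ R) (hr1 : r ≠ 1) : o2 (centralizer ({r} : Set G)) = Q := by
  obtain ⟨z, hz1⟩ := Subgroup.ne_bot_iff_exists_ne_one.1 hZ
  have hz1' : (z : G) ≠ 1 := fun h0 => hz1 (Subtype.ext h0)
  obtain ⟨n, hnV, hnR, hn⟩ := h.tran z (h.Z_R z.2) hz1' r hr hr1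
  have h1 := h.o2_eq_zc S hG z.2 hz1'
  ext y
  constructor
  · intro hy
    have h2 := conj_mem_o2_centralizer (g := n⁻¹) hy
    have h3 : n⁻¹ * r * n⁻¹⁻¹ = z := by rw [← hn]; group
    rw [h3, h1] at h2
    have h4 := h.Q_nor hnR h2
    have h5 : n * (n⁻¹ * y * n⁻¹⁻¹) * n⁻¹ = y := by group
    rwa [h5] at h4
  · intro hy
    have h2 := h.Q_nor' hnR hy
    rw [← h1] at h2
    have h3 := conj_mem_o2_centralizer (g := n) h2
    have h5 : n * (n⁻¹ * y * n) * n⁻¹ = y := by group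
    rwa [h5, hn] at h3

/-- **`R` is a TI-subgroup.** -/
theorem ti {g r : G} (hr : r ∈ R) (hr1 : r ≠ 1) (hg : g * r * g⁻¹ ∈ R) : g ∈ normalizer (R : Set G) := by
  have h1 := h.o2_eq S hG hZ hr hr1
  have hg1 : g * r * g⁻¹ ≠ 1 := by
    intro h0
    apply hr1
    calc r = g⁻¹ * (g * r * g⁻¹) * g := by group
      _ = 1 := by rw [h0]; group
  have h2 := h.o2_eq S hG hZ hg hg1
  apply h.norm_Q_le
  rw [mem_normalizer_iff]
  intro y
  constructor
  · intro hy
    rw [← h1] at hy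
    have h3 := conj_mem_o2_centralizer (g := g) hy
    rwa [h2] at h3
  · intro hy
    rw [← h2] at hy
    have h3 := conj_mem_o2_centralizer (g := g⁻¹) hy
    have h4 : g⁻¹ * (g * r * g⁻¹) * g⁻¹⁻¹ = r := by group
    have h5 : g⁻¹ * (g * y * g⁻¹) * g⁻¹⁻¹ = y := by group
    rwa [h4, h5, h1] at h3

/-- `C_G(r) ≤ N_G(R)` for `r ∈ R - 1`. -/
theorem cen_le {g r : G} (hr : r ∈ R) (hr1 : r ≠ 1) (hg : g * r = r * g) : g ∈ normalizer (R : Set G) := by
  apply h.ti S hG hZ hr hr1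
  rw [hg, mul_inv_cancel_right]
  exact hr

/-- `N_G(Z) ≤ N_G(R)` -/
theorem normalizer_zc_le : normalizer (zc (S : Subgroup G) : Set G) ≤ normalizer (R : Set G) := by
  intro g hg
  obtain ⟨z, hz1⟩ := Subgroup.ne_bot_iff_exists_ne_one.1 hZ
  exact h.ti S hG hZ (h.Z_R z.2) (fun h0 => hz1 (Subtype.ext h0)) (h.Z_R ((mem_normalizer_iff.1 hg z).1 z.2))

/-- `O₂(C_G(Z)) = Q` -/
theorem o2_CZ : o2 (CZ (S : Subgroup G)) = Q := by
  have hK : centralizer (R : Set G) ≤ CZ (S : Subgroup G) := centralizer_le h.Z_R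
  have hS : (S : Subgroup G) ≠ ⊥ := by
    intro h0
    apply hZ
    rw [← le_bot_iff, ← h0]
    exact zc_le _
  apply le_antisymm
  · exact h.o2_le_Q hK ((isLoc_centralizer_zc S hS).o2_le S)
  · apply le_o2 (h.Q_cen.trans hK)
    · rw [h.Q_eq]; exact o2_isPGroup _
    · exact ((centralizer_le_normalizer _).trans (h.normalizer_zc_le S hG hZ)).trans h.Q_le_norm

end sylow

end Core

end Cfsg.Agent.Omega.All.NOne

end

section


/-!
# THEOREM ALL-N1 (bb #15220): the conjugates of `R` in `V`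

* `cj g R`, `cj g Q` : the conjugates; `cen_cj` : the centraliser of `x ∈ cj g R - 1` normalises `cj g R` and `cj g Q`;
* `exists_sing`, `exists_nonsing` : the orbits of `X` on `V`;
* `line_of` : `cj g R ≤ V` containing a nonsingular vector `x` is `F x`.
-/

set_option autoImplicit false
set_option linter.unusedSectionVars false

namespace Cfsg.Agent.Omega.All.NOne

open Subgroup Cfsg Cfsg.Agent.ZN Cfsg.Agent.Omega.MinPar

universe u

variable {G : Type u} [Group G]

/-- the conjugate `g H g⁻¹` -/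
def cj (g : G) (H : Subgroup G) : Subgroup G := H.map (MulAut.conj g).toMonoidHom

theorem mem_cj {g x : G} {H : Subgroup G} : x ∈ cj g H ↔ g⁻¹ * x * g ∈ H := by
  constructor
  · rintro ⟨u, hu, rfl⟩
    have : g⁻¹ * (g * u * g⁻¹) * g = u := by group
    simpa [this] using hu
  · intro hy
    exact ⟨g⁻¹ * x * g, hy, by simp [mul_assoc]⟩

theorem conj_mem_cj {g x : G} {H : Subgroup G} (hx : x ∈ H) : g * x * g⁻¹ ∈ cj g H := by
  rw [mem_cj]
  have : g⁻¹ * (g * x * g⁻¹) * g = x := by group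
  rwa [this]

theorem card_cj (g : G) (H : Subgroup G) : Nat.card (cj g H) = Nat.card H :=
  (Nat.card_congr (H.equivMapOfInjective _ (MulAut.conj g).injective).toEquiv).symm

theorem mem_norm_of {H : Subgroup G} {y : G} (h1 : ∀ x ∈ H, y * x * y⁻¹ ∈ H) (h2 : ∀ x ∈ H, y⁻¹ * x * y ∈ H) :
    y ∈ normalizer (H : Set G) := by
  rw [mem_normalizer_iff]
  intro x
  refine ⟨h1 x, fun hx => ?_⟩
  have := h2 _ hx
  have e1 : y⁻¹ * (y * x * y⁻¹) * y = x := by group
  rwa [e1] at this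

/-- an element of `N(H)` conjugated -/
theorem conj_mem_norm_cj {g y : G} {H : Subgroup G} (hy : g⁻¹ * y * g ∈ normalizer (H : Set G)) :
    y ∈ normalizer (cj g H : Set G) := by
  have key : ∀ y, g⁻¹ * y * g ∈ normalizer (H : Set G) → ∀ x ∈ cj g H, y * x * y⁻¹ ∈ cj g H := by
    intro y hy x hx
    rw [mem_cj] at hx ⊢
    have := (mem_normalizer_iff.1 hy _).1 hx
    have e1 : g⁻¹ * (y * x * y⁻¹) * g = g⁻¹ * y * g * (g⁻¹ * x * g) * (g⁻¹ * y * g)⁻¹ := by group
    rwa [e1]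
  apply mem_norm_of (key y hy)
  intro x hx
  have h1 : g⁻¹ * y⁻¹ * g ∈ normalizer (H : Set G) := by
    have := inv_mem hy
    have e1 : (g⁻¹ * y * g)⁻¹ = g⁻¹ * y⁻¹ * g := by group
    rwa [e1] at this
  have := key y⁻¹ h1 x hx
  rwa [inv_inv] at this

namespace Core

variable {F T : Type*} [Field F] [AddCommGroup T] [Module F T]
  {V R Q X : Subgroup G} {e : F → T → F → G} {N : T → F} {B : T → T → F}

section

variable {S : Subgroup G} (h : Core S V R Q X e N B)
include h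

theorem cj_QQ {g p q : G} (hp : p ∈ cj g Q) (hq : q ∈ cj g Q) : p * q * p⁻¹ * q⁻¹ ∈ cj g R := by
  rw [mem_cj] at hp hq ⊢
  have := h.QQ _ hp _ hq
  have e1 : g⁻¹ * (p * q * p⁻¹ * q⁻¹) * g = g⁻¹ * p * g * (g⁻¹ * q * g) * (g⁻¹ * p * g)⁻¹ * (g⁻¹ * q * g)⁻¹ := by
    group
  rwa [e1]

theorem cj_semi {g w r : G} (hw : w ∈ cj g Q) (hwR : w ∉ cj g R) (hr : r ∈ cj g R) :
    ∃ n ∈ cj g Q, n * w * n⁻¹ * w⁻¹ = r := by
  rw [mem_cj] at hw hwR hr
  obtain ⟨n, hn, h1⟩ := h.semi _ hw hwR _ hr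
  refine ⟨g * n * g⁻¹, conj_mem_cj hn, ?_⟩
  calc g * n * g⁻¹ * w * (g * n * g⁻¹)⁻¹ * w⁻¹ = g * (n * (g⁻¹ * w * g) * n⁻¹ * (g⁻¹ * w * g)⁻¹) * g⁻¹ := by group
    _ = g * (g⁻¹ * r * g) * g⁻¹ := by rw [h1]
    _ = r := by group

theorem cj_cen {g w r : G} (hw : w ∈ cj g Q) (hr : r ∈ cj g R) : r * w = w * r := by
  rw [mem_cj] at hw hr
  have h1 := (mem_centralizer_iff.1 (h.Q_cen hw)) _ hr
  calc r * w = g * (g⁻¹ * r * g * (g⁻¹ * w * g)) * g⁻¹ := by group
    _ = g * (g⁻¹ * w * g * (g⁻¹ * r * g)) * g⁻¹ := by rw [h1]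
    _ = w * r := by group

theorem cj_R_Q {g r : G} (hr : r ∈ cj g R) : r ∈ cj g Q := by
  rw [mem_cj] at hr ⊢
  exact h.R_Q hr

theorem card_R : Nat.card R = Nat.card F := by
  symm
  apply Nat.card_congr
  refine Equiv.ofBijective (fun a => (⟨e a 0 0, h.e_R a⟩ : R)) ⟨fun a b hab => ?_, fun r => ?_⟩
  · exact (h.e_eq (congrArg Subtype.val hab)).1
  · obtain ⟨a, ha⟩ := (h.R_iff r).1 r.2
    exact ⟨a, Subtype.ext ha⟩

theorem finite_F : Finite F := by
  apply Nat.finite_of_card_ne_zero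
  have := h.form.four
  omega

/-- `c ≠ 0, 1` in `F` -/
theorem exists_two : ∃ t : F, t ≠ 0 ∧ 1 + t ≠ 0 := by
  by_contra hcon
  push Not at hcon
  have := h.finite_F
  have h1 : Nat.card F ≤ 2 := by
    have : Function.Surjective (fun b : Bool => (if b then (1 : F) else 0)) := by
      intro t
      by_cases ht : t = 0
      · exact ⟨false, by simp [ht]⟩
      · refine ⟨true, ?_⟩
        have h2 := hcon t ht
        rw [← h.form.neg_F t] at h2
        simp only [if_true]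
        exact (add_neg_eq_zero.1 h2)
    have h3 := Nat.card_le_card_of_surjective _ this
    simpa using h3
  have := h.form.four
  omega

theorem exists_sqrt (f : F) : ∃ t : F, t ^ 2 = f := by
  have := h.finite_F
  have hinj : Function.Injective (fun t : F => t ^ 2) := by
    intro a b hab
    have h1 : (a + b) ^ 2 = 0 := by
      have h2 : (a + b) ^ 2 = a ^ 2 + b ^ 2 + (a * b + a * b) := by ring
      have h3 : a ^ 2 = b ^ 2 := hab
      rw [h2, h.form.F2, h3, h.form.F2, add_zero]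
    have h2 : a + b = 0 := pow_eq_zero_iff two_ne_zero |>.1 h1
    rw [← h.form.neg_F b]
    exact eq_neg_of_add_eq_zero_left h2
  exact Finite.surjective_of_injective hinj f

/-- conjugation by an element of `Q`, with the inverse -/
theorem exists_q (c : T) : ∃ y ∈ Q, ∀ a b d, y * e a b d * y⁻¹ = e (a + B b c + N c * d) (b + d • c) d :=
  h.act_surj c

theorem mul_e_inv (w : G) (a : F) (b : T) (d : F) {a' : F} {b' : T} {d' : F}
    (h1 : w * e a b d * w⁻¹ = e a' b' d') :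
    w * e a b d * w⁻¹ * (e a b d)⁻¹ = e (a' + a) (b' + b) (d' + d) := by
  rw [h1, h.e_inv, ← h.e_add]

/-- **the nonsingular vectors of `V`** -/
theorem exists_nonsing {a : F} {y : T} {d : F} (h1 : a * d + N y ≠ 0) :
    ∃ x ∈ X, ∃ b, N b ≠ 0 ∧ x * e a y d * x⁻¹ = e 0 b 0 := by
  have hf := h.form
  -- the last step: from `e a y 0`
  have last : ∀ (a : F) (y : T), N y ≠ 0 → ∃ x ∈ X, x * e a y 0 * x⁻¹ = e 0 y 0 := by
    intro a y hy
    obtain ⟨c, hc⟩ := hf.B_surj y (hf.ne_zero_of_N hy) a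
    obtain ⟨q, hq, hqa⟩ := h.act_surj c
    refine ⟨q, h.Q_X hq, ?_⟩
    rw [hqa, hc, mul_zero, add_zero, hf.F2, zero_smul, add_zero]
  by_cases hd : d = 0
  · subst hd
    rw [mul_zero, zero_add] at h1
    obtain ⟨x, hx, h2⟩ := last a y h1
    exact ⟨x, hx, y, h1, h2⟩
  · obtain ⟨q, hq, hqa⟩ := h.act_surj (d⁻¹ • y)
    set a' := a + B y (d⁻¹ • y) + N (d⁻¹ • y) * d with ha'
    have hq1 : q * e a y d * q⁻¹ = e a' 0 d := by
      rw [hqa, smul_smul, mul_inv_cancel₀ hd, one_smul, hf.T2]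
    have ha0 : a' ≠ 0 := by
      rw [ha', hf.B_smul', hf.B_self, mul_zero, add_zero, hf.N_smul]
      intro h0
      apply h1
      have : a * d + N y = (a + d⁻¹ ^ 2 * N y * d) * d := by field_simp
      rw [this, h0, zero_mul]
    obtain ⟨b', hb'⟩ := hf.N_surj (d / a')
    have hb'0 : N b' ≠ 0 := by rw [hb']; exact div_ne_zero hd ha0
    obtain ⟨n, hn, hna⟩ := h.opp b' hb'0
    have hn1 : n * e a' 0 d * n⁻¹ = e a' (a' • b') 0 := by
      rw [hna, hf.zero_B, zero_add, add_zero, hb', div_mul_cancel₀ _ ha0, hf.F2]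
    have hN : N (a' • b') ≠ 0 := by
      rw [hf.N_smul]
      exact mul_ne_zero (pow_ne_zero 2 ha0) hb'0
    obtain ⟨x, hx, h2⟩ := last a' (a' • b') hN
    refine ⟨x * (n * q), mul_mem hx (mul_mem hn (h.Q_X hq)), a' • b', hN, ?_⟩
    calc x * (n * q) * e a y d * (x * (n * q))⁻¹ = x * (n * (q * e a y d * q⁻¹) * n⁻¹) * x⁻¹ := by group
      _ = e 0 (a' • b') 0 := by rw [hq1, hn1, h2]

/-- **the singular vectors of `V`** -/
theorem exists_sing {a : F} {y : T} {d : F} (h1 : a * d + N y = 0) :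
    ∃ x ∈ X, x * e a y d * x⁻¹ ∈ R := by
  have hf := h.form
  -- `d ≠ 0`
  have main : ∀ (a : F) (y : T) (d : F), d ≠ 0 → a * d + N y = 0 → ∃ x ∈ X, x * e a y d * x⁻¹ ∈ R := by
    intro a y d hd h1
    obtain ⟨q, hq, hqa⟩ := h.act_surj (d⁻¹ • y)
    have hq1 : q * e a y d * q⁻¹ = e 0 0 d := by
      rw [hqa, smul_smul, mul_inv_cancel₀ hd, one_smul, hf.T2, hf.B_smul', hf.B_self, mul_zero, add_zero, hf.N_smul]
      congr 1
      have : (a + d⁻¹ ^ 2 * N y * d) * d = a * d + N y := by field_simp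
      rw [h1] at this
      exact (mul_eq_zero.1 this).resolve_right hd
    obtain ⟨c, hc, hc0⟩ := hf.exists_ne
    obtain ⟨q', hq', hqa'⟩ := h.act_surj c
    have hq2 : q' * e 0 0 d * q'⁻¹ = e d (d • c) d := by
      rw [hqa', hc, hf.zero_B, one_mul, zero_add, zero_add, zero_add]
    obtain ⟨n, hn, hna⟩ := h.opp c (by rw [hc]; exact one_ne_zero)
    have hn1 : n * e d (d • c) d * n⁻¹ = e d 0 0 := by
      rw [hna, hf.T2, hf.B_smul, hf.B_self, mul_zero, add_zero, hc, one_mul, hf.F2]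
    refine ⟨n * (q' * q), mul_mem hn (mul_mem (h.Q_X hq') (h.Q_X hq)), ?_⟩
    have h2 : n * (q' * q) * e a y d * (n * (q' * q))⁻¹ = n * (q' * (q * e a y d * q⁻¹) * q'⁻¹) * n⁻¹ := by group
    rw [h2, hq1, hq2, hn1]
    exact h.e_R d
  by_cases hd : d = 0
  · subst hd
    rw [mul_zero, zero_add] at h1
    by_cases hy : y = 0
    · subst hy
      exact ⟨1, one_mem _, by rw [one_mul, inv_one, mul_one]; exact h.e_R a⟩
    · obtain ⟨b₀, hb₀⟩ := hf.B_surj y hy 1
      -- `ν ≠ 0`, `1 + ν a ≠ 0`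
      obtain ⟨ν, hν, hνa⟩ : ∃ ν : F, ν ≠ 0 ∧ 1 + ν * a ≠ 0 := by
        by_cases ha : 1 + a = 0
        · obtain ⟨t, ht, ht1⟩ := h.exists_two
          have ha1 : a = 1 := by
            rw [← hf.neg_F a]
            exact (add_eq_zero_iff_eq_neg.1 ha).symm
          refine ⟨t, ht, ?_⟩
          rw [ha1, mul_one]; exact ht1
        · exact ⟨1, one_ne_zero, by rwa [one_mul]⟩
      set b := b₀ + (ν + N b₀) • y with hb
      have hNb : N b = ν := by
        rw [hb, hf.N_add, hf.N_smul, h1, hf.B_smul', hf.B_symm b₀, hb₀, mul_zero, add_zero, mul_one, add_comm ν,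
          ← add_assoc, hf.F2, zero_add]
      have hBb : B y b = 1 := by
        rw [hb, hf.B_add', hf.B_smul', hf.B_self, mul_zero, add_zero, hb₀]
      obtain ⟨n, hn, hna⟩ := h.opp b (by rw [hNb]; exact hν)
      have hn1 : n * e a y 0 * n⁻¹ = e a (y + a • b) (1 + ν * a) := by
        rw [hna, hBb, hNb, zero_add]
      obtain ⟨x, hx, h2⟩ := main a (y + a • b) (1 + ν * a) hνa (by
        rw [hf.N_add, h1, hf.N_smul, hf.B_smul', hBb, hNb]
        have : a * (1 + ν * a) + (0 + a ^ 2 * ν + a * 1) = (a + a) + (a ^ 2 * ν + a ^ 2 * ν) := by ring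
        rw [this, hf.F2, hf.F2, add_zero])
      refine ⟨x * n, mul_mem hx hn, ?_⟩
      have h3 : x * n * e a y 0 * (x * n)⁻¹ = x * (n * e a y 0 * n⁻¹) * x⁻¹ := by group
      rw [h3, hn1]
      exact h2
  · exact main a y d hd h1

end

section sylow

variable [Finite G] (S : Sylow 2 G) (h : Core (S : Subgroup G) V R Q X e N B) (hG : IsCharacteristicTwoType G)
  (hZ : zc (S : Subgroup G) ≠ ⊥)
include h hG hZ

/-- the centraliser of `x ∈ cj g R - 1` -/
theorem cen_cj {g x y : G} (hx : x ∈ cj g R) (hx1 : x ≠ 1) (hy : y * x = x * y) :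
    g⁻¹ * y * g ∈ normalizer (R : Set G) := by
  rw [mem_cj] at hx
  apply h.cen_le S hG hZ hx
  · intro h0
    apply hx1
    calc x = g * (g⁻¹ * x * g) * g⁻¹ := by group
      _ = 1 := by rw [h0]; group
  · calc g⁻¹ * y * g * (g⁻¹ * x * g) = g⁻¹ * (y * x) * g := by group
      _ = g⁻¹ * (x * y) * g := by rw [hy]
      _ = g⁻¹ * x * g * (g⁻¹ * y * g) := by group

theorem cen_cj_R {g x y r : G} (hx : x ∈ cj g R) (hx1 : x ≠ 1) (hy : y * x = x * y) (hr : r ∈ cj g R) :
    y * r * y⁻¹ ∈ cj g R :=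
  (mem_normalizer_iff.1 (conj_mem_norm_cj (h.cen_cj S hG hZ hx hx1 hy)) r).1 hr

theorem cen_cj_Q {g x y r : G} (hx : x ∈ cj g R) (hx1 : x ≠ 1) (hy : y * x = x * y) (hr : r ∈ cj g Q) :
    y * r * y⁻¹ ∈ cj g Q :=
  (mem_normalizer_iff.1 (conj_mem_norm_cj (h.Q_le_norm (h.cen_cj S hG hZ hx hx1 hy))) r).1 hr

/-- two conjugates of `R` with nontrivial intersection are equal -/
theorem cj_eq {g r : G} (hr : r ∈ R) (hr1 : r ≠ 1) (hg : r ∈ cj g R) : ∀ x, x ∈ cj g R ↔ x ∈ R := by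
  have h1 : g⁻¹ ∈ normalizer (R : Set G) := by
    apply h.ti S hG hZ hr hr1
    rw [inv_inv]
    exact mem_cj.1 hg
  intro x
  rw [mem_cj]
  have h2 := mem_normalizer_iff.1 h1 x
  rw [inv_inv] at h2
  exact h2.symm

/-- **`cj g R ≤ V` containing the nonsingular vector `x = (0, b, 0)` is `F x`.** -/
theorem line_of {g : G} {b : T} (hb : N b ≠ 0) (hV : cj g R ≤ V) (hx : e 0 b 0 ∈ cj g R) :
    ∀ y, y ∈ cj g R ↔ ∃ s : F, e 0 (s • b) 0 = y := by
  have hf := h.form
  have := h.finite_F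
  have hb0 : b ≠ 0 := hf.ne_zero_of_N hb
  have hx1 : e 0 b 0 ≠ 1 := fun h0 => hb0 (h.e_inj _ _ _ h0).2.1
  have hcard : Nat.card (cj g R) = Nat.card F := by rw [card_cj, h.card_R]
  -- (1) `d = 0`
  have step1 : ∀ a y d, e a y d ∈ cj g R → d = 0 := by
    intro a y d hw
    by_contra hd
    choose q hq hqa using fun s : F => h.act_surj (s • b)
    have hqx : ∀ s, q s * e 0 b 0 = e 0 b 0 * q s := by
      intro s
      have h1 := hqa s 0 b 0
      rw [hf.B_smul', hf.B_self, mul_zero, mul_zero, zero_smul, add_zero, add_zero, add_zero] at h1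
      calc q s * e 0 b 0 = q s * e 0 b 0 * (q s)⁻¹ * q s := by group
        _ = e 0 b 0 * q s := by rw [h1]
    have hmem : ∀ s : F, e (a + B y (s • b) + N (s • b) * d + a) (y + d • s • b + y) (d + d) ∈ cj g R := by
      intro s
      rw [← h.mul_e_inv (q s) a y d (hqa s a y d)]
      exact mul_mem (h.cen_cj_R S hG hZ hx hx1 (hqx s) hw) (inv_mem hw)
    let f : F → cj g R := fun s => ⟨_, hmem s⟩
    have hinj : Function.Injective f := by
      intro s s' hss
      obtain ⟨-, h2, -⟩ := h.e_eq (congrArg Subtype.val hss)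
      have h3 : d • s • b = d • s' • b := by
        have h4 := add_right_cancel h2
        exact add_left_cancel h4
      have h4 : s • b = s' • b := smul_right_injective T hd h3
      by_contra hne
      have h5 : (s - s') • b = 0 := by rw [sub_smul, h4, sub_self]
      exact hb0 ((smul_eq_zero.1 h5).resolve_left (sub_ne_zero.2 hne))
    have hbij : Function.Bijective f := (Nat.bijective_iff_injective_and_card f).2 ⟨hinj, hcard.symm⟩
    obtain ⟨s, hs⟩ := hbij.2 ⟨_, hw⟩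
    obtain ⟨-, -, h2⟩ := h.e_eq (congrArg Subtype.val hs)
    rw [hf.F2] at h2
    exact hd h2.symm
  -- (2) `w = (0, s b, 0)`
  have step2 : ∀ y ∈ cj g R, ∃ s : F, e 0 (s • b) 0 = y := by
    intro w hw
    obtain ⟨a, y, d, rfl⟩ := h.e_surj w (hV hw)
    obtain rfl := step1 a y d hw
    have h1 : ∀ s : F, s ≠ 0 → s * B y b + s ^ 2 * N b * a = 0 := by
      intro s hs
      have hN : N (s • b) ≠ 0 := by
        rw [hf.N_smul]; exact mul_ne_zero (pow_ne_zero 2 hs) hb
      obtain ⟨n, hn, hna⟩ := h.opp (s • b) hN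
      have hnx : n * e 0 b 0 = e 0 b 0 * n := by
        have h1 := hna 0 b 0
        rw [hf.B_smul', hf.B_self, mul_zero, mul_zero, zero_smul, add_zero, add_zero, add_zero] at h1
        calc n * e 0 b 0 = n * e 0 b 0 * n⁻¹ * n := by group
          _ = e 0 b 0 * n := by rw [h1]
      have h2 := h.cen_cj_R S hG hZ hx hx1 hnx hw
      rw [hna] at h2
      have h3 := step1 _ _ _ h2
      rw [zero_add, hf.B_smul', hf.N_smul] at h3
      exact h3
    obtain ⟨t, ht, ht1⟩ := h.exists_two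
    have h2 := h1 1 one_ne_zero
    have h3 := h1 t ht
    rw [one_mul, one_pow, one_mul] at h2
    have h4 : t * (1 + t) * (N b * a) = 0 := by
      linear_combination h3 + t * h2 - t * hf.F2 (B y b)
    have ha : a = 0 := by
      have h5 := (mul_eq_zero.1 h4).resolve_left (mul_ne_zero ht ht1)
      exact (mul_eq_zero.1 h5).resolve_left hb
    subst ha
    rw [mul_zero, add_zero] at h2
    obtain ⟨s, hs⟩ := hf.B_span b y hb0 (by rw [hf.B_symm]; exact h2)
    exact ⟨s, by rw [hs]⟩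
  intro y
  refine ⟨step2 y, ?_⟩
  rintro ⟨s, rfl⟩
  -- by counting
  choose f hf' using fun y : cj g R => step2 y y.2
  have hinj : Function.Injective f := by
    intro y y' hyy
    apply Subtype.ext
    rw [← hf' y, ← hf' y', hyy]
  have hbij : Function.Bijective f := (Nat.bijective_iff_injective_and_card f).2 ⟨hinj, hcard⟩
  obtain ⟨y, hy⟩ := hbij.2 s
  rw [← hy, hf' y]
  exact y.2

end sylow

end Core

end Cfsg.Agent.Omega.All.NOne

end

section


/-!
# THEOREM ALL-N1: the two-point data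

`Pair S V R Q R' Q' e N B`, `Two S V R Q R' Q' e N B` : the facts on two opposite points `R = {e a 0 0}`, `R' = {e 0 0 d}` which follow from THEOREM
BETA, for `V = O₄⁻(q)` and `V = O₄⁺(q)`.

`Two.core : Two … → Core S V R Q (Q ⊔ Q') e N B`.
-/

set_option autoImplicit false
set_option linter.unusedSectionVars false

namespace Cfsg.Agent.Omega.All.NOne

open Subgroup Cfsg Cfsg.Agent.ZN
open Cfsg.Agent.MinSimple.VModule (le_normalizer_o2 o2_isPGroup)

universe u

variable {G : Type u} [Group G] {F T : Type*} [Field F] [AddCommGroup T] [Module F T]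

/-- The two-point data, without the Sylow group. -/
structure Pair (S V R Q R' Q' : Subgroup G) (e : F → T → F → G) (N : T → F) (B : T → T → F) : Prop
    extends Crd V R Q e N B where
  R'_iff : ∀ r, r ∈ R' ↔ ∃ d, e 0 0 d = r
  opp : ∀ b, N b ≠ 0 → ∃ n ∈ Q', ∀ a y d, n * e a y d * n⁻¹ = e a (y + a • b) (d + B y b + N b * a)
  Q_eq : Q = o2 (normalizer (R : Set G))
  Q'_eq : Q' = o2 (normalizer (R' : Set G))
  -- THEOREM BETA
  Q_cen : Q ≤ centralizer (R : Set G)
  QQ : ∀ x ∈ Q, ∀ y ∈ Q, x * y * x⁻¹ * y⁻¹ ∈ R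
  semi : ∀ w ∈ Q, w ∉ R → ∀ r ∈ R, ∃ n ∈ Q, n * w * n⁻¹ * w⁻¹ = r
  char2 : centralizer (Q : Set G) ≤ Q
  meet : Q ⊓ Q' ≤ V
  -- the Sylow group
  S_two : IsPGroup 2 S
  S_V : S ≤ normalizer (V : Set G)
  S_R : S ≤ normalizer (R : Set G)
  /-- type (γ): the singular lines are interchanged by `S` -/
  sep : ∀ A : AddSubgroup T, (∀ c ∈ A, N c = 0) → ∃ s ∈ S, ∀ b, ∃ (a : F) (i i' : T),
    (∀ c ∈ A, B i c = 0) ∧ (∀ c ∈ A, B i' c = 0) ∧ e 0 b 0 = e a 0 0 * e 0 i 0 * (s * e 0 i' 0 * s⁻¹)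

/-- The two-point data. -/
structure Two (S V R Q R' Q' : Subgroup G) (e : F → T → F → G) (N : T → F) (B : T → T → F) : Prop
    extends Pair S V R Q R' Q' e N B where
  Q_gen : ∀ Y : Subgroup G, (∀ c ∈ normalizer (R : Set G), ∀ a b, c * e a b 0 * c⁻¹ ∈ Y) → Q ≤ Y
  V_S : V ≤ S
  Z_R : zc S ≤ R
  /-- a 2-element of `C(R)` which is trivial on `E/R` acts on `V` as an element of `Q` -/
  S_U : ∀ s ∈ S, s ∈ centralizer (R : Set G) → (∀ b, ∃ a, s * e 0 b 0 * s⁻¹ = e a b 0) →
    ∃ y ∈ Q, s * y⁻¹ ∈ centralizer (V : Set G)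
  /-- `S ∩ C(R)` acts on `E/R` as a group of order `≤ 2` -/
  S_2 : ∀ s ∈ S, s ∈ centralizer (R : Set G) → ∀ t ∈ S, t ∈ centralizer (R : Set G) →
    (∀ b, ∃ a, s * e 0 b 0 * s⁻¹ = e a b 0) ∨ (∀ b, ∃ a, t * e 0 b 0 * t⁻¹ = e a b 0) ∨
      (∀ b, ∃ a, (s * t) * e 0 b 0 * (s * t)⁻¹ = e a b 0)
  ns : ∀ b, b ≠ 0 → N b ≠ 0 ∨ ∃ s ∈ S, ∀ a, ∃ a' b', s * e a b 0 * s⁻¹ = e a' b' 0 ∧ N (b + b') ≠ 0

/-- the two-point data from `Core` and the opposite point -/
theorem Pair.of_core {S V R Q R' Q' X : Subgroup G} {e : F → T → F → G} {N : T → F} {B : T → T → F}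
    (h : Core S V R Q X e N B) (R'_iff : ∀ r, r ∈ R' ↔ ∃ d, e 0 0 d = r)
    (opp : ∀ b, N b ≠ 0 → ∃ n ∈ Q', ∀ a y d, n * e a y d * n⁻¹ = e a (y + a • b) (d + B y b + N b * a))
    (Q'_eq : Q' = o2 (normalizer (R' : Set G))) (char2 : centralizer (Q : Set G) ≤ Q) (meet : Q ⊓ Q' ≤ V)
    (S_two : IsPGroup 2 S) (sep : ∀ A : AddSubgroup T, (∀ c ∈ A, N c = 0) → ∃ s ∈ S, ∀ b, ∃ (a : F) (i i' : T),
      (∀ c ∈ A, B i c = 0) ∧ (∀ c ∈ A, B i' c = 0) ∧ e 0 b 0 = e a 0 0 * e 0 i 0 * (s * e 0 i' 0 * s⁻¹)) :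
    Pair S V R Q R' Q' e N B where
  form := h.form
  e_add := h.e_add
  e_inj := h.e_inj
  e_mem := h.e_mem
  e_surj := h.e_surj
  R_iff := h.R_iff
  E_le := h.E_le
  V_Q := h.V_Q
  act := h.act
  act_surj := h.act_surj
  R'_iff := R'_iff
  opp := opp
  Q_eq := h.Q_eq
  Q'_eq := Q'_eq
  Q_cen := h.Q_cen
  QQ := h.QQ
  semi := h.semi
  char2 := char2
  meet := meet
  S_two := S_two
  S_V := h.S_V
  S_R := h.S_R
  sep := sep

namespace Crd

variable {V R Q : Subgroup G} {e : F → T → F → G} {N : T → F} {B : T → T → F} (h : Crd V R Q e N B)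
include h

theorem finite_F [Finite G] : Finite F := by
  refine Finite.of_injective (fun a : F => e a 0 0) fun a b hab => ?_
  exact (h.e_eq hab).1

theorem finite_T [Finite G] : Finite T := by
  refine Finite.of_injective (fun b : T => e 0 b 0) fun a b hab => ?_
  exact (h.e_eq hab).2.1

theorem exists_sqrt [Finite G] (f : F) : ∃ t : F, t ^ 2 = f := by
  have := h.finite_F
  have h1 : Function.Injective (fun t : F => t ^ 2) := by
    intro a b hab
    have hab' : a ^ 2 = b ^ 2 := hab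
    have h2 : (a + b) * (a + b) = 0 := by
      have h3 := h.form.F2 (b ^ 2)
      have h4 := h.form.F2 (a * b)
      linear_combination hab' + h3 + h4
    have h3 := mul_self_eq_zero.1 h2
    have h4 := eq_neg_of_add_eq_zero_left h3
    rwa [h.form.neg_F] at h4
  exact (Finite.injective_iff_surjective.1 h1) f

/-- the action of `u_c v_{c'} u_c` -/
theorem n_act {c : T} (hc : N c ≠ 0) {u v : G}
    (hu : ∀ a b d, u * e a b d * u⁻¹ = e (a + B b c + N c * d) (b + d • c) d)
    (hv : ∀ a y d, v * e a y d * v⁻¹ =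
      e a (y + a • ((N c)⁻¹ • c)) (d + B y ((N c)⁻¹ • c) + N ((N c)⁻¹ • c) * a)) (a : F) (b : T) (d : F) :
    (u * v * u) * e a b d * (u * v * u)⁻¹ = e (N c * d) (b + ((N c)⁻¹ * B b c) • c) ((N c)⁻¹ * a) := by
  have hf := h.form
  have e1 : (u * v * u) * e a b d * (u * v * u)⁻¹ = u * (v * (u * e a b d * u⁻¹) * v⁻¹) * u⁻¹ := by group
  rw [e1, hu, hv, hu]
  have h2 : N ((N c)⁻¹ • c) = (N c)⁻¹ := by
    rw [hf.N_smul]; field_simp
  have h3 : B (b + d • c) ((N c)⁻¹ • c) = (N c)⁻¹ * B b c := by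
    rw [hf.B_smul', hf.B_add, hf.B_smul, hf.B_self, mul_zero, add_zero]
  have hdd : d + (N c)⁻¹ * B b c + (N c)⁻¹ * (a + B b c + N c * d) = (N c)⁻¹ * a := by
    have h4 := hf.F2 d
    have h5 := hf.F2 ((N c)⁻¹ * B b c)
    have h6 : (N c)⁻¹ * (N c * d) = d := by field_simp
    linear_combination h4 + h5 + h6
  have hbb : b + d • c + (a + B b c + N c * d) • ((N c)⁻¹ • c) + ((N c)⁻¹ * a) • c =
      b + ((N c)⁻¹ * B b c) • c := by
    have h6 : (a + B b c + N c * d) * (N c)⁻¹ = (N c)⁻¹ * a + (N c)⁻¹ * B b c + d := by field_simp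
    rw [smul_smul, h6, add_smul, add_smul]
    have h7 := hf.T2 (d • c)
    have h8 := hf.T2 (((N c)⁻¹ * a) • c)
    calc b + d • c + (((N c)⁻¹ * a) • c + ((N c)⁻¹ * B b c) • c + d • c) + ((N c)⁻¹ * a) • c
        = b + ((N c)⁻¹ * B b c) • c + (d • c + d • c) + (((N c)⁻¹ * a) • c + ((N c)⁻¹ * a) • c) := by abel
      _ = b + ((N c)⁻¹ * B b c) • c := by rw [h7, h8, add_zero, add_zero]
  have haa : a + B b c + N c * d + B (b + d • c + (a + B b c + N c * d) • ((N c)⁻¹ • c)) c +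
      N c * ((N c)⁻¹ * a) = N c * d := by
    rw [hf.B_add, hf.B_add, hf.B_smul, hf.B_smul, hf.B_smul, hf.B_self]
    have h4 := hf.F2 a
    have h5 := hf.F2 (B b c)
    have h6 : N c * ((N c)⁻¹ * a) = a := by field_simp
    linear_combination h4 + h5 + h6
  rw [h2, h3, hdd, hbb, haa]

theorem exists_N_one [Finite G] {c : T} (hc : N c ≠ 0) : ∃ t : F, t ≠ 0 ∧ N (t • c) = 1 := by
  obtain ⟨t, ht⟩ := h.exists_sqrt (N c)⁻¹
  have h1 : N (t • c) = 1 := by rw [h.form.N_smul, ht, inv_mul_cancel₀ hc]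
  refine ⟨t, ?_, h1⟩
  rintro rfl
  rw [zero_smul, h.form.N_zero] at h1
  exact zero_ne_one h1

theorem exists_two [Finite G] : ∃ t : F, t ≠ 0 ∧ t ≠ 1 := by
  classical
  have := h.finite_F
  have := Fintype.ofFinite F
  have h4 := h.form.four
  rw [Nat.card_eq_fintype_card, ← Finset.card_univ] at h4
  have h1 : (({0, 1} : Finset F)).card < (Finset.univ : Finset F).card := by
    refine lt_of_le_of_lt (Finset.card_insert_le _ _) ?_
    rw [Finset.card_singleton]; omega
  obtain ⟨t, -, ht⟩ := Finset.exists_mem_notMem_of_card_lt_card h1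
  simp only [Finset.mem_insert, Finset.mem_singleton, not_or] at ht
  exact ⟨t, ht.1, ht.2⟩

theorem exists_ne_two [Finite G] (s : F) : ∃ t : F, t ≠ 0 ∧ t ≠ s := by
  classical
  have := h.finite_F
  have := Fintype.ofFinite F
  have h4 := h.form.four
  rw [Nat.card_eq_fintype_card, ← Finset.card_univ] at h4
  have h1 : (({0, s} : Finset F)).card < (Finset.univ : Finset F).card := by
    refine lt_of_le_of_lt (Finset.card_insert_le _ _) ?_
    rw [Finset.card_singleton]; omega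
  obtain ⟨t, -, ht⟩ := Finset.exists_mem_notMem_of_card_lt_card h1
  simp only [Finset.mem_insert, Finset.mem_singleton, not_or] at ht
  exact ⟨t, ht.1, ht.2⟩

/-- a nonsingular vector which is not perpendicular to `c` -/
theorem exists_nonperp [Finite G] {c : T} (hc : c ≠ 0) (hNc : N c ≠ 0) : ∃ c', N c' = 1 ∧ B c c' ≠ 0 := by
  have hf := h.form
  obtain ⟨c₁, hc₁⟩ := hf.B_surj c hc 1
  obtain ⟨c₂, h2, h3⟩ : ∃ c₂, N c₂ ≠ 0 ∧ B c c₂ = 1 := by
    by_cases h0 : N c₁ = 0
    · obtain ⟨s, hs0, hs1⟩ := h.exists_ne_two (N c)⁻¹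
      refine ⟨c₁ + s • c, ?_, ?_⟩
      · rw [hf.N_add, h0, hf.N_smul, hf.B_smul', hf.B_symm, hc₁, mul_one, zero_add]
        intro h4
        have h5 : s * (s * N c + 1) = 0 := by linear_combination h4
        have h6 := (mul_eq_zero.1 h5).resolve_left hs0
        apply hs1
        have h7 := eq_neg_of_add_eq_zero_left h6
        rw [hf.neg_F] at h7
        exact eq_inv_of_mul_eq_one_left h7
      · rw [hf.B_add', hf.B_smul', hf.B_self, hc₁, mul_zero, add_zero]
    · exact ⟨c₁, h0, hc₁⟩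
  obtain ⟨t, ht0, ht⟩ := h.exists_N_one h2
  exact ⟨t • c₂, ht, by rw [hf.B_smul', h3, mul_one]; exact ht0⟩

end Crd

namespace Pair

variable {S V R Q R' Q' : Subgroup G} {e : F → T → F → G} {N : T → F} {B : T → T → F}
  (h : Pair S V R Q R' Q' e N B)
include h

theorem nor_Q : normalizer (R : Set G) ≤ normalizer (Q : Set G) := by
  rw [h.Q_eq]
  exact le_normalizer_o2 _

theorem nor_Q' : normalizer (R' : Set G) ≤ normalizer (Q' : Set G) := by
  rw [h.Q'_eq]
  exact le_normalizer_o2 _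

theorem Q_V : Q ≤ normalizer (V : Set G) := by
  have key : ∀ y ∈ Q, ∀ v ∈ V, y * v * y⁻¹ ∈ V := by
    intro y hy v hv
    obtain ⟨c, hc⟩ := h.act y hy
    obtain ⟨a, b, d, rfl⟩ := h.e_surj v hv
    rw [hc]; exact h.e_mem _ _ _
  intro y hy
  exact mem_norm_of (key y hy) fun v hv => by
    have := key y⁻¹ (inv_mem hy) v hv
    rwa [inv_inv] at this

/-- an element normalising `V` -/
theorem mem_norm_V {n : G} {f : F → T → F → F} {g : F → T → F → T} {k : F → T → F → F}
    (hn : ∀ a b d, n * e a b d * n⁻¹ = e (f a b d) (g a b d) (k a b d)) [Finite G] :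
    n ∈ normalizer (V : Set G) := by
  have h1 : cj n V = V := by
    apply Subgroup.eq_of_le_of_card_ge
    · intro x hx
      obtain ⟨a, b, d, hab⟩ := h.e_surj _ (mem_cj.1 hx)
      have e1 : x = n * (n⁻¹ * x * n) * n⁻¹ := by group
      rw [e1, ← hab, hn]; exact h.e_mem _ _ _
    · rw [card_cj]
  apply mem_norm_of
  · intro x hx
    rw [← h1]; exact conj_mem_cj hx
  · intro x hx
    rw [← h1] at hx; exact mem_cj.1 hx

theorem exists_u (c : T) : ∃ y ∈ Q, ∀ a b d, y * e a b d * y⁻¹ = e (a + B b c + N c * d) (b + d • c) d :=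
  h.act_surj c

/-- `n(c) = u_c v_{c'} u_c` -/
theorem exists_n {c : T} (hc : N c ≠ 0) : ∃ u ∈ Q, ∃ v ∈ Q',
    (∀ a b d, u * e a b d * u⁻¹ = e (a + B b c + N c * d) (b + d • c) d) ∧
    (∀ a y d, v * e a y d * v⁻¹ =
      e a (y + a • ((N c)⁻¹ • c)) (d + B y ((N c)⁻¹ • c) + N ((N c)⁻¹ • c) * a)) ∧
    ∀ a b d, (u * v * u) * e a b d * (u * v * u)⁻¹ =
      e (N c * d) (b + ((N c)⁻¹ * B b c) • c) ((N c)⁻¹ * a) := by
  obtain ⟨u, hu, hua⟩ := h.exists_u c
  have h2 : N ((N c)⁻¹ • c) ≠ 0 := by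
    rw [h.form.N_smul]
    exact mul_ne_zero (pow_ne_zero 2 (inv_ne_zero hc)) hc
  obtain ⟨v, hv, hva⟩ := h.opp _ h2
  exact ⟨u, hu, v, hv, hua, hva, h.n_act hc hua hva⟩

theorem n_mem {u v : G} (hu : u ∈ Q) (hv : v ∈ Q') : u * v * u ∈ Q ⊔ Q' :=
  mul_mem (mul_mem (mem_sup_left hu) (mem_sup_right hv)) (mem_sup_left hu)

variable [Finite G]

/-- `n(c)` interchanges `R` and `R'`, `Q` and `Q'` -/
theorem cj_n {c : T} (hc : N c ≠ 0) {n : G} (hn : ∀ a b d, n * e a b d * n⁻¹ =
      e (N c * d) (b + ((N c)⁻¹ * B b c) • c) ((N c)⁻¹ * a)) :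
    cj n R = R' ∧ cj n R' = R := by
  have h1 : ∀ a, n * e a 0 0 * n⁻¹ = e 0 0 ((N c)⁻¹ * a) := by
    intro a
    rw [hn, h.form.zero_B]; simp
  have h2 : ∀ d, n * e 0 0 d * n⁻¹ = e (N c * d) 0 0 := by
    intro a
    rw [hn, h.form.zero_B]; simp
  constructor
  · ext x
    rw [mem_cj, h.R_iff, h.R'_iff]
    constructor
    · rintro ⟨a, ha⟩
      refine ⟨(N c)⁻¹ * a, ?_⟩
      rw [← h1, ha]; group
    · rintro ⟨d, rfl⟩
      refine ⟨N c * d, ?_⟩
      have h3 := h1 (N c * d)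
      rw [← mul_assoc, inv_mul_cancel₀ hc, one_mul] at h3
      rw [← h3]; group
  · ext x
    rw [mem_cj, h.R_iff, h.R'_iff]
    constructor
    · rintro ⟨a, ha⟩
      refine ⟨N c * a, ?_⟩
      rw [← h2, ha]; group
    · rintro ⟨d, rfl⟩
      refine ⟨(N c)⁻¹ * d, ?_⟩
      have h3 := h2 ((N c)⁻¹ * d)
      rw [← mul_assoc, mul_inv_cancel₀ hc, one_mul] at h3
      rw [← h3]; group

omit h in
omit [Finite G] in
theorem cj_o2 (g : G) (H : Subgroup G) : cj g (o2 H) = o2 (cj g H) := by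
  have key : ∀ (g : G) (H : Subgroup G), cj g (o2 H) ≤ o2 (cj g H) := by
    intro g H
    apply MinSimple.VModule.le_o2
    · intro x hx
      rw [mem_cj] at hx ⊢
      exact MinSimple.VModule.o2_le H hx
    · exact (o2_isPGroup H).map (MulAut.conj g).toMonoidHom
    · intro x hx
      rw [mem_cj] at hx
      exact conj_mem_norm_cj (le_normalizer_o2 H hx)
  apply le_antisymm (key g H)
  have h1 := key g⁻¹ (cj g H)
  have h2 : cj g⁻¹ (cj g H) = H := by
    ext x
    rw [mem_cj, mem_cj]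
    have e1 : g⁻¹ * (g⁻¹⁻¹ * x * g⁻¹) * g = x := by group
    rw [e1]
  rw [h2] at h1
  intro x hx
  rw [mem_cj]
  apply h1
  rw [mem_cj]
  have e1 : g⁻¹⁻¹ * (g⁻¹ * x * g) * g⁻¹ = x := by group
  rwa [e1]

omit h in
omit [Finite G] in
theorem cj_norm (g : G) (H : Subgroup G) : cj g (normalizer (H : Set G)) = normalizer (cj g H : Set G) := by
  ext x
  rw [mem_cj]
  constructor
  · intro hx
    exact conj_mem_norm_cj hx
  · intro hx
    apply mem_norm_of
    · intro y hy
      have h1 : g * y * g⁻¹ ∈ cj g H := conj_mem_cj hy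
      have h2 := (mem_normalizer_iff.1 hx _).1 h1
      rw [mem_cj] at h2
      have e1 : g⁻¹ * (x * (g * y * g⁻¹) * x⁻¹) * g = g⁻¹ * x * g * y * (g⁻¹ * x * g)⁻¹ := by group
      rwa [e1] at h2
    · intro y hy
      have h1 : g * y * g⁻¹ ∈ cj g H := conj_mem_cj hy
      have h2 := (mem_normalizer_iff.1 (inv_mem hx) _).1 h1
      rw [mem_cj, inv_inv] at h2
      have e1 : g⁻¹ * (x⁻¹ * (g * y * g⁻¹) * x) * g = (g⁻¹ * x * g)⁻¹ * y * (g⁻¹ * x * g) := by group
      rwa [e1] at h2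

theorem cj_n_Q {c : T} (hc : N c ≠ 0) {n : G} (hn : ∀ a b d, n * e a b d * n⁻¹ =
      e (N c * d) (b + ((N c)⁻¹ * B b c) • c) ((N c)⁻¹ * a)) : cj n Q = Q' ∧ cj n Q' = Q := by
  obtain ⟨h1, h2⟩ := h.cj_n hc hn
  constructor
  · rw [h.Q_eq, cj_o2, cj_norm, h1, ← h.Q'_eq]
  · rw [h.Q'_eq, cj_o2, cj_norm, h2, ← h.Q_eq]

theorem Q'_V : Q' ≤ normalizer (V : Set G) := by
  obtain ⟨c, hc, -⟩ := h.form.exists_ne
  have hc' : N c ≠ 0 := by rw [hc]; exact one_ne_zero
  obtain ⟨u, hu, v, hv, -, -, hn⟩ := h.exists_n hc'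
  have hnV := h.mem_norm_V hn
  intro y hy
  rw [← (h.cj_n_Q hc' hn).1, mem_cj] at hy
  have h1 := h.Q_V hy
  have e1 : y = (u * v * u) * ((u * v * u)⁻¹ * y * (u * v * u)) * (u * v * u)⁻¹ := by group
  rw [e1]
  exact mul_mem (mul_mem hnV h1) (inv_mem hnV)

theorem X_V : Q ⊔ Q' ≤ normalizer (V : Set G) := sup_le h.Q_V h.Q'_V

/-- the torus element `t(l) = n(l e) n(e)` -/
theorem exists_t {l : F} (hl : l ≠ 0) : ∃ t ∈ Q ⊔ Q', ∀ a b d, t * e a b d * t⁻¹ = e (l ^ 2 * a) b ((l ^ 2)⁻¹ * d) := by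
  have hf := h.form
  obtain ⟨c, hc, -⟩ := hf.exists_ne
  have hc' : N c ≠ 0 := by rw [hc]; exact one_ne_zero
  have hlc : N (l • c) = l ^ 2 := by rw [hf.N_smul, hc, mul_one]
  have hlc' : N (l • c) ≠ 0 := by rw [hlc]; exact pow_ne_zero 2 hl
  obtain ⟨u, hu, v, hv, -, -, hn⟩ := h.exists_n hc'
  obtain ⟨u', hu', v', hv', -, -, hn'⟩ := h.exists_n hlc'
  refine ⟨(u' * v' * u') * (u * v * u), mul_mem (n_mem h hu' hv') (n_mem h hu hv), ?_⟩
  intro a b d
  have e1 : (u' * v' * u') * (u * v * u) * e a b d * ((u' * v' * u') * (u * v * u))⁻¹ =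
      (u' * v' * u') * ((u * v * u) * e a b d * (u * v * u)⁻¹) * (u' * v' * u')⁻¹ := by group
  rw [e1, hn, hn', hc, hlc, inv_one, one_mul, one_mul, one_mul]
  congr 1
  rw [hf.B_add, hf.B_smul, hf.B_smul', hf.B_smul', hf.B_self, mul_zero, mul_zero, add_zero, smul_smul]
  have h6 : (l ^ 2)⁻¹ * (l * B b c) * l = B b c := by field_simp
  rw [h6, add_assoc, hf.T2, add_zero]

theorem bas : ∀ c, c ≠ 0 → ∃ k, (k ∈ centralizer (R : Set G) ∨ k ∈ S) ∧
    ∀ b, ∃ (a : F) (f f' : F), e 0 b 0 = e a 0 0 * e 0 (f • c) 0 * (k * e 0 (f' • c) 0 * k⁻¹) := by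
  intro c hc
  have hf := h.form
  by_cases hNc : N c = 0
  · obtain ⟨s, hs, h1⟩ := h.sep
      { carrier := {x | ∃ f : F, x = f • c}
        zero_mem' := ⟨0, (zero_smul _ _).symm⟩
        add_mem' := by
          rintro _ _ ⟨f, rfl⟩ ⟨g, rfl⟩
          exact ⟨f + g, (add_smul _ _ _).symm⟩
        neg_mem' := by
          rintro _ ⟨f, rfl⟩
          exact ⟨-f, (neg_smul _ _).symm⟩ } (by
        rintro _ ⟨f, rfl⟩
        rw [hf.N_smul, hNc, mul_zero])
    refine ⟨s, Or.inr hs, fun b => ?_⟩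
    obtain ⟨a, i, i', h2, h3, h4⟩ := h1 b
    have h5 := h2 c ⟨1, (one_smul _ _).symm⟩
    have h6 := h3 c ⟨1, (one_smul _ _).symm⟩
    rw [hf.B_symm] at h5 h6
    obtain ⟨f, rfl⟩ := hf.B_span c i hc h5
    obtain ⟨f', rfl⟩ := hf.B_span c i' hc h6
    exact ⟨a, f, f', h4⟩
  · obtain ⟨t, ht0, ht⟩ := h.exists_N_one hNc
    obtain ⟨c', hc', hcc⟩ := h.exists_nonperp hc hNc
    have n1 : N (t • c) ≠ 0 := by rw [ht]; exact one_ne_zero
    have n2 : N c' ≠ 0 := by rw [hc']; exact one_ne_zero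
    obtain ⟨u, hu, v, hv, -, -, hn⟩ := h.exists_n n1
    obtain ⟨u', hu', v', hv', -, -, hn'⟩ := h.exists_n n2
    have hk : ∀ a b d, ((u' * v' * u') * (u * v * u)) * e a b d * ((u' * v' * u') * (u * v * u))⁻¹ =
        e a (b + B b (t • c) • (t • c) + B (b + B b (t • c) • (t • c)) c' • c') d := by
      intro a b d
      have e1 : (u' * v' * u') * (u * v * u) * e a b d * ((u' * v' * u') * (u * v * u))⁻¹ =
        (u' * v' * u') * ((u * v * u) * e a b d * (u * v * u)⁻¹) * (u' * v' * u')⁻¹ := by group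
      rw [e1, hn, hn', ht, hc', inv_one, one_mul, one_mul, one_mul, one_mul, one_mul, one_mul]
    refine ⟨(u' * v' * u') * (u * v * u), Or.inl ?_, fun b => ?_⟩
    · rw [mem_centralizer_iff]
      intro r hr
      obtain ⟨a, rfl⟩ := (h.R_iff r).1 hr
      have h1 := hk a 0 0
      rw [hf.zero_B, zero_smul, add_zero, hf.zero_B, zero_smul, add_zero] at h1
      set k := (u' * v' * u') * (u * v * u) with hkd
      calc e a 0 0 * k = (k * e a 0 0 * k⁻¹) * k := by rw [h1]
        _ = k * e a 0 0 := by group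
    · set g := B b c * (B c c')⁻¹ with hg
      have h1 : B c (b + g • c') = 0 := by
        rw [hf.B_add', hf.B_smul', hf.B_symm c b, hg, mul_assoc, inv_mul_cancel₀ hcc, mul_one, hf.F2]
      obtain ⟨f₀, h2⟩ := hf.B_span c _ hc h1
      set f' := g * (B c c')⁻¹ with hf'
      refine ⟨0, f₀ + f', f', ?_⟩
      have h3 : B (f' • c) (t • c) = 0 := by rw [hf.B_smul, hf.B_smul', hf.B_self, mul_zero, mul_zero]
      rw [hk, h3, zero_smul, add_zero, h.e_zero, one_mul, ← h.e_add]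
      congr 1
      · simp
      · have h4 : B (f' • c) c' = g := by
          rw [hf.B_smul, hf', mul_assoc, inv_mul_cancel₀ hcc, mul_one]
        rw [h4, add_smul, ← h2]
        have h5 := hf.T2 (f' • c)
        have h6 := hf.T2 (g • c')
        calc b = b + (g • c' + g • c') + (f' • c + f' • c) := by rw [h5, h6, add_zero, add_zero]
          _ = _ := by abel
      · simp

end Pair

/-- **`Two → Core`** -/
theorem Two.core [Finite G] {S V R Q R' Q' : Subgroup G} {e : F → T → F → G} {N : T → F} {B : T → T → F}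
    (h : Two S V R Q R' Q' e N B) : Core S V R Q (Q ⊔ Q') e N B where
  form := h.form
  e_add := h.e_add
  e_inj := h.e_inj
  e_mem := h.e_mem
  e_surj := h.e_surj
  R_iff := h.R_iff
  E_le := h.E_le
  V_Q := h.V_Q
  act := h.act
  act_surj := h.act_surj
  Q_eq := h.Q_eq
  Q_cen := h.Q_cen
  QQ := h.QQ
  semi := h.semi
  Q_gen := h.Q_gen
  X_V := h.X_V
  Q_X := le_sup_left
  opp := fun b hb => by
    obtain ⟨n, hn, h1⟩ := h.opp b hb
    exact ⟨n, mem_sup_right hn, h1⟩
  tran := by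
    intro r hr hr1 r' hr' hr'1
    obtain ⟨a, rfl⟩ := (h.R_iff r).1 hr
    obtain ⟨a', rfl⟩ := (h.R_iff r').1 hr'
    have ha : a ≠ 0 := by
      rintro rfl
      exact hr1 h.e_zero
    have ha' : a' ≠ 0 := by
      rintro rfl
      exact hr'1 h.e_zero
    obtain ⟨l, hl⟩ := h.exists_sqrt (a' * a⁻¹)
    have hl0 : l ≠ 0 := by
      rintro rfl
      rw [zero_pow two_ne_zero] at hl
      exact mul_ne_zero ha' (inv_ne_zero ha) hl.symm
    obtain ⟨t, ht, hta⟩ := h.exists_t hl0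
    have h1 : ∀ x ∈ R, t * x * t⁻¹ ∈ R := by
      intro x hx
      obtain ⟨b, rfl⟩ := (h.R_iff x).1 hx
      rw [hta, mul_zero]; exact h.e_R _
    refine ⟨t, h.X_V ht, ?_, ?_⟩
    · have h2 : cj t R = R := by
        apply Subgroup.eq_of_le_of_card_ge
        · intro x hx
          have := h1 _ (mem_cj.1 hx)
          have e1 : t * (t⁻¹ * x * t) * t⁻¹ = x := by group
          rwa [e1] at this
        · rw [card_cj]
      apply mem_norm_of h1
      intro x hx
      rw [← h2] at hx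
      exact mem_cj.1 hx
    · rw [hta, mul_zero, hl, mul_assoc, inv_mul_cancel₀ ha, mul_one]
  V_S := h.V_S
  S_V := h.S_V
  S_R := h.S_R
  Z_R := h.Z_R
  triv := by
    intro x hx hxc
    obtain ⟨n, hn⟩ := h.S_two ⟨x, hx⟩
    exact h.toCrd.triv (h.S_V hx) (h.S_R hx) (h.nor_Q (h.S_R hx)) (n := n) (by simpa using congrArg Subtype.val hn) hxc
  quo := by
    intro x hx hxc
    obtain ⟨n, hn⟩ := h.S_two ⟨x, hx⟩
    exact (h.toCrd.lin (h.S_V hx) (h.S_R hx) (h.nor_Q (h.S_R hx)) (n := n) (by simpa using congrArg Subtype.val hn) hxc).1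
  two := by
    intro s hs hsR t ht htR
    rcases h.S_2 s hs hsR t ht htR with h1 | h1 | h1
    · exact Or.inl (h.S_U s hs hsR h1)
    · exact Or.inr (Or.inl (h.S_U t ht htR h1))
    · exact Or.inr (Or.inr (h.S_U _ (mul_mem hs ht) (mul_mem hsR htR) h1))
  cenE := by
    intro s hs hsE
    have hsR : s ∈ centralizer (R : Set G) := by
      rw [mem_centralizer_iff]
      intro r hr
      obtain ⟨a, rfl⟩ := (h.R_iff r).1 hr
      exact (hsE a 0).symm
    obtain ⟨y, hy, hyV⟩ := h.S_U s hs hsR fun b => ⟨0, by rw [hsE, mul_inv_cancel_right]⟩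
    have h1 : y ∈ centralizer (V : Set G) := by
      obtain ⟨c, hc⟩ := h.act y hy
      have h4 : c = 0 := by
        by_contra hc0
        obtain ⟨b, hb⟩ := h.form.B_surj c hc0 1
        have h2 := hc 0 b 0
        have h3 : y * e 0 b 0 * y⁻¹ = e 0 b 0 := by
          have h5 := (mem_centralizer_iff.1 hyV) _ (h.e_mem 0 b 0)
          have h6 := hsE 0 b
          calc y * e 0 b 0 * y⁻¹ = s⁻¹ * ((s * y⁻¹)⁻¹⁻¹ * (y * e 0 b 0 * y⁻¹) * (s * y⁻¹)⁻¹) * s := by
                have h7 := (mem_centralizer_iff.1 hyV) _ ((mem_normalizer_iff.1 (h.Q_V hy) _).1 (h.e_mem 0 b 0))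
                rw [inv_inv, ← h7, mul_inv_cancel_right]
                have h8 : s * e 0 b 0 * s⁻¹ = e 0 b 0 := by rw [h6, mul_inv_cancel_right]
                have h9 : s⁻¹ * (y * e 0 b 0 * y⁻¹) * s = s⁻¹ * ((y * e 0 b 0 * y⁻¹) * (s * y⁻¹)) * (s * y⁻¹)⁻¹ * s := by
                  group
                rw [h9, h7]
                have h10 : s⁻¹ * ((s * y⁻¹) * (y * e 0 b 0 * y⁻¹)) * (s * y⁻¹)⁻¹ * s =
                  e 0 b 0 := by group
                have h11 : y * e 0 b 0 * y⁻¹ = (s * y⁻¹)⁻¹ * (s * e 0 b 0 * s⁻¹) * (s * y⁻¹) := by group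
                rw [h10, h11, h8, mul_assoc, h5]
                group
            _ = e 0 b 0 := by
                rw [inv_inv]
                have h8 : s * e 0 b 0 * s⁻¹ = e 0 b 0 := by rw [h6, mul_inv_cancel_right]
                have h10 : s⁻¹ * ((s * y⁻¹) * (y * e 0 b 0 * y⁻¹) * (s * y⁻¹)⁻¹) * s = e 0 b 0 := by group
                exact h10
        rw [h3] at h2
        obtain ⟨h5, -, -⟩ := h.e_eq h2
        rw [mul_zero, add_zero, zero_add, h.form.B_symm, hb] at h5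
        exact one_ne_zero h5.symm
      subst h4
      rw [mem_centralizer_iff]
      intro x hx
      obtain ⟨a', b', d', rfl⟩ := h.e_surj x hx
      have h5 := hc a' b' d'
      rw [h.form.B_zero, h.form.N_zero, smul_zero, zero_mul, add_zero, add_zero, add_zero] at h5
      calc e a' b' d' * y = (y * e a' b' d' * y⁻¹) * y := by rw [h5]
        _ = y * e a' b' d' := by group
    have := mul_mem hyV h1
    rwa [inv_mul_cancel_right] at this
  bas := h.bas
  ns := h.ns

end Cfsg.Agent.Omega.All.NOne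

end

section


/-!
# THEOREM ALL-N1: the small types do not coexist with `Core` (bb #16847 (4), helper983)

`Core S V R Q X e N B` (`|R| = q ≥ 4`), `P'` another member of `P*(S)` with `V' = zl S P' ≰ Q`.

* `Core.cenQ_le` : `C_G(Q) ≤ Q`;
* `Core.mem_Q_of_triv` : an element of `C(R)` trivial on `Q/R` is in `Q`;
* `Core.R_le_of` : `W ≤ S`, `S ≤ N(W)`, `W ≰ Q` imply `R ≤ W` and `W ∩ Q ≰ R`;
* `Core.card_R_of` : `|W| = 16` implies `|R| = 4`.
-/

set_option autoImplicit false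
set_option linter.unusedSectionVars false

namespace Cfsg.Agent.Omega.All.NOne

open Subgroup Cfsg Cfsg.Agent.ZN Cfsg.Agent.Omega.MinPar
open Cfsg.Agent.MinSimple.VModule (le_o2 o2_le o2_isPGroup le_normalizer_o2 mem_zc zc_le)
open Cfsg.Agent.Omega.FrameNOFF (CZ)

universe u

variable {G : Type u} [Group G]

/-- a group of order 4 with two different involutions -/
theorem mem_of_card_four {R : Subgroup G} (hR : Nat.card R = 4) {z a : G} (hz : z ∈ R) (ha : a ∈ R)
    (hz1 : z ≠ 1) (ha1 : a ≠ 1) (haz : a ≠ z) (hz2 : z * z = 1) {x : G} (hx : x ∈ R) :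
    x = 1 ∨ x = z ∨ x = a ∨ x = a * z := by
  classical
  have hfin : Finite R := Nat.finite_of_card_ne_zero (by rw [hR]; norm_num)
  have := Fintype.ofFinite R
  have hc : Fintype.card R = 4 := by rw [← Nat.card_eq_fintype_card, hR]
  let z' : R := ⟨z, hz⟩
  let a' : R := ⟨a, ha⟩
  have h1 : z' ≠ 1 := fun h => hz1 (congrArg Subtype.val h)
  have h2 : a' ≠ 1 := fun h => ha1 (congrArg Subtype.val h)
  have h3 : a' ≠ z' := fun h => haz (congrArg Subtype.val h)
  have h4 : a' * z' ≠ a' := fun h => h1 (mul_eq_left.1 h)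
  have h5 : a' * z' ≠ z' := fun h => h2 (mul_eq_right.1 h)
  have h6 : a' * z' ≠ 1 := by
    intro h
    apply h3
    have h7 : z' * z' = 1 := Subtype.ext hz2
    calc a' = a' * (z' * z') := by rw [h7, mul_one]
      _ = a' * z' * z' := by group
      _ = z' := by rw [h, one_mul]
  have h7 : ({1, z', a', a' * z'} : Finset R) = Finset.univ := by
    apply Finset.eq_univ_of_card
    rw [hc, Finset.card_insert_of_notMem, Finset.card_insert_of_notMem, Finset.card_insert_of_notMem,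
      Finset.card_singleton]
    · rw [Finset.mem_singleton]; exact h4.symm
    · rw [Finset.mem_insert, Finset.mem_singleton]
      push Not
      exact ⟨h3.symm, h5.symm⟩
    · rw [Finset.mem_insert, Finset.mem_insert, Finset.mem_singleton]
      push Not
      exact ⟨h1.symm, h2.symm, h6.symm⟩
  have h8 : (⟨x, hx⟩ : R) ∈ ({1, z', a', a' * z'} : Finset R) := by rw [h7]; exact Finset.mem_univ _
  rw [Finset.mem_insert, Finset.mem_insert, Finset.mem_insert, Finset.mem_singleton] at h8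
  rcases h8 with h8 | h8 | h8 | h8
  · exact Or.inl (congrArg Subtype.val h8)
  · exact Or.inr (Or.inl (congrArg Subtype.val h8))
  · exact Or.inr (Or.inr (Or.inl (congrArg Subtype.val h8)))
  · exact Or.inr (Or.inr (Or.inr (congrArg Subtype.val h8)))

namespace Core

variable {F T : Type*} [Field F] [AddCommGroup T] [Module F T]
  {V R Q X : Subgroup G} {e : F → T → F → G} {N : T → F} {B : T → T → F}

variable [Finite G] (S : Sylow 2 G) (h : Core (S : Subgroup G) V R Q X e N B) (hG : IsCharacteristicTwoType G)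
  (hZ : zc (S : Subgroup G) ≠ ⊥)
include h hG hZ

/-- `C_G(Q) ≤ Q` -/
theorem cenQ_le : centralizer (Q : Set G) ≤ Q := by
  obtain ⟨z, hz1⟩ := Subgroup.ne_bot_iff_exists_ne_one.1 hZ
  have hz1' : (z : G) ≠ 1 := fun h0 => hz1 (Subtype.ext h0)
  have hzR : (z : G) ∈ R := h.Z_R z.2
  set L := centralizer ({(z : G)} : Set G) with hL
  have hSL : (S : Subgroup G) ≤ L := by
    intro s hs
    rw [hL, mem_centralizer_singleton_iff]
    exact (mem_zc.1 z.2).2.1 s hs
  have hloc : IsLoc (S : Subgroup G) L := isLoc_centralizer S (mem_zc.1 z.2).2.2 hz1' hSL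
  have hchar := hloc.char2 S hG
  rw [h.o2_eq_zc S hG z.2 hz1'] at hchar
  refine le_trans (le_inf ?_ le_rfl) hchar
  intro x hx
  rw [hL, mem_centralizer_singleton_iff]
  exact ((mem_centralizer_iff.1 hx) z (h.R_Q hzR)).symm

omit hZ hG in
theorem Q_two : IsPGroup 2 Q := by rw [h.Q_eq]; exact o2_isPGroup _

/-- an element of `C(R)` trivial on `Q/R` is in `Q` -/
theorem mem_Q_of_triv {k : G} (hk : k ∈ centralizer (R : Set G)) (hkQ : ∀ x ∈ Q, k * x * k⁻¹ * x⁻¹ ∈ R) :
    k ∈ Q := by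
  have cR : ∀ {k r : G}, k ∈ centralizer (R : Set G) → r ∈ R → k * r * k⁻¹ = r := by
    intro k r hk hr
    rw [← (mem_centralizer_iff.1 hk) r hr, mul_inv_cancel_right]
  let W : Subgroup G :=
    { carrier := {k | k ∈ centralizer (R : Set G) ∧ ∀ x ∈ Q, k * x * k⁻¹ * x⁻¹ ∈ R}
      one_mem' := ⟨one_mem _, fun x hx => by
        have e1 : 1 * x * 1⁻¹ * x⁻¹ = 1 := by group
        rw [e1]; exact one_mem _⟩
      mul_mem' := by
        rintro a b ⟨ha, ha'⟩ ⟨hb, hb'⟩
        refine ⟨mul_mem ha hb, fun x hx => ?_⟩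
        have e1 : a * b * x * (a * b)⁻¹ * x⁻¹ = (a * (b * x * b⁻¹ * x⁻¹) * a⁻¹) * (a * x * a⁻¹ * x⁻¹) := by group
        rw [e1, cR ha (hb' x hx)]
        exact mul_mem (hb' x hx) (ha' x hx)
      inv_mem' := by
        rintro a ⟨ha, ha'⟩
        refine ⟨inv_mem ha, fun x hx => ?_⟩
        have e1 : a⁻¹ * x * a⁻¹⁻¹ * x⁻¹ = a⁻¹ * (a * x * a⁻¹ * x⁻¹)⁻¹ * a⁻¹⁻¹ := by group
        rw [e1, cR (inv_mem ha) (inv_mem (ha' x hx))]
        exact inv_mem (ha' x hx) }
  have hW2 : IsPGroup 2 W := by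
    rintro ⟨g, hg, hg'⟩
    have h2 : g * g ∈ Q := by
      apply h.cenQ_le S hG hZ
      rw [mem_centralizer_iff]
      intro x hx
      have h3 := hg' x hx
      have h4 := cR hg h3
      have h5 : (g * x * g⁻¹ * x⁻¹) * (g * x * g⁻¹ * x⁻¹) = 1 := h.V_sq (h.R_V h3)
      have h6 : g * g * x * (g * g)⁻¹ = (g * (g * x * g⁻¹ * x⁻¹) * g⁻¹) * (g * x * g⁻¹ * x⁻¹) * x := by group
      rw [h4, h5, one_mul] at h6
      calc x * (g * g) = (g * g * x * (g * g)⁻¹) * (g * g) := by rw [h6]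
        _ = g * g * x := by group
    obtain ⟨n, hn⟩ := h.Q_two S ⟨g * g, h2⟩
    refine ⟨n + 1, ?_⟩
    have h3 : (g * g) ^ 2 ^ n = 1 := congrArg Subtype.val hn
    refine Subtype.ext ?_
    rw [Subgroup.coe_pow, pow_succ', pow_mul, pow_two]
    exact h3
  have key : ∀ g ∈ normalizer (R : Set G), ∀ x ∈ W, g * x * g⁻¹ ∈ W := by
    rintro g hg x ⟨hx, hx'⟩
    refine ⟨?_, fun y hy => ?_⟩
    · rw [mem_centralizer_iff]
      intro r hr
      have h1 : g⁻¹ * r * g ∈ R := h.R_nor' hg hr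
      have h2 := (mem_centralizer_iff.1 hx) _ h1
      calc r * (g * x * g⁻¹) = g * (g⁻¹ * r * g * x) * g⁻¹ := by group
        _ = g * (x * (g⁻¹ * r * g)) * g⁻¹ := by rw [h2]
        _ = g * x * g⁻¹ * r := by group
    · have h1 := hx' _ (h.Q_nor' hg hy)
      have h2 := h.R_nor hg h1
      have e1 : g * (x * (g⁻¹ * y * g) * x⁻¹ * (g⁻¹ * y * g)⁻¹) * g⁻¹ = g * x * g⁻¹ * y * (g * x * g⁻¹)⁻¹ * y⁻¹ := by
        group
      rwa [e1] at h2
  have hW : W ≤ o2 (normalizer (R : Set G)) := by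
    apply le_o2 _ hW2
    · intro g hg
      rw [mem_normalizer_iff]
      intro x
      constructor
      · exact key g hg x
      · intro hx
        have := key g⁻¹ (inv_mem hg) _ hx
        have e : g⁻¹ * (g * x * g⁻¹) * g⁻¹⁻¹ = x := by group
        rwa [e] at this
    · intro x hx
      exact h.cenR_norm hx.1
  rw [← h.Q_eq] at hW
  exact hW ⟨hk, hkQ⟩

/-- `W ≤ S` normalised by `S`, not in `Q`: `R ≤ W` and `W ∩ Q ≰ R` -/
theorem R_le_of {W : Subgroup G} (hWS : W ≤ (S : Subgroup G)) (hSW : (S : Subgroup G) ≤ normalizer (W : Set G))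
    (hWQ : ¬ W ≤ Q) : R ≤ W ∧ ∃ w ∈ W, w ∈ Q ∧ w ∉ R := by
  have hQS : Q ≤ (S : Subgroup G) := h.Q_S fun U hU hSU => le_of_le_normalizer S hU hSU
  have h1 : ∃ w ∈ W, w ∈ Q ∧ w ∉ R := by
    by_contra hcon
    push Not at hcon
    obtain ⟨w, hw, hwQ⟩ := SetLike.not_le_iff_exists.1 hWQ
    apply hwQ
    have hwN : w ∈ normalizer (R : Set G) := h.S_R (hWS hw)
    have h2 : ∀ x ∈ Q, w * x * w⁻¹ * x⁻¹ ∈ R := by
      intro x hx
      have h3 : w * x * w⁻¹ * x⁻¹ ∈ Q := mul_mem (h.Q_nor hwN hx) (inv_mem hx)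
      have h4 : w * x * w⁻¹ * x⁻¹ ∈ W := by
        have h5 := (mem_normalizer_iff.1 (hSW (hQS hx)) _).1 (inv_mem hw)
        have e1 : w * x * w⁻¹ * x⁻¹ = w * (x * w⁻¹ * x⁻¹) := by group
        rw [e1]; exact mul_mem hw h5
      by_contra h6
      exact h6 (hcon _ h4 h3)
    apply h.mem_Q_of_triv S hG hZ _ h2
    -- `w` centralises `R = [Q, Q]`
    rw [mem_centralizer_iff]
    intro r hr
    obtain ⟨c, -, hc⟩ := h.form.exists_ne
    have hcR : e 0 c 0 ∉ R := fun h0 => hc (h.of_mem_R h0).1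
    obtain ⟨n, hn, hnr⟩ := h.semi _ (h.E_le 0 c) hcR r hr
    set x := e 0 c 0 with hx
    have hxQ : x ∈ Q := h.E_le 0 c
    have e1 : w * n * w⁻¹ = (w * n * w⁻¹ * n⁻¹) * n := by group
    have e2 : w * x * w⁻¹ = (w * x * w⁻¹ * x⁻¹) * x := by group
    set r1 := w * n * w⁻¹ * n⁻¹ with hr1
    set r2 := w * x * w⁻¹ * x⁻¹ with hr2
    have c1 : ∀ y ∈ Q, r1 * y = y * r1 := fun y hy => (mem_centralizer_iff.1 (h.Q_cen hy)) r1 (h2 n hn)
    have c2 : ∀ y ∈ Q, r2 * y = y * r2 := fun y hy => (mem_centralizer_iff.1 (h.Q_cen hy)) r2 (h2 x hxQ)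
    have h3 : w * r * w⁻¹ = r := by
      have e3 : w * r * w⁻¹ = (w * n * w⁻¹) * (w * x * w⁻¹) * (w * n * w⁻¹)⁻¹ * (w * x * w⁻¹)⁻¹ := by
        rw [← hnr]; group
      rw [e3, e1, e2]
      calc r1 * n * (r2 * x) * (r1 * n)⁻¹ * (r2 * x)⁻¹
          = r1 * (n * r2) * x * n⁻¹ * r1⁻¹ * x⁻¹ * r2⁻¹ := by group
        _ = r1 * (r2 * n) * x * n⁻¹ * r1⁻¹ * x⁻¹ * r2⁻¹ := by rw [c2 n hn]
        _ = (r1 * r2) * (n * x * n⁻¹) * (r1⁻¹ * x⁻¹) * r2⁻¹ := by group
        _ = (r1 * r2) * (n * x * n⁻¹) * (x⁻¹ * r1⁻¹) * r2⁻¹ := by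
            have := c1 x hxQ
            rw [show r1⁻¹ * x⁻¹ = x⁻¹ * r1⁻¹ by rw [← mul_inv_rev, ← mul_inv_rev, this]]
        _ = (r1 * r2) * (n * x * n⁻¹ * x⁻¹) * (r1⁻¹ * r2⁻¹) := by group
        _ = (r1 * r2) * r * (r1⁻¹ * r2⁻¹) := by rw [hnr]
        _ = r * (r1 * r2) * (r1⁻¹ * r2⁻¹) := by
            rw [(h.V_comm (h.R_V (mul_mem (h2 n hn) (h2 x hxQ))) (h.R_V hr))]
        _ = r * (r1 * (r2 * r1⁻¹) * r2⁻¹) := by group
        _ = r * (r1 * (r1⁻¹ * r2) * r2⁻¹) := by
            rw [h.V_comm (h.R_V (h2 x hxQ)) (h.R_V (inv_mem (h2 n hn)))]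
        _ = r := by group
    calc r * w = (w * r * w⁻¹) * w := by rw [h3]
      _ = w * r := by group
  refine ⟨?_, h1⟩
  obtain ⟨w, hw, hwQ, hwR⟩ := h1
  intro r hr
  obtain ⟨n, hn, hnr⟩ := h.semi w hwQ hwR r hr
  rw [← hnr]
  exact mul_mem ((mem_normalizer_iff.1 (hSW (hQS hn)) _).1 hw) (inv_mem hw)

/-- `|W| = 16`: `|R| = 4` -/
theorem card_R_of {W : Subgroup G} (hWS : W ≤ (S : Subgroup G)) (hSW : (S : Subgroup G) ≤ normalizer (W : Set G))
    (hWQ : ¬ W ≤ Q) (hW : Nat.card W = 16) : Nat.card R = 4 := by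
  obtain ⟨h1, w, hw, hwQ, hwR⟩ := h.R_le_of S hG hZ hWS hSW hWQ
  have h4 : 4 ≤ Nat.card R := by rw [h.card_R]; exact h.form.four
  -- `|R| · 4 ≤ 16`
  have d1 : Nat.card R ∣ Nat.card (W ⊓ Q : Subgroup G) := card_dvd_of_le (le_inf h1 h.R_Q)
  have d2 : Nat.card (W ⊓ Q : Subgroup G) ∣ Nat.card W := card_dvd_of_le inf_le_left
  have n1 : Nat.card R ≠ Nat.card (W ⊓ Q : Subgroup G) := by
    intro h0
    have := Subgroup.eq_of_le_of_card_ge (le_inf h1 h.R_Q) h0.ge
    exact hwR (this ▸ mem_inf.2 ⟨hw, hwQ⟩)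
  have n2 : Nat.card (W ⊓ Q : Subgroup G) ≠ Nat.card W := by
    intro h0
    have := Subgroup.eq_of_le_of_card_ge (inf_le_left : W ⊓ Q ≤ W) h0.ge
    exact hWQ (this ▸ inf_le_right)
  rw [hW] at d2 n2
  obtain ⟨a, ha⟩ := d1
  obtain ⟨b, hb⟩ := d2
  have hb2 : 2 ≤ b := by
    rcases b with _ | _ | b
    · omega
    · omega
    · omega
  have ha2 : 2 ≤ a := by
    rcases a with _ | _ | a
    · rw [mul_zero] at ha; rw [ha] at hb; omega
    · rw [zero_add, mul_one] at ha; exact absurd ha.symm n1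
    · omega
  have h5 : Nat.card R * 4 ≤ 16 := by
    calc Nat.card R * 4 ≤ Nat.card R * (a * b) := Nat.mul_le_mul_left _ (Nat.mul_le_mul ha2 hb2)
      _ = 16 := by rw [← mul_assoc, ← ha, ← hb]
  omega

end Core

end Cfsg.Agent.Omega.All.NOne

end

section


/-!
# Four independent commuting involutions

Tool for `All/NOne/SmallTypes.lean`.
-/

set_option autoImplicit false

namespace Cfsg.Agent.Omega.All.NOne.SmallFour

variable {G : Type*} [Group G]

/-- the product of the `z i` with `a i = true` -/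
def mm (z : Fin 4 → G) (a : Fin 4 → Bool) : G :=
  (bif a 0 then z 0 else 1) * (bif a 1 then z 1 else 1) * (bif a 2 then z 2 else 1) * (bif a 3 then z 3 else 1)

/-- sum of vectors -/
def ad (a b : Fin 4 → Bool) : Fin 4 → Bool := fun i => xor (a i) (b i)

/-- scalar multiple -/
def sc (c : Bool) (a : Fin 4 → Bool) : Fin 4 → Bool := fun i => c && a i

/-- the linear map with matrix `M` -/
def ac (M : Fin 4 → Fin 4 → Bool) (a : Fin 4 → Bool) : Fin 4 → Bool :=
  ad (ad (ad (sc (a 0) (M 0)) (sc (a 1) (M 1))) (sc (a 2) (M 2))) (sc (a 3) (M 3))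

/-- Four independent commuting involutions. -/
structure Ind (z : Fin 4 → G) : Prop where
  comm : ∀ i j, z i * z j = z j * z i
  sq : ∀ i, z i * z i = 1
  ind : ∀ a, mm z a = 1 → a = fun _ => false

theorem mul8 {c0 c1 c2 c3 d0 d1 d2 d3 : G} (h10 : c1 * d0 = d0 * c1) (h20 : c2 * d0 = d0 * c2)
    (h30 : c3 * d0 = d0 * c3) (h21 : c2 * d1 = d1 * c2) (h31 : c3 * d1 = d1 * c3) (h32 : c3 * d2 = d2 * c3) :
    c0 * c1 * c2 * c3 * (d0 * d1 * d2 * d3) = c0 * d0 * (c1 * d1) * (c2 * d2) * (c3 * d3) := by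
  calc c0 * c1 * c2 * c3 * (d0 * d1 * d2 * d3) = c0 * c1 * c2 * (c3 * d0) * d1 * d2 * d3 := by group
    _ = c0 * c1 * (c2 * d0) * (c3 * d1) * d2 * d3 := by rw [h30]; group
    _ = c0 * (c1 * d0) * c2 * d1 * (c3 * d2) * d3 := by rw [h20, h31]; group
    _ = c0 * d0 * c1 * (c2 * d1) * d2 * c3 * d3 := by rw [h10, h32]; group
    _ = c0 * d0 * (c1 * d1) * (c2 * d2) * (c3 * d3) := by rw [h21]; group

namespace Ind

variable {z : Fin 4 → G} (D : Ind z)
include D

theorem mm_mul (a b : Fin 4 → Bool) : mm z a * mm z b = mm z (ad a b) := by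
  have hc : ∀ (i j : Fin 4) (x y : Bool), (bif x then z i else 1) * (bif y then z j else 1) =
      (bif y then z j else 1) * (bif x then z i else 1) := by
    intro i j x y
    cases x <;> cases y <;> simp [D.comm i j]
  have hs : ∀ (i : Fin 4) (x y : Bool), (bif x then z i else 1) * (bif y then z i else 1) =
      (bif xor x y then z i else 1) := by
    intro i x y
    cases x <;> cases y <;> simp [D.sq i]
  unfold mm
  rw [mul8 (hc _ _ _ _) (hc _ _ _ _) (hc _ _ _ _) (hc _ _ _ _) (hc _ _ _ _) (hc _ _ _ _), hs, hs, hs, hs]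
  rfl

omit D in
theorem mm_zero : mm z (fun _ => false) = 1 := by simp [mm]

omit D in
theorem ad_self (a : Fin 4 → Bool) : ad a a = fun _ => false := by
  funext i; simp [ad]

theorem mm_sq (a : Fin 4 → Bool) : mm z a * mm z a = 1 := by
  rw [D.mm_mul, ad_self, mm_zero]

theorem mm_inv (a : Fin 4 → Bool) : (mm z a)⁻¹ = mm z a := inv_eq_of_mul_eq_one_left (D.mm_sq a)

theorem inj {a b : Fin 4 → Bool} (h : mm z a = mm z b) : a = b := by
  have h1 : mm z (ad a b) = 1 := by rw [← D.mm_mul, h, D.mm_sq]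
  have h2 := D.ind _ h1
  funext i
  have h3 := congrFun h2 i
  revert h3
  simp only [ad]
  cases a i <;> cases b i <;> simp

omit D in
theorem mm_single (z : Fin 4 → G) (i : Fin 4) : mm z (fun j => decide (j = i)) = z i := by
  fin_cases i <;> simp [mm]

/-- every element of `⟨z⟩` is `mm z a` -/
theorem exists_mm {x : G} (hx : x ∈ Subgroup.closure (Set.range z)) : ∃ a, x = mm z a := by
  induction hx using Subgroup.closure_induction with
  | mem x hx =>
    obtain ⟨i, rfl⟩ := hx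
    exact ⟨_, (mm_single z i).symm⟩
  | one => exact ⟨_, mm_zero.symm⟩
  | mul x y _ _ h1 h2 =>
    obtain ⟨a, rfl⟩ := h1
    obtain ⟨b, rfl⟩ := h2
    exact ⟨_, D.mm_mul a b⟩
  | inv x _ h1 =>
    obtain ⟨a, rfl⟩ := h1
    exact ⟨a, D.mm_inv a⟩

omit D in
theorem mm_sc (c : Bool) (a : Fin 4 → Bool) : (bif c then mm z a else 1) = mm z (sc c a) := by
  cases c
  · have : sc false a = fun _ => false := by funext i; simp [sc]
    rw [this, mm_zero]; rfl
  · have : sc true a = a := by funext i; simp [sc]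
    rw [this]; rfl

/-- conjugation -/
theorem conj {g : G} {M : Fin 4 → Fin 4 → Bool} (hg : ∀ i, g * z i * g⁻¹ = mm z (M i)) (a : Fin 4 → Bool) :
    g * mm z a * g⁻¹ = mm z (ac M a) := by
  have h1 : ∀ (i : Fin 4) (x : Bool), g * (bif x then z i else 1) * g⁻¹ = mm z (sc x (M i)) := by
    intro i x
    rw [← mm_sc]
    cases x
    · simp
    · simp [hg]
  have h2 : g * mm z a * g⁻¹ = (g * (bif a 0 then z 0 else 1) * g⁻¹) * (g * (bif a 1 then z 1 else 1) * g⁻¹) *
      (g * (bif a 2 then z 2 else 1) * g⁻¹) * (g * (bif a 3 then z 3 else 1) * g⁻¹) := by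
    unfold mm; group
  rw [h2, h1, h1, h1, h1, D.mm_mul, D.mm_mul, D.mm_mul]
  rfl

end Ind

end Cfsg.Agent.Omega.All.NOne.SmallFour

end

section


/-!
# NO-3L, (1): local overgroups of `C_G(Z)` generating a nonlocal group give a mutual pair

K-free. `H i` are subgroups with `C_G(Z) ≤ H i`, `U i` an abelian normal subgroup of `H i` containing `Z`.

* `exists_mutual_or` : some `U i` and some `(U j)^x`, `x ∈ X = ⟨H i⟩`, normalise each other and do not
  commute, or all `U i` and `(U j)^x` commute;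
* `exists_mutual` : if no abelian subgroup containing `Z` is normal in `X = ⟨H i⟩`, then the first holds;
* `exists_mutual_loc` : `G` of characteristic 2 type, `H i ∈ L(S)`, `C_G(Ω₁Z(S)) ≤ H i`,
  `O₂(⟨H i⟩) = 1`, `U i = ⟨Ω₁Z(S)^(H i)⟩ = zl S (H i)`.
-/

set_option autoImplicit false

namespace Cfsg.Agent.Omega.NOThreeL.Pair

open Subgroup MulAction Pointwise Cfsg Cfsg.Agent.ZN Cfsg.Agent.MinSimple
open Cfsg.Agent.Omega.NoFF.Basic (conj_conj mem_conj conj_le_iff conj_le_centralizer comm_symm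
  comm_mono)
open scoped commutatorElement

universe u v

section abstr

variable {G : Type u} [Group G] {ι : Type v}

theorem conj_eq_of_mem {g : G} {U : Subgroup G} (hg : g ∈ normalizer (U : Set G)) :
    MulAut.conj g • U = U := by
  ext x
  rw [mem_conj]
  have h := mem_normalizer_iff.mp hg (g⁻¹ * x * g)
  rw [h]
  simp [mul_assoc]

theorem conj_le_normalizer {g : G} {A B : Subgroup G} (h : A ≤ normalizer (B : Set G)) :
    MulAut.conj g • A ≤ normalizer ((MulAut.conj g • B : Subgroup G) : Set G) := by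
  intro a ha
  rw [mem_conj] at ha
  rw [mem_normalizer_iff]
  intro x
  rw [mem_conj, mem_conj]
  have h1 := mem_normalizer_iff.mp (h ha) (g⁻¹ * x * g)
  rw [h1]
  simp [mul_assoc]

theorem exists_list {H : ι → Subgroup G} {x : G} (hx : x ∈ (⨆ i, H i : Subgroup G)) :
    ∃ l : List G, (∀ y ∈ l, ∃ k, y ∈ H k) ∧ l.prod = x := by
  rw [iSup_eq_closure, ← mem_toSubmonoid, closure_toSubmonoid] at hx
  obtain ⟨l, hl, rfl⟩ := Submonoid.exists_list_of_mem_closure hx
  refine ⟨l, fun y hy => ?_, rfl⟩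
  rcases hl y hy with h | h
  · simpa using h
  · obtain ⟨k, hk⟩ := Set.mem_iUnion.mp (Set.mem_inv.mp h)
    exact ⟨k, inv_mem_iff.mp hk⟩

/-- `x` is a product of `n` elements of the `H k`; `U i` and `(U j)^x` do not commute. -/
def Bad (H U : ι → Subgroup G) (n : ℕ) : Prop :=
  ∃ (i j : ι) (l : List G), l.length = n ∧ (∀ y ∈ l, ∃ k, y ∈ H k) ∧
    ¬ U i ≤ centralizer ((MulAut.conj l.prod • U j : Subgroup G) : Set G)

/-- The normal closure of the `U i` in `X`. -/
def clo (X : Subgroup G) (U : ι → Subgroup G) : Subgroup G :=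
  ⨆ (i : ι) (x : X), MulAut.conj (x : G) • U i

theorem le_clo {X : Subgroup G} {U : ι → Subgroup G} (i : ι) {x : G} (hx : x ∈ X) :
    MulAut.conj x • U i ≤ clo X U :=
  (le_iSup (fun y : X => MulAut.conj (y : G) • U i) ⟨x, hx⟩).trans
    (le_iSup (fun i => ⨆ y : X, MulAut.conj (y : G) • U i) i)

theorem le_clo' {X : Subgroup G} {U : ι → Subgroup G} (i : ι) : U i ≤ clo X U := by
  have h := le_clo (X := X) (U := U) i (one_mem X)
  rwa [map_one, one_smul] at h

theorem clo_le {X A : Subgroup G} {U : ι → Subgroup G}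
    (h : ∀ i, ∀ x ∈ X, MulAut.conj x • U i ≤ A) : clo X U ≤ A :=
  iSup_le fun i => iSup_le fun x => h i x x.2

/-- the union of the conjugates of the `U i` under `X` generates an `X`-invariant subgroup. -/
theorem le_normalizer_clo (X : Subgroup G) (U : ι → Subgroup G) :
    X ≤ normalizer (clo X U : Set G) := by
  have key : ∀ g ∈ X, MulAut.conj g • clo X U ≤ clo X U := by
    intro g hg
    rw [Subgroup.pointwise_smul_subset_iff]
    refine clo_le fun i x hx => ?_
    rw [← Subgroup.pointwise_smul_subset_iff, conj_conj]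
    exact le_clo i (X.mul_mem hg hx)
  intro g hg
  rw [mem_normalizer_iff]
  intro y
  constructor
  · intro hy
    apply key g hg
    rw [mem_conj]
    simpa [mul_assoc] using hy
  · intro hy
    apply key g⁻¹ (X.inv_mem hg)
    rw [mem_conj]
    simpa [mul_assoc] using hy

theorem clo_comm {X : Subgroup G} {U : ι → Subgroup G} (h : ∀ i j, ∀ x ∈ X,
    U i ≤ centralizer ((MulAut.conj x • U j : Subgroup G) : Set G)) :
    clo X U ≤ centralizer (clo X U : Set G) := by
  refine clo_le fun i x hx => ?_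
  rw [Subgroup.le_centralizer_iff]
  refine clo_le fun j y hy => ?_
  have h3 := conj_le_centralizer (g := y) (h j i (y⁻¹ * x) (mul_mem (inv_mem hy) hx))
  rwa [conj_conj, mul_inv_cancel_left] at h3

/-- **NO-3L, (1)**, abstract. -/
theorem exists_mutual_or {Z : Subgroup G} {H U : ι → Subgroup G}
    (hZ : ∀ i, Z ≤ U i) (hC : ∀ i, centralizer (Z : Set G) ≤ H i)
    (hU : ∀ i, U i ≤ centralizer (U i : Set G)) (hN : ∀ i, H i ≤ normalizer (U i : Set G)) :
    (∃ i j, ∃ x ∈ (⨆ i, H i : Subgroup G),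
      U i ≤ normalizer ((MulAut.conj x • U j : Subgroup G) : Set G) ∧
      MulAut.conj x • U j ≤ normalizer (U i : Set G) ∧
      ¬ U i ≤ centralizer ((MulAut.conj x • U j : Subgroup G) : Set G)) ∨
    ∀ i j, ∀ x ∈ (⨆ i, H i : Subgroup G),
      U i ≤ centralizer ((MulAut.conj x • U j : Subgroup G) : Set G) := by
  classical
  by_cases hbad : ∃ n, Bad H U n
  swap
  · right
    intro i j x hx
    by_contra hne
    obtain ⟨l, hl, rfl⟩ := exists_list hx
    exact hbad ⟨l.length, i, j, l, rfl, hl, hne⟩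
  left
  -- take one of least length
  obtain ⟨i, j, l, hl, hH, hne⟩ := Nat.find_spec hbad
  have hmin : ∀ (i j : ι) (l' : List G), l'.length < l.length → (∀ y ∈ l', ∃ k, y ∈ H k) →
      U i ≤ centralizer ((MulAut.conj l'.prod • U j : Subgroup G) : Set G) := by
    intro i j l' hl' hH'
    by_contra hne'
    rw [hl] at hl'
    exact Nat.find_min hbad hl' ⟨i, j, l', rfl, hH', hne'⟩
  have hmem : l.prod ∈ (⨆ i, H i : Subgroup G) := by
    refine list_prod_mem fun y hy => ?_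
    obtain ⟨k, hk⟩ := hH y hy
    exact (le_iSup H k) hk
  -- `U i` centralises `Z^x`
  have h1 : U i ≤ centralizer ((MulAut.conj l.prod • Z : Subgroup G) : Set G) := by
    rcases l.eq_nil_or_concat with h0 | ⟨L, b, h0⟩
    · subst h0
      rw [List.prod_nil, map_one, one_smul]
      exact comm_mono (hU i) le_rfl (hZ i)
    · obtain ⟨k, hk⟩ := hH b (by rw [h0]; simp)
      have h3 := hmin i k L (by rw [h0]; simp) (fun y hy => hH y (by rw [h0]; simp [hy]))
      have h4 : MulAut.conj l.prod • U k = MulAut.conj L.prod • U k := by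
        rw [h0, List.concat_eq_append, List.prod_append, List.prod_singleton, ← conj_conj,
          conj_eq_of_mem (hN k hk)]
      rw [← h4] at h3
      exact comm_mono h3 le_rfl (conj_le_iff.2 (hZ k))
  -- `(U j)^x` centralises `Z`
  have h2 : MulAut.conj l.prod • U j ≤ centralizer (Z : Set G) := by
    rcases l with _ | ⟨b, L⟩
    · rw [List.prod_nil, map_one, one_smul]
      exact comm_mono (hU j) le_rfl (hZ j)
    · obtain ⟨k, hk⟩ := hH b (by simp)
      have h3 := hmin k j L (by simp) (fun y hy => hH y (by simp [hy]))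
      have h4 := conj_le_centralizer (g := b) h3
      rw [conj_eq_of_mem (hN k hk), conj_conj, ← List.prod_cons] at h4
      exact comm_mono (comm_symm h4) le_rfl (hZ k)
  refine ⟨i, j, l.prod, hmem, ?_, ?_, hne⟩
  · refine le_trans ?_ (conj_le_normalizer (hN j))
    refine le_trans ?_ (conj_le_iff.2 (hC j))
    intro u hu
    rw [mem_conj, mem_centralizer_iff]
    intro z hz
    have h5 := mem_centralizer_iff.mp (h1 hu) (l.prod * z * l.prod⁻¹) (by
      change _ ∈ MulAut.conj l.prod • Z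
      rw [mem_conj]
      simpa [mul_assoc] using hz)
    have h6 := congrArg (fun t => l.prod⁻¹ * t * l.prod) h5
    simpa [mul_assoc] using h6
  · exact h2.trans ((hC i).trans (hN i))

/-- **NO-3L, (1)**: if no abelian subgroup containing `Z` is normal in `⟨H i⟩`, there is a mutual pair. -/
theorem exists_mutual [Nonempty ι] {Z : Subgroup G} {H U : ι → Subgroup G}
    (hZ : ∀ i, Z ≤ U i) (hC : ∀ i, centralizer (Z : Set G) ≤ H i)
    (hU : ∀ i, U i ≤ centralizer (U i : Set G)) (hN : ∀ i, H i ≤ normalizer (U i : Set G))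
    (hX : ∀ A : Subgroup G, Z ≤ A → A ≤ centralizer (A : Set G) →
      ¬ (⨆ i, H i) ≤ normalizer (A : Set G)) :
    ∃ i j, ∃ x ∈ (⨆ i, H i : Subgroup G),
      U i ≤ normalizer ((MulAut.conj x • U j : Subgroup G) : Set G) ∧
      MulAut.conj x • U j ≤ normalizer (U i : Set G) ∧
      ¬ U i ≤ centralizer ((MulAut.conj x • U j : Subgroup G) : Set G) := by
  rcases exists_mutual_or hZ hC hU hN with h | h
  · exact h
  · obtain ⟨i⟩ := ‹Nonempty ι›
    exact absurd (le_normalizer_clo _ U)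
      (hX (clo _ U) ((hZ i).trans (le_clo' i)) (clo_comm h))

/-- commuting subgroups of exponent 2 generate a group of exponent 2 -/
theorem clo_isPGroup {X : Subgroup G} {U : ι → Subgroup G}
    (hsq : ∀ i, ∀ u ∈ U i, u ^ 2 = 1) (hc : clo X U ≤ centralizer (clo X U : Set G)) :
    ∀ u ∈ clo X U, u ^ 2 = 1 := by
  let A : Subgroup G :=
    { carrier := {u | u ∈ clo X U ∧ u ^ 2 = 1}
      mul_mem' := by
        rintro a b ⟨ha, ha2⟩ ⟨hb, hb2⟩
        refine ⟨mul_mem ha hb, ?_⟩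
        have h1 : Commute a b := (mem_centralizer_iff.mp (hc hb)) a ha
        rw [h1.mul_pow, ha2, hb2, one_mul]
      one_mem' := ⟨one_mem _, one_pow 2⟩
      inv_mem' := by
        rintro a ⟨ha, ha2⟩
        exact ⟨inv_mem ha, by rw [inv_pow, ha2, inv_one]⟩ }
  have h1 : clo X U ≤ A := by
    refine clo_le fun i x hx u hu => ⟨le_clo i hx hu, ?_⟩
    rw [mem_conj] at hu
    have h2 := hsq i _ hu
    have h3 : u ^ 2 = x * (x⁻¹ * u * x) ^ 2 * x⁻¹ := by
      simp [pow_two, mul_assoc]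
    rw [h3, h2]
    simp
  exact fun u hu => (h1 hu).2

/-- **NO-3L, (1)**, for 2-groups: if no 2-subgroup `≠ 1` is normal in `⟨H i⟩`, there is a mutual pair. -/
theorem exists_mutual_two [Nonempty ι] {Z : Subgroup G} {H U : ι → Subgroup G} (hZ1 : Z ≠ ⊥)
    (hZ : ∀ i, Z ≤ U i) (hC : ∀ i, centralizer (Z : Set G) ≤ H i)
    (hU : ∀ i, U i ≤ centralizer (U i : Set G)) (hsq : ∀ i, ∀ u ∈ U i, u ^ 2 = 1)
    (hN : ∀ i, H i ≤ normalizer (U i : Set G))
    (hX : ∀ A : Subgroup G, IsPGroup 2 A → (⨆ i, H i) ≤ normalizer (A : Set G) → A = ⊥) :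
    ∃ i j, ∃ x ∈ (⨆ i, H i : Subgroup G),
      U i ≤ normalizer ((MulAut.conj x • U j : Subgroup G) : Set G) ∧
      MulAut.conj x • U j ≤ normalizer (U i : Set G) ∧
      ¬ U i ≤ centralizer ((MulAut.conj x • U j : Subgroup G) : Set G) := by
  rcases exists_mutual_or hZ hC hU hN with h | h
  · exact h
  · obtain ⟨i⟩ := ‹Nonempty ι›
    exfalso
    refine hZ1 (le_bot_iff.mp ?_)
    rw [← hX (clo (⨆ i, H i) U) (fun a => ⟨1, ?_⟩) (le_normalizer_clo _ U)]
    · exact (hZ i).trans (le_clo' i)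
    · exact Subtype.ext (clo_isPGroup hsq (clo_comm h) a a.2)

end abstr

/-! ### In the frame -/

section loc

open Cfsg.Agent.Omega.MinPar (IsPar IsParS IsLoc NonLoc)
open Cfsg.Agent.MinSimple.VModule (le_o2 mem_zc zc_le zc_le_zl zl_le_zc zl_comm zl_sq
  le_normalizer_zl zl_le inf_centralizer_zl o2_le_centralizer_zl normalizer_le_normalizer_zc)

variable {G : Type u} [Group G] [Finite G] {ι : Type v}

/-- `U_H = ⟨Ω₁Z(S)^H⟩` is elementary abelian. -/
theorem zl_abel (hG : IsCharacteristicTwoType G) (S : Sylow 2 G) {H : Subgroup G}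
    (h : IsLoc (S : Subgroup G) H) :
    zl (S : Subgroup G) H ≤ centralizer (zl (S : Subgroup G) H : Set G) ∧
      ∀ u ∈ zl (S : Subgroup G) H, u ^ 2 = 1 := by
  have h1 := h.zl_le S hG
  refine ⟨fun u hu => ?_, fun u hu => (mem_zc.mp (h1 hu)).2.2⟩
  rw [mem_centralizer_iff]
  intro v hv
  exact (mem_zc.mp (h1 hu)).2.1 v (zc_le _ (h1 hv))

/-- **NO-3L, (1)**: `H i ∈ L(S)`, `C_G(Ω₁Z(S)) ≤ H i`, `O₂(⟨H i⟩) = 1`; then there is a mutual
noncommuting pair of conjugates of the `U_{H i} = ⟨Ω₁Z(S)^(H i)⟩`. -/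
theorem exists_mutual_loc [Nonempty ι] (hG : IsCharacteristicTwoType G) (S : Sylow 2 G)
    {H : ι → Subgroup G} (h : ∀ i, IsLoc (S : Subgroup G) (H i))
    (hC : ∀ i, centralizer (zc (S : Subgroup G) : Set G) ≤ H i) (core : o2 (⨆ i, H i) = ⊥) :
    ∃ i j, ∃ x ∈ (⨆ i, H i : Subgroup G),
      zl (S : Subgroup G) (H i) ≤
        normalizer ((MulAut.conj x • zl (S : Subgroup G) (H j) : Subgroup G) : Set G) ∧
      MulAut.conj x • zl (S : Subgroup G) (H j) ≤
        normalizer (zl (S : Subgroup G) (H i) : Set G) ∧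
      ⁅zl (S : Subgroup G) (H i), MulAut.conj x • zl (S : Subgroup G) (H j)⁆ ≠ ⊥ := by
  have hS : (S : Subgroup G) ≠ ⊥ := by
    obtain ⟨i⟩ := ‹Nonempty ι›
    intro h0
    exact (h i).o2_ne (le_bot_iff.mp (h0 ▸ (h i).o2_le S))
  have hX : ∀ A : Subgroup G, IsPGroup 2 A → (⨆ i, H i) ≤ normalizer (A : Set G) → A = ⊥ := by
    intro A hA hn
    obtain ⟨i⟩ := ‹Nonempty ι›
    by_contra hA1
    have hSX : (S : Subgroup G) ≤ ⨆ i, H i := (h i).le.trans (le_iSup H i)
    exact (Cfsg.Agent.Omega.MinPar.isLoc_of_le_normalizer S hSX hA hA1 hn).o2_ne core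
  obtain ⟨i, j, x, hx, h1, h2, h3⟩ := exists_mutual_two (Z := zc (S : Subgroup G)) (H := H)
    (U := fun i => zl (S : Subgroup G) (H i)) (Basic.zc_ne_bot S.isPGroup' hS)
    (fun i => zc_le_zl _ _) hC (fun i => (zl_abel hG S (h i)).1) (fun i => (zl_abel hG S (h i)).2)
    (fun i => le_normalizer_zl _ _) hX
  refine ⟨i, j, x, hx, h1, h2, fun h4 => h3 ?_⟩
  rwa [commutator_eq_bot_iff_le_centralizer] at h4

/-- two overgroups -/
theorem exists_mutual_pair (hG : IsCharacteristicTwoType G) (S : Sylow 2 G)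
    {H₁ H₂ : Subgroup G} (h₁ : IsLoc (S : Subgroup G) H₁) (h₂ : IsLoc (S : Subgroup G) H₂)
    (hC₁ : centralizer (zc (S : Subgroup G) : Set G) ≤ H₁)
    (hC₂ : centralizer (zc (S : Subgroup G) : Set G) ≤ H₂) (core : NonLoc H₁ H₂) :
    ∃ H H' : Subgroup G, (H = H₁ ∨ H = H₂) ∧ (H' = H₁ ∨ H' = H₂) ∧ ∃ x ∈ H₁ ⊔ H₂,
      zl (S : Subgroup G) H ≤
        normalizer ((MulAut.conj x • zl (S : Subgroup G) H' : Subgroup G) : Set G) ∧
      MulAut.conj x • zl (S : Subgroup G) H' ≤ normalizer (zl (S : Subgroup G) H : Set G) ∧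
      ⁅zl (S : Subgroup G) H, MulAut.conj x • zl (S : Subgroup G) H'⁆ ≠ ⊥ := by
  have hs : (⨆ i : Bool, bif i then H₁ else H₂) = H₁ ⊔ H₂ := iSup_bool_eq
  obtain ⟨i, j, x, hx, h1⟩ := exists_mutual_loc (ι := Bool) hG S
    (H := fun i => bif i then H₁ else H₂) (fun i => by cases i <;> assumption)
    (fun i => by cases i <;> assumption) (by rw [hs]; exact core.o2_sup)
  rw [hs] at hx
  refine ⟨bif i then H₁ else H₂, bif j then H₁ else H₂, ?_, ?_, x, hx, h1⟩
  · cases i <;> simp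
  · cases j <;> simp

end loc

end Cfsg.Agent.Omega.NOThreeL.Pair

end
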