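import Cfsg.Agent.Mrg.Omega.VP
import Cfsg.Agent.Mrg.Omega.SQ1.Choice
import Cfsg.Agent.Mrg.Omega.Assembly
import Cfsg.Agent.OddHalf.Known
import Cfsg.Agent.GH.C2Extra
import Cfsg.Prelude.Def_SporadicB
import Cfsg.Prelude.Def_LieExceptional
import Cfsg.Prelude.Def_LieRecognition
import Cfsg.Agent.S0095
import Cfsg.Agent.Lib.Cores
import Cfsg.Agent.PLocal.ElemAbSup
import Cfsg.Agent.Lib.NormalAbelian
import Cfsg.Agent.Lib.LocalCore
import Cfsg.Agent.Transfer.ExtraspecialTwo
import Cfsg.Agent.MinSimple.VModule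
import Cfsg.Agent.Involutions.BaerSuzuki
import Cfsg.Agent.Co2Type.Quad
import Cfsg.Agent.MinSimple.Basic

section


/-!
# OMEGA, case I of the frame: all members of `L(S)` lie in one proper subgroup

* `SQ1`: the theorem of the SQ1 team (a proper subgroup containing all 2-local subgroups over `S` is
  strongly embedded);
* `NoConfig`: no configuration `SQ1.Choice.Config`;
* `sq1_of_noConfig`, `nodeI_of_sq1`: the implications `NoConfig → SQ1 → Frame.NodeI`.
-/

set_option autoImplicit false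

namespace Cfsg.Agent.Omega.FrameI

open Subgroup Cfsg Cfsg.Agent.ZN Cfsg.Agent.Omega.MinPar Cfsg.Agent.Omega.Frame
open Cfsg.Agent.Omega.SQ1.Choice (Config exists_config)

universe u

/-- **SQ1**: a proper subgroup containing all 2-local subgroups over `S` is strongly embedded. -/
def SQ1 : Prop :=
  ∀ (G : Type u) [Group G] [Finite G] [IsSimpleGroup G], ¬ IsMulCommutative G →
    IsCharacteristicTwoType G → ¬ SectionalPRankLE 2 4 G → ∀ (S : Sylow 2 G) (Y : Subgroup G), Y ≠ ⊤ →
      (∀ N : Subgroup G, IsTwoLocal N → (S : Subgroup G) ≤ N → N ≤ Y) → IsStronglyEmbedded Y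

/-- The configuration of `SQ1.Choice` does not exist. -/
def NoConfig : Prop :=
  ∀ (G : Type u) [Group G] [Finite G] [IsSimpleGroup G], ¬ IsMulCommutative G →
    IsCharacteristicTwoType G → ¬ SectionalPRankLE 2 4 G → ∀ (S : Sylow 2 G) (M : Subgroup G), M ≠ ⊤ →
      (∀ N : Subgroup G, IsTwoLocal N → (S : Subgroup G) ≤ N → N ≤ M) →
        ∀ (T H : Subgroup G) (s : G), ¬ Config M T H s

theorem sq1_of_noConfig (h : NoConfig.{u}) : SQ1.{u} := by
  intro G _ _ _ hna hc hr S Y hY hN
  by_contra hse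
  obtain ⟨T, H, s, hcfg⟩ := exists_config hc S Y hY hN hse
  exact h G hna hc hr S Y hY hN T H s hcfg

/-- **Node I from SQ1.** -/
theorem nodeI_of_sq1 (h : SQ1.{u}) : NodeI.{u} := by
  intro G _ _ hG S hF
  have := hG.simple
  have h2 : Fact (Nat.Prime 2) := ⟨Nat.prime_two⟩
  simp only [Full, not_forall] at hF
  obtain ⟨Y, hY, hne⟩ := hF
  refine ⟨Y, h G hG.nonComm hG.char2 hG.rank S Y hne fun N hN hSN => hY N ?_⟩
  obtain ⟨U, hU, hU1, rfl⟩ := hN
  exact isLoc_normalizer S hU hU1 hSN

theorem nodeI_of_noConfig (h : NoConfig.{u}) : NodeI.{u} := nodeI_of_sq1 (sq1_of_noConfig h)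

end Cfsg.Agent.Omega.FrameI

end

section


/-!
# OMEGA: the classification from the leaves of the master reduction (v5.2)

* `EvenLeaves K`: the leaves of the even half relative to a class `K` of groups (`Frame.All`: all groups;
  `StrQ`: the strongly quasithin case); `EvenLeaves.evenHalfK`;
* `Leaves`: all open inputs of the classification; `Leaves.classification` (the literal S0000).
-/

set_option autoImplicit false

namespace Cfsg.Agent.Omega.Main

open Cfsg

universe u

/-- The leaves of the even half, relative to the class `K`. -/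
structure EvenLeaves (K : Frame.Cls.{u}) : Prop where
  /-- Bender's theorem, landed: `StrongEmb.Strong.result` -/
  bender : Frame.Bender.{u}
  /-- case I -/
  one : Frame.NodeIK K
  /-- N1: some `V_P ≰ O₂(C_G(Z))` -/
  n1 : FrameLE.NodeN1 K
  /-- II.c, II.d -/
  multi : FrameFF.LeafMulti K
  /-- II.0h1 -/
  h1 : FrameFF.LeafH1 K
  /-- II.b -/
  b : FrameFF.LeafB K
  norm : FrameFF.NormStep K
  /-- II.a, `q = 2` -/
  a2 : FrameFF.LeafA2 K
  /-- II.a, `q ≥ 4` -/
  a4 : FrameFF.LeafA4 K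
  /-- NO-3S -/
  no3s : FrameNOFF.NodeNO3S K
  /-- NO-3L -/
  no3l : FrameNOFF.NodeNO3L K

/-- **The even half relative to `K`, from its leaves.** -/
theorem EvenLeaves.evenHalfK {K : Frame.Cls.{u}} (L : EvenLeaves K) : Frame.EvenHalfK K :=
  FrameLE.evenHalf L.bender L.one L.n1 (FrameFF.nodeFF L.multi L.h1 L.b L.norm L.a2 L.a4) L.no3s L.no3l

/-- **The even half from its leaves.** -/
theorem EvenLeaves.evenHalf (L : EvenLeaves Frame.All.{u}) : Assembly.EvenHalf.{u} := L.evenHalfK.all

/-- All open inputs of the classification. -/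
structure Leaves : Prop extends EvenLeaves Frame.All.{u} where
  /-- S1765 -/
  odd : Assembly.OddLit.{u}
  /-- the list of the simple groups of sectional 2-rank at most 4 -/
  k4 : RankFourOf.PK4.{u}
  s1738 : ∀ (G : Type u) [Group G] [Finite G], GH.AltOut.St1738 G

/-- **The classification of the finite simple groups from the leaves** (literal S0000). -/
theorem Leaves.classification (L : Leaves.{u}) (G : Type u) [Group G] [Finite G] [IsSimpleGroup G] :
    IsKnownSimple' G :=
  RankFourOf.classification_of L.odd L.toEvenLeaves.evenHalf L.k4 L.s1738 G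

end Cfsg.Agent.Omega.Main

end

section


/-!
# The exits of the even half: from the conclusions of the quoted statements to `IsKnownSimple'`

Every exit statement of the plan is written as a proposition (`St1759`, `St1761`, ...), literally as in the list,
and its conclusion is transported to `IsKnownSimple'`.  `CharTwo` glue: in a group of characteristic 2 type
the hypotheses on `F*(C_G(z))` are hypotheses on `O₂(C_G(z))`.
-/

set_option autoImplicit false

namespace Cfsg.Agent.Omega.Exits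

open Cfsg Subgroup

universe u

variable {G : Type u} [Group G]

/-! ## Members of the list -/

theorem known_alt (n : ℕ) (hn : 5 ≤ n) (h : Nonempty (G ≃* alternatingGroup (Fin n))) : IsKnownSimple' G :=
  Or.inr (Or.inl ⟨n, hn, h⟩)

theorem known_psl (h : IsPSL G) : IsKnownSimple' G := Or.inr (Or.inr (Or.inl h))

theorem known_psp (h : IsPSp G) : IsKnownSimple' G := Or.inr (Or.inr (Or.inr (Or.inl h)))

theorem known_psu (h : IsPSU G) : IsKnownSimple' G := Or.inr (Or.inr (Or.inr (Or.inr (Or.inl h))))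

theorem known_poOdd (h : IsPOmegaOdd G) : IsKnownSimple' G :=
  Or.inr (Or.inr (Or.inr (Or.inr (Or.inr (Or.inl h)))))

theorem known_poPlus (h : IsPOmegaPlus G) : IsKnownSimple' G :=
  Or.inr (Or.inr (Or.inr (Or.inr (Or.inr (Or.inr (Or.inl h))))))

theorem known_poMinus (h : IsPOmegaMinus G) : IsKnownSimple' G :=
  Or.inr (Or.inr (Or.inr (Or.inr (Or.inr (Or.inr (Or.inr (Or.inl h)))))))

theorem known_exc (h : IsExceptionalLieType G) : IsKnownSimple' G :=
  Or.inr (Or.inr (Or.inr (Or.inr (Or.inr (Or.inr (Or.inr (Or.inr (Or.inl h))))))))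

theorem known_spor (h : IsSporadicGroup G) : IsKnownSimple' G :=
  Or.inr (Or.inr (Or.inr (Or.inr (Or.inr (Or.inr (Or.inr (Or.inr (Or.inr h))))))))

/-- `PSL_n(F)`, `n ≥ 3`. -/
theorem known_l {n : ℕ} (hn : 3 ≤ n) {F : Type} [i : Field F] [j : Fintype F]
    (h : Nonempty (G ≃* Matrix.ProjectiveSpecialLinearGroup (Fin n) F)) : IsKnownSimple' G :=
  known_psl ⟨F, i, j, n, by omega, fun h2 => by omega, h⟩

/-- `PSL_2(F)`, `|F| ≥ 4`. -/
theorem known_l2 {F : Type} [i : Field F] [j : Fintype F] (hF : 4 ≤ Fintype.card F)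
    (h : Nonempty (G ≃* Matrix.ProjectiveSpecialLinearGroup (Fin 2) F)) : IsKnownSimple' G :=
  known_psl ⟨F, i, j, 2, le_rfl, fun _ => hF, h⟩

/-- `PSU_n(q)`, `n ≥ 4`. -/
theorem known_u {n q : ℕ} (hn : 4 ≤ n) {F : Type} [i : Field F] [j : Fintype F]
    (hF : Fintype.card F = q ^ 2) (h : Nonempty (G ≃* Cfsg.PSU n F q)) : IsKnownSimple' G :=
  known_psu ⟨F, i, j, n, q, hF, by omega, fun h => by omega, h⟩

/-- `PSU_3(q)`, `q ≥ 3`. -/
theorem known_u3 {q : ℕ} (hq : 3 ≤ q) {F : Type} [i : Field F] [j : Fintype F]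
    (hF : Fintype.card F = q ^ 2) (h : Nonempty (G ≃* Cfsg.PSU 3 F q)) : IsKnownSimple' G :=
  known_psu ⟨F, i, j, 3, q, hF, le_rfl, fun h => by omega, h⟩

/-- `PSp_2m(F)`, `m ≥ 3`. -/
theorem known_sp {m : ℕ} (hm : 3 ≤ m) {F : Type} [i : Field F] [j : Fintype F]
    (h : Nonempty (G ≃* Cfsg.PSp m F)) : IsKnownSimple' G :=
  known_psp ⟨F, i, j, m, by omega, fun h2 => by omega, h⟩

/-- `PSp_4(F)`, `|F| ≥ 3`. -/
theorem known_sp4 {F : Type} [i : Field F] [j : Fintype F] (hF : 3 ≤ Fintype.card F)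
    (h : Nonempty (G ≃* Cfsg.PSp 2 F)) : IsKnownSimple' G :=
  known_psp ⟨F, i, j, 2, le_rfl, fun _ => hF, h⟩

/-! ## S1143, S1144: `BN`-pairs -/

/-- S1143 (rank at least 3). -/
def St1143 : Prop :=
  ∀ (G : Type u) [Group G] [Finite G] [IsSimpleGroup G] (P : Cfsg.BNPair G), 3 ≤ P.rank → P.Irreducible →
    Cfsg.IsPSL G ∨ Cfsg.IsPSp G ∨ Cfsg.IsPSU G ∨ Cfsg.IsPOmegaOdd G ∨ Cfsg.IsPOmegaPlus G ∨
      Cfsg.IsPOmegaMinus G ∨ Cfsg.IsExceptionalLieType G

/-- S1144. -/
def St1144 : Prop :=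
  ∀ (G : Type u) [Group G] [Finite G] [IsSimpleGroup G] (P : Cfsg.BNPair G), 1 ≤ P.rank → P.IsSplit →
    Cfsg.IsPSL G ∨ Cfsg.IsPSp G ∨ Cfsg.IsPSU G ∨ Cfsg.IsPOmegaOdd G ∨ Cfsg.IsPOmegaPlus G ∨
      Cfsg.IsPOmegaMinus G ∨ Cfsg.IsExceptionalLieType G

/-- The conclusion of S1143 and S1144 is on the list. -/
theorem known_lie (h : Cfsg.IsPSL G ∨ Cfsg.IsPSp G ∨ Cfsg.IsPSU G ∨ Cfsg.IsPOmegaOdd G ∨ Cfsg.IsPOmegaPlus G ∨
      Cfsg.IsPOmegaMinus G ∨ Cfsg.IsExceptionalLieType G) : IsKnownSimple' G := by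
  rcases h with h | h | h | h | h | h | h
  · exact known_psl h
  · exact known_psp h
  · exact known_psu h
  · exact known_poOdd h
  · exact known_poPlus h
  · exact known_poMinus h
  · exact known_exc h

/-! ## Strongly embedded subgroups -/

/-- The conclusion `StrongEmb.BenderIso.Concl` is on the list. -/
theorem known_se (h : (∃ (F : Type) (_ : Field F) (_ : Fintype F), (∃ n : ℕ, 2 ≤ n ∧ Fintype.card F = 2 ^ n) ∧
      Nonempty (G ≃* Matrix.ProjectiveSpecialLinearGroup (Fin 2) F)) ∨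
    Cfsg.Lie.IsoSuzuki G ∨
    (∃ (F : Type) (_ : Field F) (_ : Fintype F) (n : ℕ), 2 ≤ n ∧ Fintype.card F = (2 ^ n) ^ 2 ∧
      Nonempty (G ≃* Cfsg.PSU 3 F (2 ^ n)))) : IsKnownSimple' G := by
  rcases h with ⟨F, _, _, ⟨n, hn, hF⟩, f⟩ | h | ⟨F, _, _, n, hn, hF, f⟩
  · refine known_l2 ?_ f
    rw [hF]
    calc 4 = 2 ^ 2 := by norm_num
      _ ≤ 2 ^ n := Nat.pow_le_pow_right (by norm_num) hn
  · exact known_exc (Or.inr (Or.inr (Or.inr (Or.inr (Or.inr (Or.inr (Or.inr (Or.inl h))))))))
  · refine known_u3 ?_ hF f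
    calc 3 ≤ 2 ^ 2 := by norm_num
      _ ≤ 2 ^ n := Nat.pow_le_pow_right (by norm_num) hn

/-! ## S1740, S1769, S1770: Sylow 2-subgroups of groups of Lie type -/

/-- The conclusion of S1740, `n ≥ 2`. -/
theorem known_1740 {n : ℕ} (hn : 2 ≤ n)
    (h : (∃ (F : Type) (_ : Field F) (_ : Fintype F), Fintype.card F = 2 ^ n ∧ (Nonempty (G ≃* Matrix.ProjectiveSpecialLinearGroup (Fin 2) F) ∨ Nonempty (G ≃* Matrix.ProjectiveSpecialLinearGroup (Fin 3) F) ∨ Nonempty (G ≃* Cfsg.PSp 2 F))) ∨
      (∃ (F : Type) (_ : Field F) (_ : Fintype F), Fintype.card F = 4 ^ n ∧ Nonempty (G ≃* Cfsg.PSU 3 F (2 ^ n))) ∨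
      (∃ m : ℕ, 1 ≤ m ∧ n = 2 * m + 1 ∧ ∃ (F : Type) (_ : Field F) (_ : Fintype F), Fintype.card F = 2 ^ n ∧ Nonempty (G ≃* ↥(Cfsg.Lie.Sz F (2 ^ (m + 1))))) ∨
      Cfsg.Lie.IsoRee G ∨ Cfsg.Spor.IsoJ1 G) : IsKnownSimple' G := by
  have h4 : 4 ≤ 2 ^ n := by
    calc 4 = 2 ^ 2 := by norm_num
      _ ≤ 2 ^ n := Nat.pow_le_pow_right (by norm_num) hn
  rcases h with ⟨F, _, _, hF, f | f | f⟩ | ⟨F, _, _, hF, f⟩ | ⟨m, h1, h2, F, i, j, hF, f⟩ | h | h
  · exact known_l2 (by omega) f
  · exact known_l le_rfl f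
  · exact known_sp4 (by omega) f
  · refine known_u3 (by omega) ?_ f
    rw [hF, ← pow_mul, mul_comm, pow_mul]
    norm_num
  · exact known_exc (Or.inr (Or.inr (Or.inr (Or.inr (Or.inr (Or.inr (Or.inr (Or.inl
      ⟨F, i, j, m, h1, by rw [hF, h2], f⟩))))))))
  · exact known_exc (Or.inr (Or.inr (Or.inr (Or.inr (Or.inr (Or.inr (Or.inr (Or.inr (Or.inl h)))))))))
  · exact known_spor (by simp only [IsSporadicGroup]; tauto)

/-- The conclusion of S1770 (1). -/
theorem known_g2 {F : Type} [i : Field F] [j : Fintype F] {r : ℕ} (hr : 2 ≤ r) (hF : Fintype.card F = 2 ^ r)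
    (h : Nonempty (G ≃* ↥(Cfsg.Lie.chevG2.group F))) : IsKnownSimple' G := by
  refine known_exc (Or.inl ⟨F, i, j, ?_, h⟩)
  rw [hF]
  calc 3 ≤ 2 ^ 2 := by norm_num
    _ ≤ 2 ^ r := Nat.pow_le_pow_right (by norm_num) hr

/-- The conclusion of S1770 (2). -/
theorem known_3d4 {K : Type} [i : Field K] [j : Fintype K] {r : ℕ} (hr : 1 ≤ r) (hK : Fintype.card K = 8 ^ r)
    (h : Nonempty (G ≃* ↥(Cfsg.Lie.twistedD4 K (2 ^ r)))) : IsKnownSimple' G := by
  refine known_exc (Or.inr (Or.inr (Or.inr (Or.inr (Or.inr (Or.inr (Or.inl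
    ⟨K, i, j, 2 ^ r, ?_, ?_, h⟩)))))))
  · exact Nat.prime_two.isPrimePow.pow (by omega)
  · rw [hK, ← pow_mul, mul_comm, pow_mul]
    norm_num

/-! ## S1759, S1761, S1762, S1763: extraspecial `F*(C_G(z))` -/

/-- S1759. -/
def St1759 : Prop :=
  ∀ (G : Type u) [Group G] [Finite G] (z : G) (_ : orderOf z = 2) (_ : Cfsg.IsOfSymplecticType ↥(Cfsg.generalizedFittingSubgroup ↥(Subgroup.centralizer ({z} : Set G)))) (_ : Cfsg.IsExtraspecial 2 ↥(Cfsg.generalizedFittingSubgroup ↥(Subgroup.centralizer ({z} : Set G))))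
    (_ : Nat.card ↥(Cfsg.generalizedFittingSubgroup ↥(Subgroup.centralizer ({z} : Set G))) = 32) (_ : IsSimpleGroup ↥(Cfsg.generalizedFittingSubgroup G))
    (_ : ¬ IsMulCommutative ↥(Cfsg.generalizedFittingSubgroup G)),
    (∃ (F : Type) (_ : Field F) (_ : Fintype F), Fintype.card F = 9 ∧ (Nonempty (↥(Cfsg.generalizedFittingSubgroup G) ≃* Cfsg.PSU 3 F 3) ∨ Nonempty (↥(Cfsg.generalizedFittingSubgroup G) ≃* Cfsg.PSU 4 F 3))) ∨
      (∃ (F : Type) (_ : Field F) (_ : Fintype F), Fintype.card F = 4 ∧ Nonempty (↥(Cfsg.generalizedFittingSubgroup G) ≃* Cfsg.PSU 4 F 2)) ∨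
      (∃ (F : Type) (_ : Field F) (_ : Fintype F), Fintype.card F = 3 ∧ (Nonempty (↥(Cfsg.generalizedFittingSubgroup G) ≃* Matrix.ProjectiveSpecialLinearGroup (Fin 4) F) ∨
        Nonempty (↥(Cfsg.generalizedFittingSubgroup G) ≃* ↥(Cfsg.Lie.chevG2.group F)))) ∨
      Nonempty (↥(Cfsg.generalizedFittingSubgroup G) ≃* ↥(alternatingGroup (Fin 8))) ∨
      Nonempty (↥(Cfsg.generalizedFittingSubgroup G) ≃* ↥(alternatingGroup (Fin 9))) ∨
      Cfsg.Spor.IsoM12 ↥(Cfsg.generalizedFittingSubgroup G) ∨ Cfsg.Spor.IsoJ2 ↥(Cfsg.generalizedFittingSubgroup G) ∨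
      Cfsg.Spor.IsoJ3 ↥(Cfsg.generalizedFittingSubgroup G)

/-- S1761. -/
def St1761 : Prop :=
  ∀ (G : Type u) [Group G] [Finite G] [IsSimpleGroup G] (z : G) (_ : orderOf z = 2) (_ : Cfsg.IsOfSymplecticType ↥(Cfsg.generalizedFittingSubgroup ↥(Subgroup.centralizer ({z} : Set G)))) (_ : Cfsg.IsExtraspecial 2 ↥(Cfsg.generalizedFittingSubgroup ↥(Subgroup.centralizer ({z} : Set G))))
    (n : ℕ) (_ : 3 ≤ n) (_ : Nat.card ↥(Cfsg.generalizedFittingSubgroup ↥(Subgroup.centralizer ({z} : Set G))) = 2 ^ (2 * n + 1)),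
    (∃ (F : Type) (_ : Field F) (_ : Fintype F), Fintype.card F = 2 ∧ Nonempty (G ≃* Matrix.ProjectiveSpecialLinearGroup (Fin (n + 2)) F)) ∨
      (n = 3 ∧ (Cfsg.Spor.IsoM24 G ∨ Cfsg.Spor.IsoHe G)) ∨
      (∀ A : Subgroup ↥(Subgroup.centralizer ({z} : Set G)), A.Normal → Subgroup.zpowers (⟨z, Subgroup.mem_centralizer_singleton_iff.mpr rfl⟩ : ↥(Subgroup.centralizer ({z} : Set G))) ≤ A →
        A ≤ Cfsg.generalizedFittingSubgroup ↥(Subgroup.centralizer ({z} : Set G)) → A = Subgroup.zpowers (⟨z, Subgroup.mem_centralizer_singleton_iff.mpr rfl⟩ : ↥(Subgroup.centralizer ({z} : Set G))) ∨ A = Cfsg.generalizedFittingSubgroup ↥(Subgroup.centralizer ({z} : Set G)))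

/-- S1762. -/
def St1762 : Prop :=
  ∀ (G : Type u) [Group G] [Finite G] [IsSimpleGroup G]
    (_ : ¬ IsMulCommutative G) (z : G) (_ : orderOf z = 2) (_ : Cfsg.IsOfSymplecticType ↥(Cfsg.generalizedFittingSubgroup ↥(Subgroup.centralizer ({z} : Set G)))) (_ : Cfsg.IsExtraspecial 2 ↥(Cfsg.generalizedFittingSubgroup ↥(Subgroup.centralizer ({z} : Set G)))) (_ : Nat.card ↥(Cfsg.generalizedFittingSubgroup ↥(Subgroup.centralizer ({z} : Set G))) = 2 ^ 7),
    (∃ (F : Type) (_ : Field F) (_ : Fintype F), Fintype.card F = 2 ∧ Nonempty (G ≃* Matrix.ProjectiveSpecialLinearGroup (Fin 5) F)) ∨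
      (∃ (F : Type) (_ : Field F) (_ : Fintype F), Fintype.card F = 4 ∧ Nonempty (G ≃* Cfsg.PSU 5 F 2)) ∨
      Cfsg.Spor.IsoM24 G ∨ Cfsg.Spor.IsoHe G ∨ Cfsg.Spor.IsoSuz G

/-- S1763. -/
def St1763 : Prop :=
  ∀ (G : Type u) [Group G] [Finite G] [IsSimpleGroup G]
    (_ : ¬ IsMulCommutative G) (z : G) (_ : orderOf z = 2) (_ : Cfsg.IsOfSymplecticType ↥(Cfsg.generalizedFittingSubgroup ↥(Subgroup.centralizer ({z} : Set G)))) (_ : Cfsg.IsExtraspecial 2 ↥(Cfsg.generalizedFittingSubgroup ↥(Subgroup.centralizer ({z} : Set G)))) (_ : Nat.card ↥(Cfsg.generalizedFittingSubgroup ↥(Subgroup.centralizer ({z} : Set G))) = 2 ^ 9),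
    (∃ (F : Type) (_ : Field F) (_ : Fintype F), Fintype.card F = 2 ∧ (Nonempty (G ≃* Matrix.ProjectiveSpecialLinearGroup (Fin 6) F) ∨
        Nonempty (G ≃* Cfsg.POmega F (Cfsg.quadFormPlus 4 F)) ∨
        (∃ a b : F, (∀ z₁ z₂ : F, z₁ ^ 2 + a * z₁ * z₂ + b * z₂ ^ 2 = 0 → z₁ = 0 ∧ z₂ = 0) ∧
          Nonempty (G ≃* Cfsg.POmega F (Cfsg.quadFormMinus 3 F a b))))) ∨
      (∃ (F : Type) (_ : Field F) (_ : Fintype F), Fintype.card F = 4 ∧ Nonempty (G ≃* Cfsg.PSU 6 F 2)) ∨
      (∃ (K : Type) (_ : Field K) (_ : Fintype K), Fintype.card K = 8 ∧ Nonempty (G ≃* ↥(Cfsg.Lie.twistedD4 K 2))) ∨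
      (∃ (F : Type) (_ : Field F) (_ : Fintype F), Fintype.card F = 3 ∧ Nonempty (G ≃* Cfsg.POmega F (Cfsg.quadFormPlus 4 F))) ∨
      Cfsg.Spor.IsoCo1 G ∨ Cfsg.Spor.IsoCo2 G ∨ Cfsg.Spor.IsoTh G ∨ Cfsg.Spor.IsoHN G

/-- The disjuncts of S1759 are on the list. -/
theorem known_1759 {X : Type u} [Group X]
    (h : (∃ (F : Type) (_ : Field F) (_ : Fintype F), Fintype.card F = 9 ∧ (Nonempty (X ≃* Cfsg.PSU 3 F 3) ∨ Nonempty (X ≃* Cfsg.PSU 4 F 3))) ∨
      (∃ (F : Type) (_ : Field F) (_ : Fintype F), Fintype.card F = 4 ∧ Nonempty (X ≃* Cfsg.PSU 4 F 2)) ∨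
      (∃ (F : Type) (_ : Field F) (_ : Fintype F), Fintype.card F = 3 ∧ (Nonempty (X ≃* Matrix.ProjectiveSpecialLinearGroup (Fin 4) F) ∨
        Nonempty (X ≃* ↥(Cfsg.Lie.chevG2.group F)))) ∨
      Nonempty (X ≃* ↥(alternatingGroup (Fin 8))) ∨
      Nonempty (X ≃* ↥(alternatingGroup (Fin 9))) ∨
      Cfsg.Spor.IsoM12 X ∨ Cfsg.Spor.IsoJ2 X ∨ Cfsg.Spor.IsoJ3 X) : IsKnownSimple' X := by
  rcases h with ⟨F, _, _, hF, f | f⟩ | ⟨F, _, _, hF, f⟩ | ⟨F, i, j, hF, f | f⟩ | f | f | h | h | h
  · exact known_u3 le_rfl (by rw [hF]; norm_num) f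
  · exact known_u le_rfl (by rw [hF]; norm_num) f
  · exact known_u le_rfl (by rw [hF]; norm_num) f
  · exact known_l (by norm_num) f
  · exact known_exc (Or.inl ⟨F, i, j, by omega, f⟩)
  · exact known_alt 8 (by norm_num) f
  · exact known_alt 9 (by norm_num) f
  · exact known_spor (by simp only [IsSporadicGroup]; tauto)
  · exact known_spor (by simp only [IsSporadicGroup]; tauto)
  · exact known_spor (by simp only [IsSporadicGroup]; tauto)

/-- The conclusion of S1762 is on the list. -/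
theorem known_1762 (h : (∃ (F : Type) (_ : Field F) (_ : Fintype F), Fintype.card F = 2 ∧ Nonempty (G ≃* Matrix.ProjectiveSpecialLinearGroup (Fin 5) F)) ∨
      (∃ (F : Type) (_ : Field F) (_ : Fintype F), Fintype.card F = 4 ∧ Nonempty (G ≃* Cfsg.PSU 5 F 2)) ∨
      Cfsg.Spor.IsoM24 G ∨ Cfsg.Spor.IsoHe G ∨ Cfsg.Spor.IsoSuz G) : IsKnownSimple' G := by
  rcases h with ⟨F, _, _, -, f⟩ | ⟨F, _, _, hF, f⟩ | h
  · exact known_l (by norm_num) f
  · exact known_u (by norm_num) (by rw [hF]; norm_num) f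
  · exact known_spor (by simp only [IsSporadicGroup]; tauto)

/-- The conclusion of S1763 is on the list. -/
theorem known_1763 (h : (∃ (F : Type) (_ : Field F) (_ : Fintype F), Fintype.card F = 2 ∧ (Nonempty (G ≃* Matrix.ProjectiveSpecialLinearGroup (Fin 6) F) ∨
        Nonempty (G ≃* Cfsg.POmega F (Cfsg.quadFormPlus 4 F)) ∨
        (∃ a b : F, (∀ z₁ z₂ : F, z₁ ^ 2 + a * z₁ * z₂ + b * z₂ ^ 2 = 0 → z₁ = 0 ∧ z₂ = 0) ∧
          Nonempty (G ≃* Cfsg.POmega F (Cfsg.quadFormMinus 3 F a b))))) ∨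
      (∃ (F : Type) (_ : Field F) (_ : Fintype F), Fintype.card F = 4 ∧ Nonempty (G ≃* Cfsg.PSU 6 F 2)) ∨
      (∃ (K : Type) (_ : Field K) (_ : Fintype K), Fintype.card K = 8 ∧ Nonempty (G ≃* ↥(Cfsg.Lie.twistedD4 K 2))) ∨
      (∃ (F : Type) (_ : Field F) (_ : Fintype F), Fintype.card F = 3 ∧ Nonempty (G ≃* Cfsg.POmega F (Cfsg.quadFormPlus 4 F))) ∨
      Cfsg.Spor.IsoCo1 G ∨ Cfsg.Spor.IsoCo2 G ∨ Cfsg.Spor.IsoTh G ∨ Cfsg.Spor.IsoHN G) : IsKnownSimple' G := by
  rcases h with ⟨F, i, j, -, f | f | ⟨a, b, hab, f⟩⟩ | ⟨F, _, _, hF, f⟩ | ⟨K, i, j, hK, f⟩ | ⟨F, i, j, -, f⟩ | h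
  · exact known_l (by norm_num) f
  · exact known_poPlus ⟨F, i, j, 4, le_rfl, f⟩
  · exact known_poMinus ⟨F, i, j, 4, a, b, le_rfl, hab, f⟩
  · exact known_u (by norm_num) (by rw [hF]; norm_num) f
  · exact known_3d4 (r := 1) le_rfl (by rw [hK]; norm_num) (by simpa using f)
  · exact known_poPlus ⟨F, i, j, 4, le_rfl, f⟩
  · exact known_spor (by simp only [IsSporadicGroup]; tauto)

/-! ## Simple groups -/

theorem center_eq_bot [IsSimpleGroup G] (hna : ¬ IsMulCommutative G) : center G = ⊥ := by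
  rcases (inferInstance : (center G).Normal).eq_bot_or_eq_top with h1 | h1
  · exact h1
  · exfalso
    refine hna ⟨⟨fun a b => ?_⟩⟩
    exact mem_center_iff.mp (h1 ▸ mem_top b : b ∈ center G) a

theorem quasisimple [IsSimpleGroup G] (hna : ¬ IsMulCommutative G) : IsQuasisimple G := by
  have hc := center_eq_bot hna
  refine ⟨?_, ?_⟩
  · have h1 : commutator G = ⊤ := by
      rcases (inferInstance : (commutator G).Normal).eq_bot_or_eq_top with h1 | h1
      · exfalso
        refine hna ⟨⟨fun a b => ?_⟩⟩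
        rw [commutator_def, Subgroup.commutator_eq_bot_iff_le_centralizer] at h1
        exact (mem_centralizer_iff.mp (h1 (mem_top a)) b (mem_top b)).symm
      · exact h1
    exact ⟨h1⟩
  · have e : G ≃* G ⧸ center G :=
      (QuotientGroup.quotientBot.symm).trans (QuotientGroup.quotientMulEquivOfEq hc.symm)
    exact OddHalf.Known.isSimple_congr e inferInstance

theorem not_comm_congr {X Y : Type*} [Group X] [Group Y] (e : X ≃* Y) (h : ¬ IsMulCommutative X) :
    ¬ IsMulCommutative Y := by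
  intro h1
  apply h
  refine ⟨⟨fun a b => ?_⟩⟩
  apply e.injective
  rw [map_mul, map_mul]
  exact h1.is_comm.comm _ _

/-- The generalized Fitting subgroup of a non-abelian simple group is the group. -/
theorem genFitting_eq_top [IsSimpleGroup G] (hna : ¬ IsMulCommutative G) :
    generalizedFittingSubgroup G = ⊤ := by
  have e : G ≃* ↥(⊤ : Subgroup G) := Subgroup.topEquiv.symm
  have : IsSimpleGroup ↥(⊤ : Subgroup G) := OddHalf.Known.isSimple_congr e inferInstance
  have h1 : IsComponent (⊤ : Subgroup G) :=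
    ⟨Subgroup.IsSubnormal.top, quasisimple (not_comm_congr e hna)⟩
  have h2 : (⊤ : Subgroup G) ≤ layer G := le_sSup h1
  rw [eq_top_iff]
  exact h2.trans le_sup_left

/-- S1759 for simple groups. -/
theorem known_of_1759 (h59 : St1759.{u}) [Finite G] [IsSimpleGroup G] (hna : ¬ IsMulCommutative G) {z : G}
    (hz : orderOf z = 2)
    (hQ : IsOfSymplecticType ↥(generalizedFittingSubgroup ↥(centralizer ({z} : Set G))))
    (hE : IsExtraspecial 2 ↥(generalizedFittingSubgroup ↥(centralizer ({z} : Set G))))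
    (hc : Nat.card ↥(generalizedFittingSubgroup ↥(centralizer ({z} : Set G))) = 32) :
    IsKnownSimple' G := by
  have h1 := genFitting_eq_top hna
  have e : ↥(generalizedFittingSubgroup G) ≃* G := (MulEquiv.subgroupCongr h1).trans Subgroup.topEquiv
  have hs : IsSimpleGroup ↥(generalizedFittingSubgroup G) :=
    OddHalf.Known.isSimple_congr e.symm inferInstance
  have hn := not_comm_congr e.symm hna
  exact OddHalf.Known.isKnownSimple'_congr e hn (known_1759 (h59 G z hz hQ hE hc hs hn))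

/-! ## Characteristic 2 type -/

theorem normalizer_zpowers_eq {z : G} (hz : orderOf z = 2) :
    Subgroup.normalizer ((zpowers z : Subgroup G) : Set G) = centralizer ({z} : Set G) := by
  have hz2 : z * z = 1 := by rw [← pow_two, ← hz]; exact pow_orderOf_eq_one z
  have hz1 : z ≠ 1 := by
    rintro rfl
    rw [orderOf_one] at hz
    omega
  have hmem : ∀ x : G, x ∈ zpowers z ↔ x = 1 ∨ x = z := by
    intro x
    constructor
    · rintro ⟨k, rfl⟩
      dsimp only
      rcases Int.even_or_odd' k with ⟨m, rfl | rfl⟩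
      · left
        rw [zpow_mul]
        have : z ^ (2 : ℤ) = 1 := by rw [zpow_ofNat, pow_two, hz2]
        rw [this, one_zpow]
      · right
        rw [zpow_add, zpow_mul]
        have : z ^ (2 : ℤ) = 1 := by rw [zpow_ofNat, pow_two, hz2]
        rw [this, one_zpow, one_mul, zpow_one]
    · rintro (rfl | rfl)
      · exact one_mem _
      · exact mem_zpowers _
  ext g
  rw [mem_centralizer_singleton_iff, Subgroup.mem_normalizer_iff]
  constructor
  · intro h
    have h1 := (h z).1 (mem_zpowers z)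
    rcases (hmem _).1 h1 with h2 | h2
    · exfalso
      apply hz1
      have : z = g⁻¹ * (g * z * g⁻¹) * g := by group
      rw [this, h2]
      group
    · exact (mul_inv_eq_iff_eq_mul.1 h2)
  · intro h x
    rw [hmem, hmem]
    constructor
    · rintro (rfl | rfl)
      · left; group
      · right; rw [h]; group
    · rintro (h1 | h1)
      · left
        have : x = g⁻¹ * (g * x * g⁻¹) * g := by group
        rw [this, h1]; group
      · right
        have : x = g⁻¹ * (g * x * g⁻¹) * g := by group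
        rw [this, h1, mul_assoc, ← h]; group

/-- The centralizer of an involution in a group of characteristic 2 type. -/
theorem char2_centralizer (h2 : IsCharacteristicTwoType G) {z : G} (hz : orderOf z = 2) :
    IsOfCharacteristicTwo ↥(centralizer ({z} : Set G)) := by
  have h1 : IsPGroup 2 ↥(zpowers z) := by
    apply IsPGroup.of_card (n := 1)
    rw [Nat.card_zpowers, hz, pow_one]
  have h3 : (zpowers z : Subgroup G) ≠ ⊥ := by
    intro h
    rw [zpowers_eq_bot] at h
    rw [h, orderOf_one] at hz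
    omega
  have h4 := h2.2 (zpowers z) h1 h3
  rwa [normalizer_zpowers_eq hz] at h4

/-- `F*(C_G(z)) = O₂(C_G(z))`. -/
theorem genFitting_centralizer [Finite G] (h2 : IsCharacteristicTwoType G) {z : G} (hz : orderOf z = 2) :
    generalizedFittingSubgroup ↥(centralizer ({z} : Set G)) = pCore 2 ↥(centralizer ({z} : Set G)) := by
  have : Fact (Nat.Prime 2) := ⟨Nat.prime_two⟩
  exact SignalizersComponents.CharP.genFitting_eq_pCore_iff.2 (char2_centralizer h2 hz)

/-- **Large extraspecial involution centralizer**: `O₂(C_G(z))` is extraspecial of order `2^(2n+1)`. -/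
structure Extra (z : G) (n : ℕ) : Prop where
  ord : orderOf z = 2
  ext : IsExtraspecial 2 ↥(pCore 2 ↥(centralizer ({z} : Set G)))
  card : Nat.card ↥(pCore 2 ↥(centralizer ({z} : Set G))) = 2 ^ (2 * n + 1)

section Extra

variable [Finite G] (h2 : IsCharacteristicTwoType G) {z : G} {n : ℕ}

include h2

theorem Extra.hE (h : Extra z n) :
    IsExtraspecial 2 ↥(generalizedFittingSubgroup ↥(centralizer ({z} : Set G))) := by
  rw [genFitting_centralizer h2 h.ord]
  exact h.ext

theorem Extra.hcard (h : Extra z n) :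
    Nat.card ↥(generalizedFittingSubgroup ↥(centralizer ({z} : Set G))) = 2 ^ (2 * n + 1) := by
  rw [genFitting_centralizer h2 h.ord]
  exact h.card

theorem Extra.hQ (h : Extra z n) (hn : 2 ≤ n) :
    IsOfSymplecticType ↥(generalizedFittingSubgroup ↥(centralizer ({z} : Set G))) := by
  apply GH.C2Extra.isOfSymplecticType (h.hE h2)
  rw [h.hcard h2]
  calc 8 < 2 ^ (2 * 2 + 1) := by norm_num
    _ ≤ 2 ^ (2 * n + 1) := Nat.pow_le_pow_right (by norm_num) (by omega)

/-- Exit `n = 2` (S1759). -/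
theorem Extra.known_two [IsSimpleGroup G] (hna : ¬ IsMulCommutative G) (h59 : St1759.{u}) (h : Extra z 2) :
    IsKnownSimple' G :=
  known_of_1759 h59 hna h.ord (h.hQ h2 le_rfl) (h.hE h2) (by rw [h.hcard h2]; norm_num)

/-- Exit `n = 3` (S1762). -/
theorem Extra.known_three [IsSimpleGroup G] (hna : ¬ IsMulCommutative G) (h62 : St1762.{u}) (h : Extra z 3) :
    IsKnownSimple' G :=
  known_1762 (h62 G hna z h.ord (h.hQ h2 (by norm_num)) (h.hE h2) (by rw [h.hcard h2]))

/-- Exit `n = 4` (S1763). -/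
theorem Extra.known_four [IsSimpleGroup G] (hna : ¬ IsMulCommutative G) (h63 : St1763.{u}) (h : Extra z 4) :
    IsKnownSimple' G :=
  known_1763 (h63 G hna z h.ord (h.hQ h2 (by norm_num)) (h.hE h2) (by rw [h.hcard h2]))

/-- `C_G(z)` acts irreducibly on `O₂(C_G(z))/⟨z⟩` (the third alternative of S1761). -/
def Irr (z : G) : Prop :=
  ∀ A : Subgroup ↥(centralizer ({z} : Set G)), A.Normal →
    zpowers (⟨z, mem_centralizer_singleton_iff.mpr rfl⟩ : ↥(centralizer ({z} : Set G))) ≤ A →
    A ≤ pCore 2 ↥(centralizer ({z} : Set G)) →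
    A = zpowers (⟨z, mem_centralizer_singleton_iff.mpr rfl⟩ : ↥(centralizer ({z} : Set G))) ∨
      A = pCore 2 ↥(centralizer ({z} : Set G))

/-- Exit `n ≥ 3` (S1761): known, or irreducible action. -/
theorem Extra.known_or_irr [IsSimpleGroup G] (h61 : St1761.{u}) (h : Extra z n) (hn : 3 ≤ n) :
    IsKnownSimple' G ∨ Irr z := by
  rcases h61 G z h.ord (h.hQ h2 (by omega)) (h.hE h2) n hn (h.hcard h2) with ⟨F, _, _, -, f⟩ | ⟨-, h1⟩ | h1
  · exact Or.inl (known_l (by omega) f)
  · left
    exact known_spor (by simp only [IsSporadicGroup]; tauto)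
  · right
    rw [genFitting_centralizer h2 h.ord] at h1
    exact h1

end Extra

/-! ## Sectional rank and order -/

/-- A group of sectional 2-rank at least 5 has order divisible by 32. -/
theorem dvd_card [Finite G] (h : ¬ SectionalPRankLE 2 4 G) : 32 ∣ Nat.card G := by
  have : Fact (Nat.Prime 2) := ⟨Nat.prime_two⟩
  simp only [SectionalPRankLE, PRankLE, not_forall, not_le] at h
  obtain ⟨H, N, _, A, -, hA, hc⟩ := h
  have h1 : IsPGroup 2 ↥A := by
    intro a
    exact ⟨1, by rw [pow_one]; exact Subtype.ext (hA _ a.2)⟩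
  obtain ⟨k, hk⟩ := IsPGroup.iff_card.1 h1
  have h5 : 5 ≤ k := by
    by_contra hlt
    have : 2 ^ k ≤ 2 ^ 4 := Nat.pow_le_pow_right (by norm_num) (by omega)
    omega
  have h2 : 32 ∣ Nat.card ↥A := by
    rw [hk]
    exact (pow_dvd_pow 2 h5 : 2 ^ 5 ∣ 2 ^ k)
  refine h2.trans ((Subgroup.card_subgroup_dvd_card A).trans ?_)
  exact (Subgroup.card_quotient_dvd_card N).trans (Subgroup.card_subgroup_dvd_card H)

end Cfsg.Agent.Omega.Exits

end

section


/-!
# The node "`F*(C_G(z))` is of symplectic type" (project OMEGA, shared by II.a, II.b, NO-1', `q = 2`)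

`G` as in `Ctx G` (simple, K-proper, characteristic 2 type, sectional 2-rank at least 5), `z` an involution.

* `NodeSympl` : `F*(C_G(z))` of symplectic type implies that `G` is known (this is what the nodes with `q = 2` deliver);
* `NodeExtra` : the same for `O₂(C_G(z))` extraspecial (`Exits.Extra z n`);
* `LeafWC` : `n ≥ 5`, `C_G(z)` irreducible on `Q/⟨z⟩`, `z` weakly closed in `Q` (WCN + S0480);
* `LeafEH3` : `n ≥ 5`, irreducible, `z` not weakly closed in `Q` (EH3);
* `nodeExtra`, `nodeSympl`: S1758, S1759, S1761, S1762, S1763 and the two leaves imply the nodes.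
-/

set_option autoImplicit false

namespace Cfsg.Agent.Omega.FrameExtra

open Subgroup Cfsg Cfsg.Agent.ZN Cfsg.Agent.Omega.MinPar Cfsg.Agent.Omega.Frame Cfsg.Agent.Omega.Exits

universe u

section leaves

variable (K : Cls.{u})

/-- `F*(C_G(z))` of symplectic type. -/
def NodeSympl : Prop :=
  ∀ (G : Type u) [Group G] [Finite G], Ctx G → K G → ∀ z : G, orderOf z = 2 →
    IsOfSymplecticType ↥(generalizedFittingSubgroup ↥(centralizer ({z} : Set G))) → IsKnownSimple' G

/-- `O₂(C_G(z))` extraspecial. -/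
def NodeExtra : Prop :=
  ∀ (G : Type u) [Group G] [Finite G], Ctx G → K G → ∀ (z : G) (n : ℕ), Extra z n → IsKnownSimple' G

/-- `n ≥ 5`, irreducible, `z` weakly closed in `O₂(C_G(z))`. -/
def LeafWC : Prop :=
  ∀ (G : Type u) [Group G] [Finite G], Ctx G → K G → ∀ (z : G) (n : ℕ), 5 ≤ n → Extra z n → Irr z →
    (∀ g : G, g * z * g⁻¹ ∈ o2 (centralizer ({z} : Set G)) → g * z * g⁻¹ = z) → IsKnownSimple' G

/-- **EH3**: `n ≥ 5`, irreducible, `z` not weakly closed in `O₂(C_G(z))`. -/
def LeafEH3 : Prop :=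
  ∀ (G : Type u) [Group G] [Finite G], Ctx G → K G → ∀ (z : G) (n : ℕ), 5 ≤ n → Extra z n → Irr z →
    (∃ g : G, g * z * g⁻¹ ∈ o2 (centralizer ({z} : Set G)) ∧ g * z * g⁻¹ ≠ z) → IsKnownSimple' G

end leaves

/-- S1758. -/
def St1758 : Prop :=
  ∀ (G : Type u) [Group G] [Finite G] [IsSimpleGroup G]
    (_ : ¬ IsMulCommutative G) (z : G) (_ : orderOf z = 2) (_ : Cfsg.IsOfSymplecticType ↥(Cfsg.generalizedFittingSubgroup ↥(Subgroup.centralizer ({z} : Set G)))),
    Cfsg.IsExtraspecial 2 ↥(Cfsg.generalizedFittingSubgroup ↥(Subgroup.centralizer ({z} : Set G))) ∨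
      (QuotientGroup.mk' (Cfsg.oddCore G) z ∈ Subgroup.center (G ⧸ Cfsg.oddCore G)) ∨
      (∃ (F : Type) (_ : Field F) (_ : Fintype F), ((∃ n : ℕ, Fintype.card F = 2 ^ n + 1) ∨ (∃ n : ℕ, Fintype.card F + 1 = 2 ^ n)) ∧
        Nonempty (G ≃* Matrix.ProjectiveSpecialLinearGroup (Fin 2) F)) ∨
      Cfsg.Spor.IsoM11 G ∨
      (∃ (F : Type) (_ : Field F) (_ : Fintype F), Fintype.card F = 3 ∧ Nonempty (G ≃* Matrix.ProjectiveSpecialLinearGroup (Fin 3) F)) ∨
      (∃ (F : Type) (_ : Field F) (_ : Fintype F), Fintype.card F = 9 ∧ Nonempty (G ≃* Cfsg.PSU 3 F 3)) ∨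
      Cfsg.Spor.IsoHS G

/-! ### Small extraspecial groups -/

section small

variable {G : Type u} [Group G] [Finite G]

theorem exists_extra {z : G} (h2 : IsCharacteristicTwoType G) (hz : orderOf z = 2)
    (he : IsExtraspecial 2 ↥(generalizedFittingSubgroup ↥(centralizer ({z} : Set G)))) :
    ∃ n : ℕ, 1 ≤ n ∧ Extra z n := by
  have : Fact (Nat.Prime 2) := ⟨Nat.prime_two⟩
  have he' := he
  rw [genFitting_centralizer h2 hz] at he'
  obtain ⟨n, hn1, hn⟩ := Cfsg.Agent.S0095.result he'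
  exact ⟨n, hn1, hz, he', hn⟩

end small

theorem oddCore_eq_bot {G : Type u} [Group G] [Finite G] (hG : Ctx G) {z : G} (hz : orderOf z = 2) :
    oddCore G = ⊥ := by
  have := hG.simple
  rcases (Cfsg.pPrimeCore_normal 2 G).eq_bot_or_eq_top with h | h
  · exact h
  · exfalso
    have h1 := Cfsg.Agent.Lib.Cores.pPrimeCore_coprime (G := G) 2
    rw [h, Subgroup.card_top] at h1
    have h3 := Nat.coprime_two_right.1 h1
    exact (Nat.not_even_iff_odd.2 h3) (even_iff_two_dvd.2 (hz ▸ orderOf_dvd_natCard z))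

theorem card_psl_two_dvd (F : Type) [Field F] [Fintype F] :
    Nat.card (Matrix.ProjectiveSpecialLinearGroup (Fin 2) F) ∣
      (Fintype.card F ^ 2 - 1) * (Fintype.card F ^ 2 - Fintype.card F) := by
  have h1 : Nat.card (Matrix.ProjectiveSpecialLinearGroup (Fin 2) F) ∣
      Nat.card (Matrix.SpecialLinearGroup (Fin 2) F) :=
    Subgroup.card_quotient_dvd_card _
  refine h1.trans ?_
  have h2 : Nat.card (GL (Fin 2) F) = (Fintype.card F ^ 2 - 1) * (Fintype.card F ^ 2 - Fintype.card F) := by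
    have h3 := Matrix.card_GL_field (𝔽 := F) 2
    rw [h3]
    simp [Finset.prod_fin_eq_prod_range, Finset.prod_range_succ]
  rw [← h2]
  exact Subgroup.card_dvd_of_injective (Matrix.SpecialLinearGroup.toGL)
    Matrix.SpecialLinearGroup.toGL_injective

/-- `n = 1` does not occur (`|S| ≤ 16`). -/
def LeafOne : Prop :=
  ∀ (G : Type u) [Group G] [Finite G], Ctx G → ∀ z : G, ¬ Extra z 1

/-! ### The nodes -/

/-- **The node `O₂(C_G(z))` extraspecial.** -/
theorem nodeExtra (h1 : LeafOne.{u}) (h59 : St1759.{u}) (h61 : St1761.{u}) (h62 : St1762.{u}) (h63 : St1763.{u})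
    {K : Cls.{u}} (hW : LeafWC K) (hE : LeafEH3 K) : NodeExtra K := by
  intro G _ _ hG hcl z n h
  have := hG.simple
  have hn1 : 1 ≤ n := by
    obtain ⟨m, hm1, hm⟩ := exists_extra hG.char2 h.ord (h.hE hG.char2)
    have h2 : (2 : ℕ) ^ (2 * n + 1) = 2 ^ (2 * m + 1) := by rw [← h.card, hm.card]
    have h3 := Nat.pow_right_injective (le_refl 2) h2
    omega
  rcases Nat.lt_or_ge n 5 with hn | hn
  · interval_cases n
    · exact absurd h (h1 G hG z)
    · exact h.known_two hG.char2 hG.nonComm h59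
    · exact h.known_three hG.char2 hG.nonComm h62
    · exact h.known_four hG.char2 hG.nonComm h63
  · rcases h.known_or_irr hG.char2 h61 (by omega) with hk | hI
    · exact hk
    · by_cases hw : ∀ g : G, g * z * g⁻¹ ∈ o2 (centralizer ({z} : Set G)) → g * z * g⁻¹ = z
      · exact hW G hG hcl z n hn h hI hw
      · push Not at hw
        exact hE G hG hcl z n hn h hI hw

/-- **The node "`F*(C_G(z))` of symplectic type".** -/
theorem nodeSympl (h58 : St1758.{u}) {K : Cls.{u}} (hX : NodeExtra K) : NodeSympl K := by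
  intro G _ _ hG hcl z hz hQ
  have := hG.simple
  rcases h58 G hG.nonComm z hz hQ with h | h | ⟨F, i, j, hF, e⟩ | h | ⟨F, i, j, hF, e⟩ | ⟨F, i, j, hF, e⟩ | h
  · obtain ⟨n, -, hn⟩ := exists_extra hG.char2 hz h
    exact hX G hG hcl z n hn
  · exfalso
    have hO := oddCore_eq_bot hG hz
    have h1 : z ∈ center G := by
      rw [mem_center_iff] at h ⊢
      intro g
      have h2 := h (QuotientGroup.mk' (oddCore G) g)
      rw [← map_mul, ← map_mul, QuotientGroup.mk'_apply, QuotientGroup.mk'_apply, QuotientGroup.eq, hO,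
        mem_bot, inv_mul_eq_one] at h2
      exact h2
    rw [center_eq_bot hG.nonComm, mem_bot] at h1
    rw [h1, orderOf_one] at hz
    omega
  · obtain ⟨e⟩ := e
    by_cases h4 : 4 ≤ Fintype.card F
    · exact known_l2 h4 ⟨e⟩
    · exfalso
      have h1 := dvd_card hG.rank
      rw [Nat.card_congr e.toEquiv] at h1
      have h2 := h1.trans (card_psl_two_dvd F)
      have h3 : 1 < Fintype.card F := Fintype.one_lt_card
      interval_cases hc : Fintype.card F
      · norm_num at h2
      · norm_num at h2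
  · exact known_spor (by simp only [IsSporadicGroup]; tauto)
  · exact known_l le_rfl e
  · exact known_u3 le_rfl (by rw [hF]; norm_num) e
  · exact known_spor (by simp only [IsSporadicGroup]; tauto)

end Cfsg.Agent.Omega.FrameExtra

end

section


/-!
# The FF theorem, module form

`FFThm.Stmt` has offenders `A ≤ H` which are elementary abelian subgroups of `G`.  Here `A` is only elementary
abelian modulo `C_A(V)`:

* `OffM V A` : `A / C_A(V)` is elementary abelian, `[V, A] ≠ 1`, `|V : C_V(A)| ≤ |A : C_A(V)|`;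
* `NoOverM V H`, `NatKM`, `SymKM`, `ConclM`, `StmtM` : the same for `FFThm.{NoOver, NatK, SymK, Concl, Stmt}`.

* `off_of_AA` : a member of `A(T)` which does not centralise `V ≤ T` is an offender.

`StmtM` follows from `FFThm.Stmt` for the semidirect product `V ⋊ (H / C_H(V))`: there every `A / C_A(V)` is an
elementary abelian subgroup, `O₂ = V` or bigger is self-centralising, `zl = V`.
-/

set_option autoImplicit false

namespace Cfsg.Agent.Omega.FFThm

open Subgroup Cfsg Cfsg.Agent.ZN Cfsg.Agent.ZN.ChoiceBase Cfsg.Agent.ZN.ChoiceSit Cfsg.Agent.Omega.MinPar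
open Cfsg.Agent.Omega.FrameFF Cfsg.Agent.MinSimple.MinParabolic
open Cfsg.Agent.Lib.SL2Mat

universe u

section defs

variable {G : Type u} [Group G]

/-- `A` acts on `V` as an elementary abelian 2-group. -/
structure ElemM (V A : Subgroup G) : Prop where
  sq : ∀ a ∈ A, a ^ 2 ∈ centralizer (V : Set G)
  comm : ∀ a ∈ A, ∀ b ∈ A, a * b * a⁻¹ * b⁻¹ ∈ centralizer (V : Set G)

/-- `A` acts on `V` as an offender. -/
structure OffM (V A : Subgroup G) : Prop extends ElemM V A where
  ne : ¬ A ≤ centralizer (V : Set G)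
  le : Nat.card V * Nat.card ↥(A ⊓ centralizer (V : Set G)) ≤
    Nat.card A * Nat.card ↥(V ⊓ centralizer (A : Set G))

/-- No over-offender. -/
def NoOverM (V H : Subgroup G) : Prop :=
  ∀ A : Subgroup G, A ≤ H → ElemM V A →
    Nat.card A * Nat.card ↥(V ⊓ centralizer (A : Set G)) ≤
      Nat.card V * Nat.card ↥(A ⊓ centralizer (V : Set G))

/-- `NatK`, and every offender in `T` (module form) is a product of full root groups. -/
structure NatKM (F : Type) [Field F] (T H V D : Subgroup G) (k : ℕ) extends NatK F T H V D k where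
  offM : ∀ A : Subgroup G, A ≤ T → OffM V A → ∃ I : Set (Fin k),
    (∀ a ∈ A, ∃ b : Fin k → F, (∀ i, i ∉ I → b i = 0) ∧ ActsSL e V D a fun i => up (b i)) ∧
      ∀ b : Fin k → F, (∀ i, i ∉ I → b i = 0) → ∃ a ∈ A, ActsSL e V D a fun i => up (b i)

/-- `SymK`, and every offender in `T` (module form) is generated by transpositions. -/
structure SymKM (T H V D : Subgroup G) (k m : ℕ) extends SymK T H V D k m where
  offM : ∀ A : Subgroup G, A ≤ T → OffM V A → (∀ a ∈ A, ∀ d ∈ D, a * d = d * a) ∧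
    ∀ a ∈ A, ∃ τ : Fin k → Equiv.Perm (Fin (2 ^ m + 1)), ActsSym e V a 1 τ ∧
      ∀ i x, τ i x ≠ x → τ i (τ i x) = x ∧
        ∃ b ∈ A, ActsSym e V b 1 (Function.update 1 i (Equiv.swap x (τ i x)))

/-- The conclusion of the FF theorem, module form. -/
def ConclM (T H : Subgroup G) : Prop :=
  (∃ (F : Type) (_ : Field F) (_ : Finite F) (_ : CharP F 2) (k : ℕ),
    0 < k ∧ Nonempty (NatKM F T H (zl T H) (cv T H) k)) ∨
  ∃ k m : ℕ, 0 < k ∧ 2 ≤ m ∧ Nonempty (SymKM T H (zl T H) (cv T H) k m)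

end defs

/-- **The FF theorem, module form.** -/
def StmtM : Prop :=
  ∀ (G : Type u) [Group G] [Finite G] (T H : Subgroup G), Syl T H → IsMinPar T H →
    H ⊓ centralizer (o2 H : Set G) ≤ o2 H → (∃ A : Subgroup G, A ≤ H ∧ OffM (zl T H) A) →
      NoOverM (zl T H) H ∧ ConclM T H

section facts

variable {G : Type u} [Group G] {V A : Subgroup G}

theorem ElemM.of_elem (hA : IsElementaryAbelian 2 A) : ElemM V A := by
  obtain ⟨hc, h2⟩ := hA
  refine ⟨fun a ha => ?_, fun a ha b hb => ?_⟩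
  · rw [h2 a ha]; exact one_mem _
  · have h3 : a * b = b * a := congrArg Subtype.val (hc.is_comm.comm ⟨a, ha⟩ ⟨b, hb⟩)
    have h4 : a * b * a⁻¹ * b⁻¹ = 1 := by rw [h3]; group
    rw [h4]; exact one_mem _

theorem Off.offM (h : Off V A) : OffM V A := ⟨ElemM.of_elem h.elem, h.ne, h.le⟩

theorem NoOverM.noOver {H : Subgroup G} (h : NoOverM V H) : NoOver V H :=
  fun A hA hE => h A hA (ElemM.of_elem hE)

/-- `|V| |A ∩ B| ≤ |A| |V ∩ D|` is `|V : V ∩ D| ≤ |A : A ∩ B|`. -/
theorem relIndex_le_iff [Finite G] {V A B D : Subgroup G} :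
    Nat.card V * Nat.card ↥(A ⊓ B) ≤ Nat.card A * Nat.card ↥(V ⊓ D) ↔ D.relIndex V ≤ B.relIndex A := by
  have h1 : D.relIndex V * Nat.card ↥(V ⊓ D) = Nat.card V := by
    have e := relIndex_inf_mul_relIndex (⊥ : Subgroup G) D V
    rw [relIndex_bot_left, bot_inf_eq, relIndex_bot_left, mul_comm, inf_comm] at e
    exact e
  have h2 : B.relIndex A * Nat.card ↥(A ⊓ B) = Nat.card A := by
    have e := relIndex_inf_mul_relIndex (⊥ : Subgroup G) B A
    rw [relIndex_bot_left, bot_inf_eq, relIndex_bot_left, mul_comm, inf_comm] at e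
    exact e
  have h3 : 0 < Nat.card ↥(V ⊓ D) := Nat.card_pos
  have h4 : 0 < Nat.card ↥(A ⊓ B) := Nat.card_pos
  have e1 : Nat.card V * Nat.card ↥(A ⊓ B) =
      D.relIndex V * (Nat.card ↥(V ⊓ D) * Nat.card ↥(A ⊓ B)) := by rw [← h1]; ring
  have e2 : Nat.card A * Nat.card ↥(V ⊓ D) =
      B.relIndex A * (Nat.card ↥(V ⊓ D) * Nat.card ↥(A ⊓ B)) := by rw [← h2]; ring
  rw [e1, e2]
  exact Nat.mul_le_mul_right_iff (Nat.mul_pos h3 h4)

/-- Thompson: a largest elementary abelian subgroup of `T` which does not centralise `V` is an offender. -/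
theorem off_of_AA [Finite G] {V T A : Subgroup G} (hV : IsElementaryAbelian 2 V) (hVT : V ≤ T) (hA : A ∈ AA T)
    (hne : ¬ A ≤ centralizer (V : Set G)) : Off V A where
  elem := hA.1
  ne := hne
  le := by
    have hc : A ⊓ centralizer (V : Set G) ≤ centralizer (V : Set G) := inf_le_right
    have hCe : IsElementaryAbelian 2 (A ⊓ centralizer (V : Set G)) :=
      ⟨⟨⟨fun a b => Subtype.ext (congrArg (fun t : A => (t : G))
        (hA.1.1.is_comm.comm ⟨a, a.2.1⟩ ⟨b, b.2.1⟩))⟩⟩, fun a ha => hA.1.2 a ha.1⟩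
    have h1 := Cfsg.Agent.PLocal.ElemAbSup.isElementaryAbelian_sup hV hCe hc
    have h2 := hA.2.2 _ h1 (sup_le hVT (inf_le_left.trans hA.2.1))
    have h3 := Cfsg.Agent.PLocal.ElemAbSup.card_sup_mul_card_inf hc
    have h4 : Nat.card ↥(V ⊓ (A ⊓ centralizer (V : Set G))) ≤ Nat.card ↥(V ⊓ centralizer (A : Set G)) := by
      refine Subgroup.card_le_of_le (le_inf inf_le_left fun x hx => mem_centralizer_iff.2 fun a ha => ?_)
      exact congrArg (fun t : A => (t : G)) (hA.1.1.is_comm.comm ⟨a, ha⟩ ⟨x, hx.2.1⟩)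
    rw [← h3]
    exact Nat.mul_le_mul h2 h4

end facts

end Cfsg.Agent.Omega.FFThm

end

section


/-!
# OMEGA: `O₂(C_G(z))` extraspecial of order 8 does not occur (`LeafOne`) (helper574)

`card_le`: a 2-group `T` with a normal subgroup `Q` of order 8 whose centralizer has order 2 has order at most 16.
-/

set_option autoImplicit false

namespace Cfsg.Agent.Omega.Node.LeafOne

open Subgroup Cfsg Cfsg.Agent.ZN Cfsg.Agent.Omega.MinPar Cfsg.Agent.Omega.Frame Cfsg.Agent.Omega.Exits

universe u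

/-- A 2-group with a normal subgroup `Q` of order 8 and `C(Q) = {1, z}`. -/
theorem card_le {T : Type*} [Group T] [Finite T] (hT : IsPGroup 2 T) (Q : Subgroup T) [hn : Q.Normal]
    (h8 : Nat.card Q = 8) {z : T} (hz1 : z ≠ 1) (hz : z * z = 1) (hzQ : z ∈ Q) (hzc : ∀ t : T, t * z = z * t)
    (hc : ∀ t : T, (∀ q ∈ Q, t * q = q * t) → t = 1 ∨ t = z) : Nat.card T ≤ 16 := by
  classical
  have hmem : ∀ x : T, x ∈ zpowers z ↔ x = 1 ∨ x = z := by
    intro x
    constructor
    · rintro ⟨m, rfl⟩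
      have h2 : z ^ (2 : ℤ) = 1 := by rw [zpow_two, hz]
      rcases Int.even_or_odd m with ⟨k, rfl⟩ | ⟨k, rfl⟩
      · left
        show z ^ (k + k) = 1
        rw [← two_mul, zpow_mul, h2, one_zpow]
      · right
        show z ^ (2 * k + 1) = z
        rw [zpow_add, zpow_mul, h2, one_zpow, one_mul, zpow_one]
    · rintro (rfl | rfl)
      · exact one_mem _
      · exact mem_zpowers _
  have hZn : (zpowers z).Normal := by
    constructor
    intro x hx g
    rcases (hmem x).1 hx with rfl | rfl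
    · rw [mul_one, mul_inv_cancel]; exact one_mem _
    · rw [hzc, mul_inv_cancel_right]; exact mem_zpowers _
  have hcZ : Nat.card (zpowers z) = 2 := by
    rw [Nat.card_zpowers]; exact orderOf_eq_prime (by rw [pow_two, hz]) hz1
  -- an element `a` of `Q`, central modulo `z`
  have hp : Fact (Nat.Prime 2) := ⟨Nat.prime_two⟩
  have hnil : Group.IsNilpotent (T ⧸ zpowers z) := (hT.to_quotient (zpowers z)).isNilpotent
  have hne : Q.map (QuotientGroup.mk' (zpowers z)) ≠ ⊥ := by
    intro h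
    have h1 : Q ≤ zpowers z := by
      rw [Subgroup.map_eq_bot_iff, QuotientGroup.ker_mk'] at h
      exact h
    have h2 := card_dvd_of_le h1
    rw [h8, hcZ] at h2
    omega
  have hmn : (Q.map (QuotientGroup.mk' (zpowers z))).Normal := hn.map _ (QuotientGroup.mk'_surjective _)
  have hce := Lib.NormalAbelian.normal_inf_center_ne_bot (Q.map (QuotientGroup.mk' (zpowers z))) hne
  obtain ⟨⟨y, hy1, hy2⟩, hy3⟩ := Subgroup.ne_bot_iff_exists_ne_one.1 hce
  obtain ⟨a, haQ, hay⟩ := hy1
  have ha0 : a ∉ zpowers z := by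
    intro h
    apply hy3
    apply Subtype.ext
    show y = 1
    rw [← hay]
    exact (QuotientGroup.eq_one_iff a).2 h
  have haz : ∀ t : T, t * a * t⁻¹ = a ∨ t * a * t⁻¹ = a * z := by
    intro t
    have h1 := mem_center_iff.1 hy2 (QuotientGroup.mk' (zpowers z) t)
    rw [← hay, ← map_mul, ← map_mul, QuotientGroup.mk'_apply, QuotientGroup.mk'_apply, QuotientGroup.eq] at h1
    rcases (hmem _).1 h1 with h2 | h2
    · left
      have h3 : a * t = t * a := (inv_mul_eq_one.1 h2).symm
      rw [← h3, mul_inv_cancel_right]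
    · right
      have h3 : a * t = t * a * z := by rw [← h2]; group
      have h4 : t * a = a * t * z := by rw [h3, mul_assoc, hz, mul_one]
      rw [h4, mul_assoc, ← hzc t⁻¹, ← mul_assoc, mul_inv_cancel_right]
  -- `b` does not commute with `a`
  obtain ⟨b, hbQ, hab⟩ : ∃ b ∈ Q, a * b ≠ b * a := by
    by_contra hcon
    push Not at hcon
    exact ha0 ((hmem a).2 (hc a hcon))
  have ha1 : a ≠ 1 := fun h => ha0 (by rw [h]; exact one_mem _)
  have haz1 : a ≠ z := fun h => ha0 (by rw [h]; exact mem_zpowers _)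
  -- a subgroup of `Q` with more than 4 elements is `Q`
  have hbig : ∀ K : Subgroup T, K ≤ Q → 4 < Nat.card K → K = Q := by
    intro K hK h4
    have h1 := card_dvd_of_le hK
    rw [h8] at h1
    apply eq_of_le_of_card_ge hK
    rw [h8]
    have h2 : Nat.card K ≤ 8 := Nat.le_of_dvd (by norm_num) h1
    interval_cases Nat.card K <;> omega
  -- `C(a) ∩ C(b) = {1, z}`
  have hCab : ∀ t : T, t * a = a * t → t * b = b * t → t = 1 ∨ t = z := by
    intro t hta htb
    apply hc
    have h1 : (centralizer ({t} : Set T)) ⊓ Q = Q := by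
      apply hbig _ inf_le_right
      have hs : ((({1, z, a, a * z, b} : Finset T) : Finset T) : Set T) ⊆
          (((centralizer ({t} : Set T)) ⊓ Q : Subgroup T) : Set T) := by
        intro x hx
        simp only [Finset.coe_insert, Finset.coe_singleton, Set.mem_insert_iff, Set.mem_singleton_iff] at hx
        refine ⟨mem_centralizer_singleton_iff.2 ?_, ?_⟩
        · rcases hx with rfl | rfl | rfl | rfl | rfl
          · rw [one_mul, mul_one]
          · exact (hzc t).symm
          · exact hta.symm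
          · rw [mul_assoc, ← hzc t, ← mul_assoc, ← hta, mul_assoc]
          · exact htb.symm
        · rcases hx with rfl | rfl | rfl | rfl | rfl
          · exact one_mem _
          · exact hzQ
          · exact haQ
          · exact mul_mem haQ hzQ
          · exact hbQ
      have h5 : ({1, z, a, a * z, b} : Finset T).card = 5 := by
        have hb1 : b ≠ 1 := fun h => hab (by rw [h, mul_one, one_mul])
        have hbz : b ≠ z := fun h => hab (by rw [h, hzc])
        have hba : b ≠ a := fun h => hab (by rw [h])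
        have hbaz : b ≠ a * z := fun h => hab (by rw [h, mul_assoc, ← hzc a])
        have e1 : a ≠ a * z := fun h => hz1 (mul_eq_left.1 h.symm)
        have e2 : a * z ≠ 1 := fun h => haz1 (by rw [eq_inv_of_mul_eq_one_left h]; exact inv_eq_of_mul_eq_one_left hz)
        have e3 : a * z ≠ z := fun h => ha1 (mul_eq_right.1 h)
        rw [Finset.card_insert_of_notMem, Finset.card_insert_of_notMem, Finset.card_insert_of_notMem,
          Finset.card_insert_of_notMem, Finset.card_singleton]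
        · simp only [Finset.mem_singleton]; exact hbaz.symm
        · simp only [Finset.mem_insert, Finset.mem_singleton, not_or]; exact ⟨e1, hba.symm⟩
        · simp only [Finset.mem_insert, Finset.mem_singleton, not_or]; exact ⟨haz1.symm, e3.symm, hbz.symm⟩
        · simp only [Finset.mem_insert, Finset.mem_singleton, not_or]
          exact ⟨hz1.symm, ha1.symm, e2.symm, hb1.symm⟩
      have h6 := Set.ncard_le_ncard hs (Set.toFinite _)
      rw [Set.ncard_coe_finset, h5] at h6
      exact h6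
    intro q hq
    rw [← h1] at hq
    exact (mem_centralizer_singleton_iff.1 hq.1).symm
  -- the map
  have hS1 : Nat.card {x : T // x = a ∨ x = a * z} ≤ 2 := by
    have hs : {x : T | x = a ∨ x = a * z} ⊆ (({a, a * z} : Finset T) : Set T) := by
      intro x hx
      simpa using hx
    have := Set.ncard_le_ncard hs (Finset.finite_toSet _)
    rw [Set.ncard_coe_finset] at this
    exact this.trans Finset.card_le_two
  have hS2 : Nat.card {x : T // x ∈ Q ∧ x * a ≠ a * x} ≤ 4 := by
    have h4 : 4 ≤ Nat.card ((centralizer ({a} : Set T)) ⊓ Q : Subgroup T) := by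
      have hs : ((({1, z, a, a * z} : Finset T) : Finset T) : Set T) ⊆
          (((centralizer ({a} : Set T)) ⊓ Q : Subgroup T) : Set T) := by
        intro x hx
        simp only [Finset.coe_insert, Finset.coe_singleton, Set.mem_insert_iff, Set.mem_singleton_iff] at hx
        refine ⟨mem_centralizer_singleton_iff.2 ?_, ?_⟩
        · rcases hx with rfl | rfl | rfl | rfl
          · rw [one_mul, mul_one]
          · exact (hzc a).symm
          · rfl
          · rw [mul_assoc, ← hzc a]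
        · rcases hx with rfl | rfl | rfl | rfl
          · exact one_mem _
          · exact hzQ
          · exact haQ
          · exact mul_mem haQ hzQ
      have e1 : a ≠ a * z := fun h => hz1 (mul_eq_left.1 h.symm)
      have e2 : a * z ≠ 1 := fun h => haz1 (by rw [eq_inv_of_mul_eq_one_left h]; exact inv_eq_of_mul_eq_one_left hz)
      have e3 : a * z ≠ z := fun h => ha1 (mul_eq_right.1 h)
      have h5 : ({1, z, a, a * z} : Finset T).card = 4 := by
        rw [Finset.card_insert_of_notMem, Finset.card_insert_of_notMem, Finset.card_insert_of_notMem,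
          Finset.card_singleton]
        · simp only [Finset.mem_singleton]; exact e1
        · simp only [Finset.mem_insert, Finset.mem_singleton, not_or]; exact ⟨haz1.symm, e3.symm⟩
        · simp only [Finset.mem_insert, Finset.mem_singleton, not_or]
          exact ⟨hz1.symm, ha1.symm, e2.symm⟩
      have h6 := Set.ncard_le_ncard hs (Set.toFinite _)
      rw [Set.ncard_coe_finset, h5] at h6
      exact h6
    have h5 : Nat.card {x : T // x ∈ Q ∧ x * a ≠ a * x} +
        Nat.card ((centralizer ({a} : Set T)) ⊓ Q : Subgroup T) = Nat.card Q := by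
      have e1 : Nat.card {x : T // x ∈ Q ∧ x * a ≠ a * x} = ((Q : Set T) \ ((centralizer ({a} : Set T) ⊓ Q : Subgroup T) : Set T)).ncard := by
        show {x : T | x ∈ Q ∧ x * a ≠ a * x}.ncard = _
        congr 1
        ext x
        simp only [Set.mem_ofPred_eq, Set.mem_sdiff, SetLike.mem_coe, mem_inf, mem_centralizer_singleton_iff]
        tauto
      rw [e1]
      exact Set.ncard_sdiff_add_ncard_of_subset (by intro x hx; exact hx.2) (Set.toFinite _)
    omega
  have hconj : ∀ t : T, t * b * t⁻¹ ∈ Q ∧ (t * b * t⁻¹) * a ≠ a * (t * b * t⁻¹) := by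
    intro t
    refine ⟨hn.conj_mem b hbQ t, ?_⟩
    intro h
    apply hab
    have h1 : (t * b * t⁻¹) * (t * a * t⁻¹) = (t * a * t⁻¹) * (t * b * t⁻¹) := by
      rcases haz t with h2 | h2
      · rw [h2, h]
      · rw [h2, ← mul_assoc, h, mul_assoc a, mul_assoc a, hzc]
    have h2 : t * (b * a) * t⁻¹ = t * (a * b) * t⁻¹ := by
      calc t * (b * a) * t⁻¹ = (t * b * t⁻¹) * (t * a * t⁻¹) := by group
        _ = (t * a * t⁻¹) * (t * b * t⁻¹) := h1
        _ = t * (a * b) * t⁻¹ := by group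
    exact (mul_left_cancel (mul_right_cancel h2)).symm
  let F : (T ⧸ zpowers z) → {x : T // x = a ∨ x = a * z} × {x : T // x ∈ Q ∧ x * a ≠ a * x} := fun q =>
    (⟨q.out * a * q.out⁻¹, haz _⟩, ⟨q.out * b * q.out⁻¹, hconj _⟩)
  have hF : Function.Injective F := by
    intro p q hpq
    have h1 : p.out * a * p.out⁻¹ = q.out * a * q.out⁻¹ := congrArg (fun r => (r.1 : T)) hpq
    have h2 : p.out * b * p.out⁻¹ = q.out * b * q.out⁻¹ := congrArg (fun r => (r.2 : T)) hpq
    have key : ∀ x : T, p.out * x * p.out⁻¹ = q.out * x * q.out⁻¹ → (p.out⁻¹ * q.out) * x = x * (p.out⁻¹ * q.out) := by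
      intro x hx
      calc (p.out⁻¹ * q.out) * x = p.out⁻¹ * (q.out * x * q.out⁻¹) * q.out := by group
        _ = p.out⁻¹ * (p.out * x * p.out⁻¹) * q.out := by rw [hx]
        _ = x * (p.out⁻¹ * q.out) := by group
    have h3 := hCab _ (key a h1) (key b h2)
    rw [← hmem, ← QuotientGroup.eq] at h3
    rwa [QuotientGroup.out_eq', QuotientGroup.out_eq'] at h3
  have h1 := Nat.card_le_card_of_injective F hF
  rw [Nat.card_prod] at h1
  have h2 := card_eq_card_quotient_mul_card_subgroup (zpowers z)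
  rw [hcZ] at h2
  have h3 : Nat.card {x : T // x = a ∨ x = a * z} * Nat.card {x : T // x ∈ Q ∧ x * a ≠ a * x} ≤ 2 * 4 :=
    Nat.mul_le_mul hS1 hS2
  omega

/-- **`LeafOne`**: `O₂(C_G(z))` is not extraspecial of order 8. -/
theorem leafOne : FrameExtra.LeafOne.{u} := by
  intro G _ _ hG z h
  have hp : Fact (Nat.Prime 2) := ⟨Nat.prime_two⟩
  have hzz : z * z = 1 := by rw [← pow_two, ← h.ord, pow_orderOf_eq_one]
  have hz1 : z ≠ 1 := by
    intro h0
    have := h.ord
    rw [h0, orderOf_one] at this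
    omega
  have hchar : centralizer (pCore 2 ↥(centralizer ({z} : Set G)) : Set ↥(centralizer ({z} : Set G))) ≤
      pCore 2 ↥(centralizer ({z} : Set G)) := char2_centralizer hG.char2 h.ord
  have hct := Cfsg.Agent.Transfer.ExtraspecialTwo.centralTwo_of_isExtraspecial h.ext
  set zC : ↥(centralizer ({z} : Set G)) := ⟨z, mem_centralizer_singleton_iff.2 rfl⟩ with hzC
  have hzC1 : zC ≠ 1 := fun h0 => hz1 (congrArg Subtype.val h0)
  have hcomm : ∀ c : ↥(centralizer ({z} : Set G)), c * zC = zC * c := fun c =>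
    Subtype.ext (mem_centralizer_singleton_iff.1 c.2)
  have hzmem : zC ∈ pCore 2 ↥(centralizer ({z} : Set G)) :=
    hchar (mem_centralizer_iff.2 fun q _ => hcomm q)
  have hcen : ∀ t : ↥(centralizer ({z} : Set G)),
      (∀ q ∈ pCore 2 ↥(centralizer ({z} : Set G)), t * q = q * t) → t = 1 ∨ t = zC := by
    intro t ht
    have h1 : t ∈ pCore 2 ↥(centralizer ({z} : Set G)) :=
      hchar (mem_centralizer_iff.2 fun q hq => (ht q hq).symm)
    by_cases h0 : t = 1
    · exact Or.inl h0
    · right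
      have h2 := hct.eq_of_ne_one (a := ⟨t, h1⟩) (b := ⟨zC, hzmem⟩)
        (mem_center_iff.2 fun q => Subtype.ext (ht q q.2).symm)
        (mem_center_iff.2 fun q => Subtype.ext (hcomm q))
        (fun h3 => h0 (congrArg Subtype.val h3)) (fun h3 => hzC1 (congrArg Subtype.val h3))
      exact congrArg Subtype.val h2
  -- the Sylow subgroup
  have hQ2 : IsPGroup 2 ↥(o2 (centralizer ({z} : Set G))) := Cfsg.Agent.Lib.LocalCore.isPGroup_map_pCore 2 _
  obtain ⟨S, hS⟩ := hQ2.exists_le_sylow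
  have hzQ : z ∈ o2 (centralizer ({z} : Set G)) := ⟨zC, hzmem, rfl⟩
  have hlift : ∀ w : G, w * z = z * w → (∀ q ∈ o2 (centralizer ({z} : Set G)), w * q = q * w) → w = 1 ∨ w = z := by
    intro w hwz hw
    rcases hcen ⟨w, mem_centralizer_singleton_iff.2 hwz⟩ (fun q hq => Subtype.ext (hw q ⟨q, hq, rfl⟩)) with h1 | h1
    · exact Or.inl (congrArg Subtype.val h1)
    · exact Or.inr (congrArg Subtype.val h1)
  have hnt : Nontrivial ↥S := ⟨⟨⟨z, hS hzQ⟩, 1, fun h0 => hz1 (congrArg Subtype.val h0)⟩⟩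
  have hcnt : Nontrivial ↥(center ↥S) := S.isPGroup'.center_nontrivial
  obtain ⟨⟨w, hwc⟩, hw1⟩ := exists_ne (1 : ↥(center ↥S))
  have hwS : ∀ s ∈ S, (w : G) * s = s * w := fun s hs =>
    (congrArg Subtype.val (mem_center_iff.1 hwc ⟨s, hs⟩)).symm
  have hwz : (w : G) = z := by
    rcases hlift w (hwS z (hS hzQ)) (fun q hq => hwS q (hS hq)) with h1 | h1
    · exact absurd (Subtype.ext (Subtype.ext h1)) hw1
    · exact h1
  have hzS : ∀ s ∈ S, s * z = z * s := by
    intro s hs
    have := hwS s hs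
    rw [hwz] at this
    exact this.symm
  -- the bound
  have hn : ((o2 (centralizer ({z} : Set G))).subgroupOf (S : Subgroup G)).Normal := by
    constructor
    intro q hq s
    rw [mem_subgroupOf] at hq ⊢
    obtain ⟨q0, hq0, hq1⟩ := hq
    have hs : (s : G) ∈ centralizer ({z} : Set G) := mem_centralizer_singleton_iff.2 (hzS s s.2)
    refine ⟨(⟨s, hs⟩ : ↥(centralizer ({z} : Set G))) * q0 * (⟨s, hs⟩ : ↥(centralizer ({z} : Set G)))⁻¹,
      (Cfsg.Agent.Lib.Cores.pCore_normal 2).conj_mem q0 hq0 _, ?_⟩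
    show (s : G) * (q0 : G) * (s : G)⁻¹ = (s : G) * (q : G) * (s : G)⁻¹
    have h2 : (q0 : G) = (q : G) := hq1
    rw [h2]
  have h8 : Nat.card ↥((o2 (centralizer ({z} : Set G))).subgroupOf (S : Subgroup G)) = 8 := by
    rw [Nat.card_congr (subgroupOfEquivOfLe hS).toEquiv, o2,
      ← Nat.card_congr (equivMapOfInjective _ _ (subtype_injective _)).toEquiv, h.card]
    norm_num
  have h1 := card_le (T := ↥S) S.isPGroup' ((o2 (centralizer ({z} : Set G))).subgroupOf (S : Subgroup G)) h8
    (z := ⟨z, hS hzQ⟩) (fun h0 => hz1 (congrArg Subtype.val h0)) (Subtype.ext hzz)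
    (mem_subgroupOf.2 hzQ) (fun t => Subtype.ext (hzS t t.2)) (by
      intro t ht
      rcases hlift t (hzS t t.2) (fun q hq =>
        congrArg Subtype.val (ht ⟨q, hS hq⟩ (mem_subgroupOf.2 hq))) with h2 | h2
      · exact Or.inl (Subtype.ext h2)
      · exact Or.inr (Subtype.ext h2))
  have h2 : (2 : ℕ) ^ 5 ∣ Nat.card G := dvd_card hG.rank
  have h3 : (2 : ℕ) ^ 5 ∣ Nat.card ↥S := S.pow_dvd_card_of_pow_dvd_card h2
  have h4 := Nat.le_of_dvd Nat.card_pos h3
  omega

end Cfsg.Agent.Omega.Node.LeafOne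

end

section


/-!
# LEMMA SH++ (helper586)

`R` is a `p`-subgroup normalised by `Y`, `C_Y(R) ≤ R`, `z ∈ Y` a nontrivial `p`-element, `F = C_R(z)`.  If `E ≤ Y`
centralises `F` and `z` then `z ∉ [E, E]`.

Proof: `R* = R⟨z⟩`, `F₁ = C_{R*}(z) = F⟨z⟩`, `n ∈ N_{R*}(F₁)`.  `[n, E] ≤ C_{R*}(F₁) ≤ F₁` is centralised by `E`, hence
`[E, E]` centralises `n`.  If `z ∈ [E, E]` then `N_{R*}(F₁) = F₁`, `R* = F₁`, `R = F`, `E ≤ C_Y(R) ≤ R = F` is abelian.

`not_mem_commutator_o2` : `Y = C_G(x)`, `R = O₂(Y)`.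
-/

set_option autoImplicit false

namespace Cfsg.Agent.Omega.ShadowComm

open Subgroup Cfsg Cfsg.Agent.ZN Cfsg.Agent.MinSimple.VModule
open scoped commutatorElement

variable {G : Type*} [Group G]

/-- **LEMMA SH++.** -/
theorem not_mem_commutator [Finite G] {p : ℕ} [hp : Fact p.Prime] {Y R E : Subgroup G} {z : G} (hR : IsPGroup p R)
    (hYR : Y ≤ normalizer (R : Set G)) (hC : Y ⊓ centralizer (R : Set G) ≤ R) (hz : z ∈ Y)
    (hzp : IsPGroup p (zpowers z)) (hz1 : z ≠ 1) (hEY : E ≤ Y) (hEz : ∀ e ∈ E, e * z = z * e)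
    (hEF : ∀ e ∈ E, ∀ f ∈ R, f * z = z * f → e * f = f * e) : z ∉ ⁅E, E⁆ := by
  intro hcon
  have hzR : zpowers z ≤ normalizer (R : Set G) := by
    rw [zpowers_le]
    exact hYR hz
  set S : Subgroup G := zpowers z ⊔ R with hS
  have hSp : IsPGroup p S := IsPGroup.to_sup_of_normal_right' hzp hR hzR
  have hmem : ∀ {u : G}, u ∈ S ↔ ∃ c ∈ zpowers z, ∃ r ∈ R, c * r = u := by
    intro u
    have h1 : u ∈ S ↔ u ∈ ((zpowers z ⊔ R : Subgroup G) : Set G) := Iff.rfl
    rw [h1, coe_mul_of_left_le_normalizer_right _ R hzR]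
    rfl
  have hRS : R ≤ S := le_sup_right
  have hzS : zpowers z ≤ S := le_sup_left
  have hEz' : ∀ e ∈ E, ∀ c ∈ zpowers z, e * c = c * e := by
    rintro e he _ ⟨k, rfl⟩
    have : Commute e z := hEz e he
    exact this.zpow_right k
  have hzc : ∀ c ∈ zpowers z, c * z = z * c := by
    rintro _ ⟨k, rfl⟩
    exact ((Commute.refl z).zpow_left k)
  set F : Subgroup G := S ⊓ centralizer ({z} : Set G) with hF
  have hFS : F ≤ S := inf_le_left
  have memF : ∀ {u : G}, u ∈ F ↔ u ∈ S ∧ u * z = z * u := fun {u} => by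
    rw [hF, mem_inf, mem_centralizer_singleton_iff]
  have hzF : z ∈ F := memF.2 ⟨hzS (mem_zpowers z), rfl⟩
  -- `E` centralises `F`
  have hEF1 : ∀ e ∈ E, ∀ u ∈ F, e * u = u * e := by
    intro e he u hu
    obtain ⟨hu1, hu2⟩ := memF.1 hu
    obtain ⟨c, hc, r, hr, rfl⟩ := hmem.1 hu1
    have h1 : r * z = z * r := by
      have h2 : c * (r * z) = c * (z * r) := by
        calc c * (r * z) = c * r * z := (mul_assoc _ _ _).symm
          _ = z * (c * r) := hu2
          _ = z * c * r := (mul_assoc _ _ _).symm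
          _ = c * z * r := by rw [hzc c hc]
          _ = c * (z * r) := mul_assoc _ _ _
      exact mul_left_cancel h2
    have h3 : Commute e c := hEz' e he c hc
    have h4 : Commute e r := hEF e he r hr h1
    exact h3.mul_right h4
  -- `E` normalises `S`
  have hES : ∀ e ∈ E, ∀ u ∈ S, e * u * e⁻¹ ∈ S := by
    intro e he u hu
    obtain ⟨c, hc, r, hr, rfl⟩ := hmem.1 hu
    have h1 : e * c * e⁻¹ = c := by rw [hEz' e he c hc]; group
    have h2 : e * r * e⁻¹ ∈ R := (mem_normalizer_iff.1 (hYR (hEY he)) r).1 hr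
    have h3 : e * (c * r) * e⁻¹ = (e * c * e⁻¹) * (e * r * e⁻¹) := by group
    rw [h3, h1]
    exact mul_mem (hzS hc) (hRS h2)
  -- `N_S(F) = F`
  have hN : ∀ n ∈ S, n ∈ normalizer (F : Set G) → n ∈ F := by
    intro n hn hnF
    have hδ : ∀ e ∈ E, n⁻¹ * (e * n * e⁻¹) ∈ F := by
      intro e he
      refine memF.2 ⟨mul_mem (inv_mem hn) (hES e he n hn), ?_⟩
      -- it centralises `F`, in particular `z`
      have h1 : n * z * n⁻¹ ∈ F := (mem_normalizer_iff.1 hnF z).1 hzF
      have h2 := hEF1 e he _ h1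
      have h3 := hEF1 e he z hzF
      have h4 : n⁻¹ * (e * n * e⁻¹) * z = n⁻¹ * (e * (n * z * n⁻¹)) * n * e⁻¹ := by
        calc n⁻¹ * (e * n * e⁻¹) * z = n⁻¹ * e * n * (e⁻¹ * (z * e)) * e⁻¹ := by group
          _ = n⁻¹ * e * n * (e⁻¹ * (e * z)) * e⁻¹ := by rw [h3]
          _ = n⁻¹ * (e * (n * z * n⁻¹)) * n * e⁻¹ := by group
      rw [h4, h2]
      group
    have hcn : ⁅E, E⁆ ≤ centralizer ({n} : Set G) := by
      rw [commutator_le]
      intro e he f hf
      rw [mem_centralizer_singleton_iff]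
      have h1 := hδ e he
      have h2 := hδ f hf
      generalize ha : n⁻¹ * (e * n * e⁻¹) = a at h1
      generalize hb : n⁻¹ * (f * n * f⁻¹) = b at h2
      have e1 : e * n * e⁻¹ = n * a := by rw [← ha]; group
      have e2 : f * n * f⁻¹ = n * b := by rw [← hb]; group
      have c1 : e * b * e⁻¹ = b := by rw [hEF1 e he b h2]; group
      have c2 : f * a * f⁻¹ = a := by rw [hEF1 f hf a h1]; group
      -- `a b = b a`: `a = n⁻¹ (e n e⁻¹)` and `b ∈ F` is centralised by `e`; `n b n⁻¹ ∈ F` too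
      have hab : a * b = b * a := by
        have h3 : n * b * n⁻¹ ∈ F := (mem_normalizer_iff.1 hnF b).1 h2
        have h4 := hEF1 e he _ h3
        have h5 := hEF1 e he b h2
        have h6 : a * b = n⁻¹ * (e * (n * b * n⁻¹)) * n * e⁻¹ := by
          rw [← ha]
          calc n⁻¹ * (e * n * e⁻¹) * b = n⁻¹ * e * n * (e⁻¹ * (b * e)) * e⁻¹ := by group
            _ = n⁻¹ * e * n * (e⁻¹ * (e * b)) * e⁻¹ := by rw [h5]
            _ = n⁻¹ * (e * (n * b * n⁻¹)) * n * e⁻¹ := by group
        rw [h6, h4, ← ha]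
        group
      have h7 : (e * f) * n * (e * f)⁻¹ = n * (a * b) := by
        calc (e * f) * n * (e * f)⁻¹ = e * (f * n * f⁻¹) * e⁻¹ := by group
          _ = e * (n * b) * e⁻¹ := by rw [e2]
          _ = (e * n * e⁻¹) * (e * b * e⁻¹) := by group
          _ = n * (a * b) := by rw [e1, c1, mul_assoc]
      have h8 : (f * e) * n * (f * e)⁻¹ = n * (a * b) := by
        calc (f * e) * n * (f * e)⁻¹ = f * (e * n * e⁻¹) * f⁻¹ := by group
          _ = f * (n * a) * f⁻¹ := by rw [e1]
          _ = (f * n * f⁻¹) * (f * a * f⁻¹) := by group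
          _ = n * (a * b) := by rw [e2, c2, mul_assoc, hab]
      have h9 : ⁅e, f⁆ * (f * e) = e * f := by rw [commutatorElement_def]; group
      have h10 : ⁅e, f⁆ * (n * (a * b)) * ⁅e, f⁆⁻¹ = n * (a * b) := by
        calc ⁅e, f⁆ * (n * (a * b)) * ⁅e, f⁆⁻¹ = ⁅e, f⁆ * ((f * e) * n * (f * e)⁻¹) * ⁅e, f⁆⁻¹ := by rw [h8]
          _ = (⁅e, f⁆ * (f * e)) * n * (⁅e, f⁆ * (f * e))⁻¹ := by group
          _ = n * (a * b) := by rw [h9, h7]
      -- `⁅e, f⁆` centralises `a b ∈ F`
      have h11 : ⁅e, f⁆ * (a * b) * ⁅e, f⁆⁻¹ = a * b := by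
        have h12 : ∀ g ∈ E, g * (a * b) * g⁻¹ = a * b := by
          intro g hg
          rw [hEF1 g hg _ (mul_mem h1 h2)]
          group
        apply h12
        rw [commutatorElement_def]
        exact mul_mem (mul_mem (mul_mem he hf) (inv_mem he)) (inv_mem hf)
      have h13 : ⁅e, f⁆ * n * ⁅e, f⁆⁻¹ = n := by
        have h14 : ⁅e, f⁆ * (n * (a * b)) * ⁅e, f⁆⁻¹ =
            (⁅e, f⁆ * n * ⁅e, f⁆⁻¹) * (⁅e, f⁆ * (a * b) * ⁅e, f⁆⁻¹) := by group
        rw [h14, h11] at h10
        exact mul_right_cancel h10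
      exact mul_inv_eq_iff_eq_mul.1 h13
    refine memF.2 ⟨hn, ?_⟩
    exact (mem_centralizer_singleton_iff.1 (hcn hcon)).symm
  have hFeq : F = S := by
    by_contra hne
    obtain ⟨n, hn1, hn2, hn3⟩ :=
      Cfsg.Agent.Involutions.BaerSuzuki.exists_mem_normalizer_of_lt hSp (lt_of_le_of_ne hFS hne)
    exact hn2 (hN n hn1 hn3)
  have hRz : ∀ r ∈ R, r * z = z * r := fun r hr => (memF.1 (hFeq ▸ hRS hr)).2
  have hER : E ≤ R := by
    intro e he
    exact hC (mem_inf.2 ⟨hEY he, mem_centralizer_iff.2 fun r hr => (hEF e he r hr (hRz r hr)).symm⟩)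
  have hbot : ⁅E, E⁆ ≤ ⊥ := by
    rw [commutator_le]
    intro e he f hf
    rw [mem_bot, commutatorElement_eq_one_iff_mul_comm]
    exact hEF e he f (hER hf) (hRz f (hER hf))
  exact hz1 (mem_bot.1 (hbot hcon))

/-- **LEMMA SH++** for `Y = C_G(x)`, `R = O₂(C_G(x))`, `z` an involution commuting with `x`, `x ∈ O₂(C_G(x))`. -/
theorem not_mem_commutator_o2 [Finite G] {x z : G} (hx2 : x * x = 1) (hxz : x * z = z * x) (hz2 : z * z = 1)
    (hz1 : z ≠ 1)
    (hC : centralizer ({x} : Set G) ⊓ centralizer (o2 (centralizer ({x} : Set G)) : Set G) ≤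
      o2 (centralizer ({x} : Set G))) {E : Subgroup G} (hEz : ∀ e ∈ E, e * z = z * e)
    (hEF : ∀ e ∈ E, ∀ f ∈ o2 (centralizer ({x} : Set G)), f * z = z * f → e * f = f * e) : z ∉ ⁅E, E⁆ := by
  have : Fact (Nat.Prime 2) := ⟨Nat.prime_two⟩
  have hp : ∀ {y : G}, y * y = 1 → IsPGroup 2 (zpowers y) := by
    rintro y hy ⟨_, k, rfl⟩
    refine ⟨1, Subtype.ext ?_⟩
    show (y ^ k) ^ (2 ^ 1) = 1
    rw [pow_one, ← zpow_natCast, ← zpow_mul, mul_comm k, zpow_mul]
    have : y ^ ((2 : ℕ) : ℤ) = 1 := by rw [zpow_natCast, pow_two]; exact hy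
    rw [this, one_zpow]
  have hxR : x ∈ o2 (centralizer ({x} : Set G)) := by
    have h1 : zpowers x ≤ o2 (centralizer ({x} : Set G)) := by
      refine le_o2 ?_ (hp hx2) ?_
      · rw [zpowers_le, mem_centralizer_singleton_iff]
      · intro g hg
        rw [mem_centralizer_singleton_iff] at hg
        have hc : ∀ n : ℤ, g * x ^ n * g⁻¹ = x ^ n := by
          intro n
          have : Commute g x := hg
          rw [(this.zpow_right n).eq]; group
        rw [mem_normalizer_iff]
        intro y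
        constructor
        · rintro ⟨n, rfl⟩
          exact ⟨n, (hc n).symm⟩
        · rintro ⟨n, hn⟩
          refine ⟨n, ?_⟩
          have h4 : g * x ^ n * g⁻¹ = g * y * g⁻¹ := (hc n).trans hn
          exact mul_left_cancel (mul_right_cancel h4)
    exact h1 (mem_zpowers x)
  refine not_mem_commutator (Y := centralizer ({x} : Set G)) (o2_isPGroup _) (le_normalizer_o2 _) hC
    (mem_centralizer_singleton_iff.2 hxz.symm) (hp hz2) hz1 ?_ hEz hEF
  intro e he
  rw [mem_centralizer_singleton_iff]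
  exact hEF e he x hxR hxz

end Cfsg.Agent.Omega.ShadowComm

end

section


/-!
# LEMMA SH: shadows of groups with a large extraspecial 2-subgroup (project OMEGA, EH3)

`Q` is extraspecial, `Q = O₂(C_G(z)) ≥ C_G(Q)` (`Large Q z`), `x ∈ Q` an involution, `x ≠ z`, `t ∈ C_G(x)` with
`a = z^t ∈ Q`, `a ∉ ⟨x, z⟩`, and `C_G(x)` has characteristic 2.  Let `H_x` be the stabiliser of `x⟨z⟩` in `C_G(z)`.
If `O₂(H_x) ≤ Q` and no `H_x`-invariant totally isotropic subspace of `Q/⟨z⟩` contains `x⟨z⟩` properly, this is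
impossible.

This kills the configurations of `M`, `B` (`2^{1+24}.Co₁`, `2^{1+22}.Co₂`) in groups of characteristic 2 type.
(text: helper24, bb OMEGA 11505; the proof here needs no group of maximal class.)
-/

set_option autoImplicit false

namespace Cfsg.Agent.Omega.Shadow

open Subgroup Cfsg Cfsg.Agent.ZN Cfsg.Agent.MinSimple.VModule
open Cfsg.Agent.Co2Type.Quad

universe u

variable {G : Type u} [Group G]

/-- `g` stabilises `x⟨z⟩`, `g ∈ C_G(z)`. -/
def Stab (z x g : G) : Prop := g * z = z * g ∧ (g * x * g⁻¹ = x ∨ g * x * g⁻¹ = x * z)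

/-- (A1) `O₂` of the stabiliser of `x⟨z⟩` in `C_G(z)` lies in `Q`: a 2-subgroup `U ≥ Q` of that stabiliser which is
normalised by it lies in `Q`. -/
def NoTwo (Q : Subgroup G) (z x : G) : Prop :=
  ∀ U : Subgroup G, IsPGroup 2 U → Q ≤ U → (∀ u ∈ U, Stab z x u) →
    (∀ g, Stab z x g → ∀ u ∈ U, g * u * g⁻¹ ∈ U) → U ≤ Q

/-- (A2) no totally isotropic subspace of `Q/⟨z⟩` invariant under the stabiliser of `x⟨z⟩` contains `x⟨z⟩`
properly. -/
def NoIso (Q : Subgroup G) (z x : G) : Prop :=
  ∀ U : Subgroup G, U ≤ Q → z ∈ U → x ∈ U → (∀ u ∈ U, ∀ v ∈ U, u * v = v * u) →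
    (∀ g, Stab z x g → ∀ u ∈ U, g * u * g⁻¹ ∈ U) →
    ∀ u ∈ U, u = 1 ∨ u = z ∨ u = x ∨ u = x * z

section

variable {Q : Subgroup G} {z x : G}

/-- the commutator of two elements of `Q` that do not commute. -/
theorem comm_eq (h : Large Q z) {e f : G} (he : e ∈ Q) (hf : f ∈ Q) (hne : e * f ≠ f * e) :
    e * f * e⁻¹ * f⁻¹ = z := by
  rcases h.comm e he f hf with h1 | h1
  · exact absurd h1 hne
  · rw [h1]
    have h2 := h.comm_z f hf
    have h3 := h.comm_z e he
    calc f * e * z * e⁻¹ * f⁻¹ = f * (e * z) * e⁻¹ * f⁻¹ := by group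
      _ = (f * z) * f⁻¹ := by rw [h3]; group
      _ = z := by rw [h2]; group

/-- an element normalising a nonabelian subgroup of `Q` centralises `z`. -/
theorem comm_z_of_normalizes (h : Large Q z) {X : Subgroup G} (hX : X ≤ Q) {e f : G} (he : e ∈ X)
    (hf : f ∈ X) (hne : e * f ≠ f * e) {g : G} (hg : ∀ y ∈ X, g * y * g⁻¹ ∈ X) : g * z = z * g := by
  have h1 := comm_eq h (hX he) (hX hf) hne
  have hne' : (g * e * g⁻¹) * (g * f * g⁻¹) ≠ (g * f * g⁻¹) * (g * e * g⁻¹) := by
    intro h2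
    apply hne
    have h3 : g * (e * f) * g⁻¹ = g * (f * e) * g⁻¹ := by
      calc g * (e * f) * g⁻¹ = (g * e * g⁻¹) * (g * f * g⁻¹) := by group
        _ = (g * f * g⁻¹) * (g * e * g⁻¹) := h2
        _ = g * (f * e) * g⁻¹ := by group
    exact mul_left_cancel (mul_right_cancel h3)
  have h2 := comm_eq h (hX (hg e he)) (hX (hg f hf)) hne'
  have h3 : g * (e * f * e⁻¹ * f⁻¹) * g⁻¹ = z := by
    rw [← h2]; group
  rw [h1] at h3
  exact mul_inv_eq_iff_eq_mul.1 h3

/-- some element of `Q` moves `x` to `x z`. -/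
theorem exists_fuse (h : Large Q z) (hx : x ∈ Q) (hx1 : x ≠ 1) (hxz : x ≠ z) :
    ∃ q ∈ Q, q * x * q⁻¹ = x * z := by
  by_contra hcon
  push Not at hcon
  rcases h.cent x hx (fun y hy => by
    rcases h.comm y hy x hx with h2 | h2
    · exact h2.symm
    · refine absurd ?_ (hcon y hy)
      have h3 := h.comm_z y hy
      calc y * x * y⁻¹ = x * (y * z) * y⁻¹ := by rw [h2]; group
        _ = x * z := by rw [h3]; group) with h2 | h2
  · exact hx1 h2
  · exact hxz h2

/-- `C_Q(C_Q(x)) ≤ ⟨x, z⟩`. -/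
theorem exists_not_comm (h : Large Q z) {a : G} (hx : x ∈ Q) (ha : a ∈ Q)
    (h1 : a ≠ 1) (h2 : a ≠ z) (h3 : a ≠ x) (h4 : a ≠ x * z) :
    ∃ e ∈ Q, e * x = x * e ∧ e * a ≠ a * e := by
  by_contra hcon
  push Not at hcon
  -- `e ∈ Q` commutes with `x` as soon as ... ; show that `a x⁻¹` or `a` is central
  have key : (∀ y ∈ Q, a * y = y * a) ∨ (∀ y ∈ Q, (a * x) * y = y * (a * x)) := by
    by_contra hc
    push Not at hc
    obtain ⟨⟨y, hy, hya⟩, w, hw, hwax⟩ := hc
    -- `y` does not commute with `a`, so not with `x`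
    have hcx : ∀ e ∈ Q, e * a ≠ a * e → e * x = x * e * z := by
      intro e he hea
      rcases h.comm e he x hx with h5 | h5
      · exact absurd (hcon e he h5) hea
      · exact h5
    have hca : ∀ e ∈ Q, e * a ≠ a * e → e * a = a * e * z := by
      intro e he hea
      rcases h.comm e he a ha with h5 | h5
      · exact absurd h5 hea
      · exact h5
    have hzc : ∀ e ∈ Q, e * z = z * e := h.comm_z
    have hya1 := hca y hy (fun h' => hya h'.symm)
    have hyx1 := hcx y hy (fun h' => hya h'.symm)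
    by_cases hwa : w * a = a * w
    · -- then `w` does not commute with `x`, and `w y` commutes with `x` but not with `a`
      have hwx : w * x = x * w * z := by
        rcases h.comm w hw x hx with h5 | h5
        · exfalso
          apply hwax
          calc a * x * w = a * (x * w) := by group
            _ = a * (w * x) := by rw [h5]
            _ = (a * w) * x := by group
            _ = (w * a) * x := by rw [hwa]
            _ = w * (a * x) := by group
        · exact h5
      have h6 : (w * y) * x = x * (w * y) := by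
        calc (w * y) * x = w * (y * x) := by group
          _ = w * (x * y * z) := by rw [hyx1]
          _ = (w * x) * (y * z) := by group
          _ = x * w * z * (y * z) := by rw [hwx]
          _ = x * w * (z * y) * z := by group
          _ = x * w * (y * z) * z := by rw [hzc y hy]
          _ = x * (w * y) * (z * z) := by group
          _ = x * (w * y) := by rw [h.z_sq, mul_one]
      have h7 := hcon (w * y) (mul_mem hw hy) h6
      apply hya
      have h8 : w * (y * a) = w * (a * y) := by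
        calc w * (y * a) = (w * y) * a := by group
          _ = a * (w * y) := h7
          _ = (a * w) * y := by group
          _ = (w * a) * y := by rw [hwa]
          _ = w * (a * y) := by group
      exact (mul_left_cancel h8).symm
    · have hwa1 := hca w hw hwa
      have hwx1 := hcx w hw hwa
      apply hwax
      calc a * x * w = a * (x * w) := by group
        _ = a * (w * x * z) := by
            rw [hwx1, mul_assoc _ z z, h.z_sq, mul_one]
        _ = (a * w) * (x * z) := by group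
        _ = (w * a * z) * (x * z) := by
            rw [hwa1, mul_assoc _ z z, h.z_sq, mul_one]
        _ = w * a * (z * x) * z := by group
        _ = w * a * (x * z) * z := by rw [hzc x hx]
        _ = w * (a * x) * (z * z) := by group
        _ = w * (a * x) := by rw [h.z_sq, mul_one]
  rcases key with h5 | h5
  · rcases h.cent a ha h5 with h6 | h6
    · exact h1 h6
    · exact h2 h6
  · rcases h.cent (a * x) (mul_mem ha hx) h5 with h6 | h6
    · have h7 : a = x⁻¹ := eq_inv_of_mul_eq_one_left h6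
      rcases h.sq x hx with h8 | h8
      · exact h3 (h7.trans (inv_eq_of_mul_eq_one_left h8))
      · apply h4
        have h9 : (x * z) * x = 1 := by
          rw [mul_assoc, ← h.comm_z x hx, ← mul_assoc, h8, h.z_sq]
        rw [h7, ← eq_inv_of_mul_eq_one_left h9]
    · have h7 : a = z * x⁻¹ := eq_mul_inv_of_mul_eq h6
      rcases h.sq x hx with h8 | h8
      · apply h4
        rw [h7, inv_eq_of_mul_eq_one_left h8, h.comm_z x hx]
      · apply h3
        rw [h7, ← h8]
        group

/-- **LEMMA SH.** -/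
theorem false_of_shadow [Finite G] (h : Large Q z) (hx : x ∈ Q) (hx2 : x * x = 1) (hx1 : x ≠ 1)
    (hxz : x ≠ z)
    (hX : ∃ e ∈ Q, ∃ f ∈ Q, e * x = x * e ∧ f * x = x * f ∧ e * f ≠ f * e)
    (hC : centralizer ({x} : Set G) ⊓ centralizer (o2 (centralizer ({x} : Set G)) : Set G) ≤
      o2 (centralizer ({x} : Set G)))
    {t : G} (htx : t * x = x * t) (hta : t * z * t⁻¹ ∈ Q) (htz : t * z * t⁻¹ ≠ z)
    (htxz : t * z * t⁻¹ ≠ x * z) (hA1 : NoTwo Q z x) (hA2 : NoIso Q z x) : False := by
  classical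
  have h2f : Fact (Nat.Prime 2) := ⟨Nat.prime_two⟩
  obtain ⟨e, he, f, hf, hex, hfx, hef⟩ := hX
  set Y : Subgroup G := centralizer ({x} : Set G) with hY
  set R : Subgroup G := o2 Y with hR
  have memY : ∀ {g : G}, g ∈ Y ↔ g * x = x * g := fun {g} => mem_centralizer_singleton_iff
  set X : Subgroup G := Q ⊓ Y with hXdef
  have hRY : R ≤ Y := o2_le Y
  have hYR : Y ≤ normalizer (R : Set G) := le_normalizer_o2 Y
  have hR2 : IsPGroup 2 R := o2_isPGroup Y
  have hQ2 : IsPGroup 2 Q := by
    intro y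
    refine ⟨2, ?_⟩
    apply Subtype.ext
    show ((y : G)) ^ (2 ^ 2) = 1
    have : (y : G) ^ (2 ^ 2) = (y * y) * (y * y) := by
      rw [show (2 ^ 2 : ℕ) = 2 * 2 from rfl, pow_mul, pow_two, pow_two]
    rw [this]
    rcases h.sq y y.2 with h1 | h1 <;> rw [h1]
    · rw [one_mul]
    · exact h.z_sq
  have hxR : x ∈ R := by
    have h1 : zpowers x ≤ o2 Y := by
      refine le_o2 ?_ (Cfsg.Agent.MinSimple.Basic.isPGroup_zpowers (by rw [pow_two]; exact hx2)) ?_
      · rw [zpowers_le]; exact memY.2 rfl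
      · intro g hg
        have hgx := memY.1 hg
        rw [mem_normalizer_iff]
        intro y
        have hc : ∀ n : ℤ, g * x ^ n * g⁻¹ = x ^ n := by
          intro n
          have : Commute g x := hgx
          rw [(this.zpow_right n).eq]; group
        constructor
        · rintro ⟨n, rfl⟩
          exact ⟨n, (hc n).symm⟩
        · rintro ⟨n, hn⟩
          refine ⟨n, ?_⟩
          have h3 := hc n
          have h4 : g * x ^ n * g⁻¹ = g * y * g⁻¹ := h3.trans hn
          exact mul_left_cancel (mul_right_cancel h4)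
    exact h1 (mem_zpowers x)
  have hzY : z ∈ Y := memY.2 (h.comm_z x hx).symm
  have heX : e ∈ X := ⟨he, memY.2 hex⟩
  have hfX : f ∈ X := ⟨hf, memY.2 hfx⟩
  -- `y ∈ Q` satisfies `Stab`
  have hstQ : ∀ y ∈ Q, Stab z x y := by
    intro y hy
    refine ⟨h.comm_z y hy, ?_⟩
    rcases h.comm y hy x hx with h1 | h1
    · left; rw [h1]; group
    · right
      have h2 := h.comm_z y hy
      calc y * x * y⁻¹ = x * (y * z) * y⁻¹ := by rw [h1]; group
        _ = x * z := by rw [h2]; group
  -- the stabiliser is `Q C_Y(z)`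
  obtain ⟨q₀, hq₀, hq₀x⟩ := exists_fuse h hx hx1 hxz
  have hdec : ∀ g, Stab z x g → ∃ q ∈ Q, ∃ c : G, c * z = z * c ∧ c * x = x * c ∧ q * c = g := by
    intro g hg
    rcases hg.2 with h1 | h1
    · exact ⟨1, one_mem _, g, hg.1, mul_inv_eq_iff_eq_mul.1 h1, one_mul _⟩
    · refine ⟨q₀, hq₀, q₀⁻¹ * g, ?_, ?_, by group⟩
      · have h2 := h.comm_z q₀ hq₀
        have h3 : Commute q₀⁻¹ z := (show Commute q₀ z from h2).inv_left
        have h4 : Commute g z := hg.1
        exact (h3.mul_left h4).eq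
      · have h2 : (q₀⁻¹ * g) * x * (q₀⁻¹ * g)⁻¹ = x := by
          calc (q₀⁻¹ * g) * x * (q₀⁻¹ * g)⁻¹ = q₀⁻¹ * (g * x * g⁻¹) * q₀ := by group
            _ = q₀⁻¹ * (q₀ * x * q₀⁻¹) * q₀ := by rw [h1, hq₀x]
            _ = x := by group
        exact mul_inv_eq_iff_eq_mul.1 h2
  -- `F = C_R(z) ≤ Q`
  have hF : ∀ r ∈ R, r * z = z * r → r ∈ Q := by
    set F : Subgroup G := R ⊓ centralizer ({z} : Set G) with hFdef
    have hFz : ∀ {r : G}, r ∈ F ↔ r ∈ R ∧ r * z = z * r := fun {r} => by
      rw [hFdef, mem_inf, mem_centralizer_singleton_iff]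
    -- `F Q`
    have hQF : ∀ q ∈ F, ∀ y ∈ Q, q * y * q⁻¹ ∈ Q := fun q hq y hy => h.conj_mem q (hFz.1 hq).2 y hy
    have hFnQ : F ≤ normalizer (Q : Set G) := by
      intro q hq
      rw [mem_normalizer_iff]
      intro y
      constructor
      · exact hQF q hq y
      · intro hy
        have := hQF q⁻¹ (inv_mem hq) _ hy
        have e1 : q⁻¹ * (q * y * q⁻¹) * q⁻¹⁻¹ = y := by group
        rwa [e1] at this
    have hU2 : IsPGroup 2 (F ⊔ Q : Subgroup G) :=
      IsPGroup.to_sup_of_normal_right' (hR2.to_le inf_le_left) hQ2 hFnQ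
    have hmem : ∀ {u : G}, u ∈ F ⊔ Q → ∃ q ∈ F, ∃ y ∈ Q, q * y = u := by
      intro u hu
      have h1 : u ∈ ((F ⊔ Q : Subgroup G) : Set G) := hu
      rw [coe_mul_of_left_le_normalizer_right F Q hFnQ] at h1
      obtain ⟨q, hq, y, hy, hqy⟩ := h1
      exact ⟨q, hq, y, hy, hqy⟩
    have hconjF : ∀ c : G, c * z = z * c → c * x = x * c → ∀ r ∈ F, c * r * c⁻¹ ∈ F := by
      intro c hcz hcx r hr
      have h1 := hFz.1 hr
      refine hFz.2 ⟨(mem_normalizer_iff.1 (hYR (memY.2 hcx)) r).1 h1.1, ?_⟩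
      have h2 : Commute c z := hcz
      have h3 : Commute r z := h1.2
      exact ((h2.mul_left h3).mul_left h2.inv_left).eq
    have hle : F ⊔ Q ≤ Q := by
      refine hA1 (F ⊔ Q) hU2 le_sup_right ?_ ?_
      · intro u hu
        obtain ⟨q, hq, y, hy, rfl⟩ := hmem hu
        have h1 := hFz.1 hq
        have h2 := hstQ y hy
        have h3 : q * x = x * q := memY.1 (hRY h1.1)
        have h4 : Commute q z := h1.2
        have h5 : Commute y z := h2.1
        refine ⟨(h4.mul_left h5).eq, ?_⟩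
        have h6 : q * y * x * (q * y)⁻¹ = q * (y * x * y⁻¹) * q⁻¹ := by group
        rw [h6]
        rcases h2.2 with h7 | h7 <;> rw [h7]
        · left; rw [h3]; group
        · right
          calc q * (x * z) * q⁻¹ = (q * x) * z * q⁻¹ := by group
            _ = x * (q * z) * q⁻¹ := by rw [h3]; group
            _ = x * z := by rw [h4.eq]; group
      · intro g hg u hu
        obtain ⟨q, hq, c, hcz, hcx, rfl⟩ := hdec g hg
        obtain ⟨r, hr, y, hy, rfl⟩ := hmem hu
        have h1 : c * r * c⁻¹ ∈ F := hconjF c hcz hcx r hr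
        have h2 : c * y * c⁻¹ ∈ Q := h.conj_mem c hcz y hy
        have h3 : q * c * (r * y) * (q * c)⁻¹ = q * ((c * r * c⁻¹) * (c * y * c⁻¹)) * q⁻¹ := by
          group
        rw [h3]
        have hq' : q ∈ F ⊔ Q := (le_sup_right : Q ≤ F ⊔ Q) hq
        exact mul_mem (mul_mem hq' (mul_mem ((le_sup_left : F ≤ F ⊔ Q) h1)
          ((le_sup_right : Q ≤ F ⊔ Q) h2))) (inv_mem hq')
    intro r hr hrz
    exact hle ((le_sup_left : F ≤ F ⊔ Q) (hFz.2 ⟨hr, hrz⟩))
  -- `R ≤ X`
  have hX2 : IsPGroup 2 X := hQ2.to_le inf_le_left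
  have hXnR : X ≤ normalizer (R : Set G) := inf_le_right.trans hYR
  have hRX2 : IsPGroup 2 (X ⊔ R : Subgroup G) := IsPGroup.to_sup_of_normal_right' hX2 hR2 hXnR
  have hRQ : R ≤ X := by
    by_contra hcon
    have hlt : X < X ⊔ R := lt_of_le_of_ne le_sup_left fun h' => hcon (h' ▸ le_sup_right)
    obtain ⟨g, hg, hgX, hgn⟩ :=
      Cfsg.Agent.Involutions.BaerSuzuki.exists_mem_normalizer_of_lt hRX2 hlt
    have h1 : g ∈ ((X ⊔ R : Subgroup G) : Set G) := hg
    rw [coe_mul_of_left_le_normalizer_right X R hXnR] at h1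
    obtain ⟨y, hy, r, hr, hyr⟩ := h1
    have hyr : y * r = g := hyr
    have hrn : ∀ w ∈ X, r * w * r⁻¹ ∈ X := by
      intro w hw
      have h2 := (mem_normalizer_iff.1 hgn w).1 hw
      have h3 : r * w * r⁻¹ = y⁻¹ * (g * w * g⁻¹) * y := by rw [← hyr]; group
      rw [h3]
      exact mul_mem (mul_mem (inv_mem hy) h2) hy
    have h4 := comm_z_of_normalizes h (X := X) inf_le_left heX hfX hef hrn
    have h5 : r ∈ X := ⟨hF r hr h4, hRY hr⟩
    exact hgX (hyr ▸ mul_mem hy h5)
  by_cases hab : ∀ r ∈ R, ∀ s ∈ R, r * s = s * r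
  · -- `R` abelian
    have hRQ' : R ≤ Q := hRQ.trans inf_le_left
    have hcR : ∀ c : G, c * x = x * c → ∀ r ∈ R, c * r * c⁻¹ ∈ R := fun c hcx r hr =>
      (mem_normalizer_iff.1 (hYR (memY.2 hcx)) r).1 hr
    let U : Subgroup G :=
      { carrier := {u | u ∈ R ∨ u * z ∈ R}
        one_mem' := Or.inl (one_mem _)
        mul_mem' := by
          rintro u v (hu | hu) (hv | hv)
          · exact Or.inl (mul_mem hu hv)
          · right
            have e1 : u * v * z = u * (v * z) := by group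
            rw [e1]; exact mul_mem hu hv
          · right
            have hvz := h.comm_z v (hRQ' hv)
            have e1 : u * v * z = (u * z) * v := by
              calc u * v * z = u * (v * z) := by group
                _ = (u * z) * v := by rw [hvz]; group
            rw [e1]; exact mul_mem hu hv
          · left
            have hvz := h.comm_z (v * z) (hRQ' hv)
            have e1 : u * v = (u * z) * (v * z) := by
              calc u * v = u * v * (z * z) := by rw [h.z_sq, mul_one]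
                _ = u * ((v * z) * z) := by group
                _ = (u * z) * (v * z) := by rw [hvz]; group
            rw [e1]; exact mul_mem hu hv
        inv_mem' := by
          rintro u (hu | hu)
          · exact Or.inl (inv_mem hu)
          · right
            have hvz := h.comm_z (u * z) (hRQ' hu)
            have e1 : u⁻¹ * z = (u * z)⁻¹ := by
              have e2 : u * z = z * u := by
                have e3 : (u * z) * z * z⁻¹ = z * (u * z) * z⁻¹ := by rw [hvz]
                calc u * z = (u * z) * z * z⁻¹ := by group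
                  _ = z * (u * z) * z⁻¹ := e3
                  _ = z * u := by group
              rw [e2, mul_inv_rev, h.z_inv]
            rw [e1]; exact inv_mem hu }
    have memU : ∀ {u : G}, u ∈ U ↔ u ∈ R ∨ u * z ∈ R := Iff.rfl
    have hzQ := h.z_mem
    have hUQ : U ≤ Q := by
      rintro u (hu | hu)
      · exact hRQ' hu
      · have h1 := mul_mem (hRQ' hu) hzQ
        rwa [mul_assoc, h.z_sq, mul_one] at h1
    have hUab : ∀ u ∈ U, ∀ v ∈ U, u * v = v * u := by
      have h1 : ∀ u ∈ U, ∃ r ∈ R, u = r ∨ u = r * z := by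
        rintro u (hu | hu)
        · exact ⟨u, hu, Or.inl rfl⟩
        · refine ⟨u * z, hu, Or.inr ?_⟩
          rw [mul_assoc, h.z_sq, mul_one]
      intro u hu v hv
      obtain ⟨r, hr, hur⟩ := h1 u hu
      obtain ⟨s, hs, hvs⟩ := h1 v hv
      have a1 : Commute r s := hab r hr s hs
      have a2 : Commute r z := h.comm_z r (hRQ' hr)
      have a3 : Commute s z := h.comm_z s (hRQ' hs)
      have a4 : Commute z z := Commute.refl z
      rcases hur with rfl | rfl <;> rcases hvs with rfl | rfl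
      · exact a1.eq
      · exact (a1.mul_right a2).eq
      · exact (a1.mul_left a3.symm).eq
      · exact ((a1.mul_right a2).mul_left (a3.symm.mul_right a4)).eq
    have hUst : ∀ g, Stab z x g → ∀ u ∈ U, g * u * g⁻¹ ∈ U := by
      intro g hg u hu
      obtain ⟨q, hq, c, hcz, hcx, rfl⟩ := hdec g hg
      have h1 : c * u * c⁻¹ ∈ U := by
        rcases hu with hu | hu
        · exact Or.inl (hcR c hcx u hu)
        · right
          have h2 := hcR c hcx _ hu
          have h3 : c * u * c⁻¹ * z = c * (u * z) * c⁻¹ := by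
            have a1 : Commute c⁻¹ z := (show Commute c z from hcz).inv_left
            calc c * u * c⁻¹ * z = c * u * (c⁻¹ * z) := by group
              _ = c * (u * z) * c⁻¹ := by rw [a1.eq]; group
          rw [h3]; exact h2
      have h2 : q * c * u * (q * c)⁻¹ = q * (c * u * c⁻¹) * q⁻¹ := by group
      rw [h2]
      rcases h.comm q hq _ (hUQ h1) with h3 | h3
      · rw [h3, mul_assoc, mul_inv_cancel, mul_one]; exact h1
      · have h4 : q * (c * u * c⁻¹) * q⁻¹ = c * u * c⁻¹ * z := by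
          rw [h3]
          have a1 := h.comm_z q hq
          calc c * u * c⁻¹ * q * z * q⁻¹ = c * u * c⁻¹ * (q * z) * q⁻¹ := by group
            _ = c * u * c⁻¹ * z := by rw [a1]; group
        rw [h4]
        exact mul_mem h1 (Or.inr (by rw [h.z_sq]; exact one_mem _))
    have hU4 := hA2 U hUQ (Or.inr (by rw [h.z_sq]; exact one_mem _)) (Or.inl hxR) hUab hUst
    have hcent : ∀ e ∈ Q, e * x = x * e → e ∈ R := by
      intro e he hex
      refine hC (mem_inf.2 ⟨memY.2 hex, mem_centralizer_iff.2 ?_⟩)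
      intro r hr
      have hez := h.comm_z e he
      have a1 : Commute e x := hex
      have a2 : Commute e z := hez
      rcases hU4 r (Or.inl hr) with h1 | h1 | h1 | h1 <;> rw [h1]
      · rw [one_mul, mul_one]
      · exact a2.eq.symm
      · exact a1.eq.symm
      · exact (a1.mul_right a2).eq.symm
    exact hef (hab e (hcent e he hex) f (hcent f hf hfx))
  · push Not at hab
    obtain ⟨r, hr, s, hs, hrs⟩ := hab
    have hYz : ∀ y ∈ Y, y * z = z * y := fun y hy =>
      comm_z_of_normalizes h (X := R) (hRQ.trans inf_le_left) hr hs hrs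
        fun w hw => (mem_normalizer_iff.1 (hYR hy) w).1 hw
    obtain ⟨e', he', h1, h2⟩ := exists_not_comm h hx hta
      (fun h' => h.z_ne (by
        have : z = t⁻¹ * (t * z * t⁻¹) * t := by group
        rw [this, h']; group))
      htz (fun h' => hxz (by
        have h3 : z = t⁻¹ * (t * z * t⁻¹) * t := by group
        rw [h3, h']
        calc x = t⁻¹ * (t * x) := by group
          _ = t⁻¹ * x * t := by rw [htx]; group)) htxz
    apply h2
    have h3 : t⁻¹ * e' * t ∈ Y := by
      have a1 : Commute t x := htx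
      have a2 : Commute e' x := h1
      exact memY.2 ((a1.inv_left.mul_left a2).mul_left a1).eq
    have h4 := hYz _ h3
    calc e' * (t * z * t⁻¹) = t * ((t⁻¹ * e' * t) * z) * t⁻¹ := by group
      _ = t * (z * (t⁻¹ * e' * t)) * t⁻¹ := by rw [h4]
      _ = t * z * t⁻¹ * e' := by group

/-- `C_Q(x)` is nonabelian for `|Q| > 8`. -/
theorem exists_nonab (h : Large Q z) (hx : x ∈ Q) (hx2 : x * x = 1) (hx1 : x ≠ 1) (hxz : x ≠ z)
    (hcard : 8 < Nat.card Q) :
    ∃ e ∈ Q, ∃ f ∈ Q, e * x = x * e ∧ f * x = x * f ∧ e * f ≠ f * e := by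
  classical
  by_contra hcon
  push Not at hcon
  obtain ⟨q, hq, hqx⟩ := exists_fuse h hx hx1 hxz
  have hqx' : q * x = x * q * z := by
    have h1 := mul_inv_eq_iff_eq_mul.1 hqx
    rw [h1, mul_assoc, ← h.comm_z q hq, ← mul_assoc]
  have hxinv : x⁻¹ = x := inv_eq_of_mul_eq_one_left hx2
  have hxz' := h.comm_z x hx
  -- central elements
  have hw : ∀ w ∈ Q, w * x = x * w → w = 1 ∨ w = z ∨ w = x ∨ w = x * z := by
    have hcen : ∀ w ∈ Q, w * x = x * w → w * q = q * w → w = 1 ∨ w = z := by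
      intro w hw hwx hwq
      refine h.cent w hw fun y hy => ?_
      rcases h.comm y hy x hx with h1 | h1
      · exact (hcon w hw y hy hwx h1)
      · have h2 : (q⁻¹ * y) * x = x * (q⁻¹ * y) := by
          have a1 : q⁻¹ * (x * q * z) * q⁻¹ = q⁻¹ * (q * x) * q⁻¹ := by rw [hqx']
          have a2 : x * q⁻¹ = q⁻¹ * x * z := by
            calc x * q⁻¹ = q⁻¹ * (q * x) * q⁻¹ := by group
              _ = q⁻¹ * (x * (q * z)) * q⁻¹ := by rw [hqx']; group
              _ = q⁻¹ * (x * (z * q)) * q⁻¹ := by rw [h.comm_z q hq]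
              _ = q⁻¹ * x * z := by group
          calc (q⁻¹ * y) * x = q⁻¹ * (y * x) := by group
            _ = q⁻¹ * (x * (y * z)) := by rw [h1]; group
            _ = (q⁻¹ * x * z) * y := by rw [h.comm_z y hy]; group
            _ = x * (q⁻¹ * y) := by rw [← a2]; group
        have h3 := hcon w hw (q⁻¹ * y) (mul_mem (inv_mem hq) hy) hwx h2
        calc w * y = (w * q) * (q⁻¹ * y) := by group
          _ = q * (w * (q⁻¹ * y)) := by rw [hwq]; group
          _ = y * w := by rw [h3]; group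
    intro w hw hwx
    rcases h.comm w hw q hq with h1 | h1
    · rcases hcen w hw hwx h1 with h2 | h2
      · exact Or.inl h2
      · exact Or.inr (Or.inl h2)
    · have h2 : (w * x) * x = x * (w * x) := by
        calc (w * x) * x = (x * w) * x := congrArg (· * x) hwx
          _ = x * (w * x) := mul_assoc _ _ _
      have h3 : (w * x) * q = q * (w * x) := by
        have a1 : q * x = x * q * z := hqx'
        have a2 : x * q = q * x * z := by
          rw [a1, mul_assoc _ z z, h.z_sq, mul_one]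
        calc (w * x) * q = w * (x * q) := by group
          _ = (w * q) * (x * z) := by rw [a2]; group
          _ = q * w * (z * x) * z := by rw [h1]; group
          _ = q * w * (x * z) * z := by rw [hxz']
          _ = q * (w * x) * (z * z) := by group
          _ = q * (w * x) := by rw [h.z_sq, mul_one]
      rcases hcen (w * x) (mul_mem hw hx) h2 h3 with h4 | h4
      · right; right; left
        rw [eq_inv_of_mul_eq_one_left h4, hxinv]
      · right; right; right
        rw [eq_mul_inv_of_mul_eq h4, hxinv, hxz']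
  have hsub : (Q : Set G) ⊆
      (([1, z, x, x * z, q, q * z, q * x, q * (x * z)] : List G).toFinset : Set G) := by
    intro y hy
    simp only [List.coe_toFinset, List.mem_cons, List.not_mem_nil, or_false, Set.mem_ofPred_eq]
    rcases h.comm y hy x hx with h1 | h1
    · rcases hw y hy h1 with h2 | h2 | h2 | h2 <;> simp [h2]
    · have h2 : (q⁻¹ * y) * x = x * (q⁻¹ * y) := by
        have a2 : x * q⁻¹ = q⁻¹ * x * z := by
          calc x * q⁻¹ = q⁻¹ * (q * x) * q⁻¹ := by group
            _ = q⁻¹ * (x * (q * z)) * q⁻¹ := by rw [hqx']; group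
            _ = q⁻¹ * (x * (z * q)) * q⁻¹ := by rw [h.comm_z q hq]
            _ = q⁻¹ * x * z := by group
        calc (q⁻¹ * y) * x = q⁻¹ * (y * x) := by group
          _ = q⁻¹ * (x * (y * z)) := by rw [h1]; group
          _ = (q⁻¹ * x * z) * y := by rw [h.comm_z y hy]; group
          _ = x * (q⁻¹ * y) := by rw [← a2]; group
      have h3 : y = q * (q⁻¹ * y) := by group
      rcases hw (q⁻¹ * y) (mul_mem (inv_mem hq) hy) h2 with h4 | h4 | h4 | h4 <;> rw [h4] at h3 <;>
        rw [h3] <;> simp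
  have h1 := Set.ncard_le_ncard hsub (Finset.finite_toSet _)
  rw [Set.ncard_coe_finset] at h1
  have h2 := List.toFinset_card_le [1, z, x, x * z, q, q * z, q * x, q * (x * z)]
  have h3 : Nat.card Q = (Q : Set G).ncard := rfl
  simp only [List.length_cons, List.length_nil] at h2
  omega

/-- **LEMMA SH**, `G` of characteristic 2 type, `t : z ↦ a ↦ a z` (as in `LargeExtra.Base.Pair.cycle`). -/
theorem false_of_cycle [Finite G] (hG : IsCharacteristicTwoType G) (h : Large Q z)
    (hcard : 8 < Nat.card Q) (hx : x ∈ Q) (hx2 : x * x = 1) (hx1 : x ≠ 1) (hxz : x ≠ z)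
    {t a : G} (htx : t * x = x * t) (hta : t * z * t⁻¹ = a) (haQ : a ∈ Q) (haz : a ≠ z)
    (hcyc : t * a * t⁻¹ = a * z) (hA1 : NoTwo Q z x) (hA2 : NoIso Q z x) : False := by
  subst hta
  refine false_of_shadow h hx hx2 hx1 hxz (exists_nonab h hx hx2 hx1 hxz hcard)
    (MinSimple.Basic.char2_centralizer hG (by rw [pow_two]; exact hx2) hx1) htx haQ haz
    (fun h1 => hxz ?_) hA1 hA2
  rw [h1] at hcyc
  have h2 : t * (x * z) * t⁻¹ = x * (t * z * t⁻¹) := by
    calc t * (x * z) * t⁻¹ = (t * x) * z * t⁻¹ := by group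
      _ = x * (t * z * t⁻¹) := by rw [htx]; group
  rw [h2, h1] at hcyc
  -- `x (x z) = x z z`
  have h3 : x * (x * z) = x * (z * z) := by rw [hcyc]; group
  exact mul_right_cancel (mul_left_cancel h3)

end

end Cfsg.Agent.Omega.Shadow

end

section


/-!
# Best offenders, module form (helper947, for `NO1/JMin.lean`; #15877 (ii'))

* `Best V X` : `X / C_X(V)` is elementary abelian and `|Y| |C_V(Y)| ≤ |X| |C_V(X)|` for `C_X(V) ≤ Y ≤ X`;
* `exists_best` : an offender `A` on `V` (`FFThm.OffM`) contains a best offender `X` with `[V, X] ≠ 1`;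
* `Best.map_equiv`, `Best.conj`, `Best.conj_smul` : `N_G(V)` permutes the best offenders;
* `Best.offM` : a best offender on `V` which does not centralise `W ≤ V` offends on `W` (no hypothesis on `V`, `W`).
-/

set_option autoImplicit false

namespace Cfsg.Agent.Omega.NO1.BestOff

open Subgroup Cfsg Cfsg.Agent.Omega.FFThm
open scoped Pointwise

variable {G : Type*} [Group G]

/-- `X` is a best offender on `V` (or centralises `V`). -/
structure Best (V X : Subgroup G) : Prop extends ElemM V X where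
  max : ∀ Y : Subgroup G, Y ≤ X → X ⊓ centralizer (V : Set G) ≤ Y →
    Nat.card Y * Nat.card ↥(V ⊓ centralizer (Y : Set G)) ≤
      Nat.card X * Nat.card ↥(V ⊓ centralizer (X : Set G))

theorem ElemM.mono {V A X : Subgroup G} (h : ElemM V A) (hX : X ≤ A) : ElemM V X :=
  ⟨fun a ha => h.sq a (hX ha), fun a ha b hb => h.comm a (hX ha) b (hX hb)⟩

/-- an offender contains a best offender which does not centralise `V` -/
theorem exists_best [Finite G] {V A : Subgroup G} (h : OffM V A) :
    ∃ X : Subgroup G, X ≤ A ∧ Best V X ∧ ¬ X ≤ centralizer (V : Set G) := by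
  set K : Subgroup G := A ⊓ centralizer (V : Set G) with hK
  have hKV : V ⊓ centralizer (K : Set G) = V := by
    rw [inf_eq_left]
    intro v hv
    rw [mem_centralizer_iff]
    intro k hk
    exact (mem_centralizer_iff.1 hk.2 v hv).symm
  obtain ⟨X, ⟨hKX, hXA⟩, hmax⟩ := Set.exists_max_image {Y : Subgroup G | K ≤ Y ∧ Y ≤ A}
    (fun Y => Nat.card Y * Nat.card ↥(V ⊓ centralizer (Y : Set G))) (Set.toFinite _) ⟨K, le_rfl, inf_le_left⟩
  have hbest : ∀ X' : Subgroup G, K ≤ X' → X' ≤ A →
      (∀ Y : Subgroup G, K ≤ Y → Y ≤ A → Nat.card Y * Nat.card ↥(V ⊓ centralizer (Y : Set G)) ≤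
        Nat.card X' * Nat.card ↥(V ⊓ centralizer (X' : Set G))) → Best V X' := by
    intro X' h1 h2 h3
    refine { toElemM := ElemM.mono h.toElemM h2, max := fun Y hY hYc => h3 Y ?_ (hY.trans h2) }
    exact (le_inf h1 inf_le_right : K ≤ X' ⊓ centralizer (V : Set G)).trans hYc
  by_cases hX : X ≤ centralizer (V : Set G)
  · refine ⟨A, le_rfl, hbest A inf_le_left le_rfl fun Y h1 h2 => ?_, h.ne⟩
    have hXK : X = K := le_antisymm (le_inf hXA hX) hKX
    refine (hmax Y ⟨h1, h2⟩).trans ?_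
    rw [hXK, hKV, mul_comm]
    exact h.le
  · exact ⟨X, hXA, hbest X hKX hXA fun Y h1 h2 => hmax Y ⟨h1, h2⟩, hX⟩

theorem card_map_equiv (e : G ≃* G) (X : Subgroup G) : Nat.card ↥(X.map e.toMonoidHom) = Nat.card X :=
  Nat.card_congr (X.equivMapOfInjective e.toMonoidHom e.injective).symm.toEquiv

theorem mem_map_iff (e : G ≃* G) (X : Subgroup G) (g : G) : e g ∈ X.map e.toMonoidHom ↔ g ∈ X := by
  constructor
  · rintro ⟨x, hx, h⟩
    have : x = g := e.injective h
    rwa [← this]
  · intro h; exact ⟨g, h, rfl⟩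

theorem mem_centralizer_map_iff (e : G ≃* G) (X : Subgroup G) (g : G) :
    e g ∈ centralizer (X.map e.toMonoidHom : Set G) ↔ g ∈ centralizer (X : Set G) := by
  rw [mem_centralizer_iff, mem_centralizer_iff]
  constructor
  · intro h x hx
    apply e.injective
    rw [map_mul, map_mul]
    exact h (e x) ⟨x, hx, rfl⟩
  · rintro h _ ⟨x, hx, rfl⟩
    show e x * e g = e g * e x
    rw [← map_mul, ← map_mul, h x hx]

theorem inf_centralizer_map (e : G ≃* G) {V : Subgroup G} (hV : V.map e.toMonoidHom = V) (X : Subgroup G) :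
    V ⊓ centralizer (X.map e.toMonoidHom : Set G) = (V ⊓ centralizer (X : Set G)).map e.toMonoidHom := by
  ext g
  obtain ⟨g, rfl⟩ := e.surjective g
  rw [mem_map_iff, mem_inf, mem_inf, mem_centralizer_map_iff]
  refine and_congr_left fun _ => ?_
  conv_lhs => rw [← hV]
  exact mem_map_iff e V g

theorem centralizer_map (e : G ≃* G) {V : Subgroup G} (hV : V.map e.toMonoidHom = V) (g : G) :
    e g ∈ centralizer (V : Set G) ↔ g ∈ centralizer (V : Set G) := by
  conv_lhs => rw [← hV]
  exact mem_centralizer_map_iff e V g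

theorem Best.map_equiv {V X : Subgroup G} (h : Best V X) (e : G ≃* G) (hV : V.map e.toMonoidHom = V) :
    Best V (X.map e.toMonoidHom) where
  sq := by
    rintro _ ⟨a, ha, rfl⟩
    show e a ^ 2 ∈ _
    rw [← map_pow]
    exact (centralizer_map e hV _).2 (h.sq a ha)
  comm := by
    rintro _ ⟨a, ha, rfl⟩ _ ⟨b, hb, rfl⟩
    show e a * e b * (e a)⁻¹ * (e b)⁻¹ ∈ _
    rw [← map_mul, ← map_inv, ← map_mul, ← map_inv, ← map_mul]
    exact (centralizer_map e hV _).2 (h.comm a ha b hb)
  max := by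
    intro Y hY hYc
    set Y' : Subgroup G := Y.comap e.toMonoidHom with hY'
    have hYY : Y'.map e.toMonoidHom = Y := map_comap_eq_self_of_surjective e.surjective Y
    have h1 : Y' ≤ X := by
      intro y hy
      exact (mem_map_iff e X y).1 (hY hy)
    have h2 : X ⊓ centralizer (V : Set G) ≤ Y' := by
      intro x hx
      exact hYc ⟨(mem_map_iff e X x).2 hx.1, (centralizer_map e hV x).2 hx.2⟩
    have h3 := h.max Y' h1 h2
    rw [← hYY, inf_centralizer_map e hV, inf_centralizer_map e hV, card_map_equiv, card_map_equiv,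
      card_map_equiv, card_map_equiv]
    exact h3

theorem map_conj_eq {V : Subgroup G} {n : G} (hn : n ∈ normalizer (V : Set G)) :
    V.map (MulAut.conj n).toMonoidHom = V := by
  ext g
  constructor
  · rintro ⟨v, hv, rfl⟩
    exact (mem_normalizer_iff.1 hn v).1 hv
  · intro hg
    refine ⟨n⁻¹ * g * n, (mem_normalizer_iff.1 hn _).2 ?_, ?_⟩
    · have : n * (n⁻¹ * g * n) * n⁻¹ = g := by group
      rw [this]; exact hg
    · show n * (n⁻¹ * g * n) * n⁻¹ = g
      group

/-- `N_G(V)` permutes the best offenders on `V` -/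
theorem Best.conj {V X : Subgroup G} (h : Best V X) {n : G} (hn : n ∈ normalizer (V : Set G)) :
    Best V (X.map (MulAut.conj n).toMonoidHom) := h.map_equiv (MulAut.conj n) (map_conj_eq hn)

theorem Best.conj_smul {V X : Subgroup G} (h : Best V X) {n : G} (hn : n ∈ normalizer (V : Set G)) :
    Best V (MulAut.conj n • X) := h.conj hn

/-- a best offender on `V` offends on every subgroup `W` of `V` which it does not centralise -/
theorem Best.offM [Finite G] {V W X : Subgroup G} (h : Best V X)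
    (hWV : W ≤ V) (hne : ¬ X ≤ centralizer (W : Set G)) : OffM W X where
  sq := fun a ha => centralizer_le hWV (h.sq a ha)
  comm := fun a ha b hb => centralizer_le hWV (h.comm a ha b hb)
  ne := hne
  le := by
    set Y : Subgroup G := X ⊓ centralizer (W : Set G) with hY
    set J : Subgroup G := V ⊓ centralizer (Y : Set G) with hJ
    set K : Subgroup G := V ⊓ centralizer (X : Set G) with hK
    have h1 := h.max Y inf_le_left (le_inf inf_le_left (inf_le_right.trans (centralizer_le hWV)))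
    have hKJ : K ≤ J := le_inf inf_le_left (inf_le_right.trans (centralizer_le (show (Y : Set G) ⊆ X from inf_le_left)))
    have hWJ : W ≤ J := by
      refine le_inf hWV fun w hw => mem_centralizer_iff.2 fun y hy => ?_
      exact (mem_centralizer_iff.1 hy.2 w hw).symm
    have hWK : W ⊓ K = W ⊓ centralizer (X : Set G) := by
      rw [hK, ← inf_assoc, inf_eq_left.2 hWV]
    have hc : ∀ L : Subgroup G, K.relIndex L * Nat.card ↥(L ⊓ K) = Nat.card L := by
      intro L
      have e := relIndex_inf_mul_relIndex (⊥ : Subgroup G) K L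
      rw [relIndex_bot_left, bot_inf_eq, relIndex_bot_left, mul_comm, inf_comm] at e
      exact e
    have h2 : K.relIndex W ≤ K.relIndex J := relIndex_le_of_le_right hWJ (by
    intro h0
    have h4 := hc J
    rw [h0, zero_mul] at h4
    exact Nat.card_pos.ne h4)
    have h3 := hc W
    have h4 := hc J
    rw [inf_eq_right.2 hKJ] at h4
    rw [hWK] at h3
    -- `|W| |K| ≤ |J| |W ∩ C(X)|`
    have h5 : Nat.card W * Nat.card K ≤ Nat.card J * Nat.card ↥(W ⊓ centralizer (X : Set G)) := by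
      rw [← h3, ← h4]
      calc K.relIndex W * Nat.card ↥(W ⊓ centralizer (X : Set G)) * Nat.card K
          = K.relIndex W * (Nat.card ↥(W ⊓ centralizer (X : Set G)) * Nat.card K) := by ring
        _ ≤ K.relIndex J * (Nat.card ↥(W ⊓ centralizer (X : Set G)) * Nat.card K) :=
            Nat.mul_le_mul_right _ h2
        _ = K.relIndex J * Nat.card K * Nat.card ↥(W ⊓ centralizer (X : Set G)) := by ring
    have hKpos : 0 < Nat.card K := Nat.card_pos
    refine Nat.le_of_mul_le_mul_right ?_ hKpos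
    calc Nat.card W * Nat.card Y * Nat.card K = Nat.card Y * (Nat.card W * Nat.card K) := by ring
      _ ≤ Nat.card Y * (Nat.card J * Nat.card ↥(W ⊓ centralizer (X : Set G))) := Nat.mul_le_mul_left _ h5
      _ = (Nat.card Y * Nat.card J) * Nat.card ↥(W ⊓ centralizer (X : Set G)) := by ring
      _ ≤ (Nat.card X * Nat.card K) * Nat.card ↥(W ⊓ centralizer (X : Set G)) := Nat.mul_le_mul_right _ h1
      _ = Nat.card X * Nat.card ↥(W ⊓ centralizer (X : Set G)) * Nat.card K := by ring

end Cfsg.Agent.Omega.NO1.BestOff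

end
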