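import Cfsg.Agent.Mrg.Omega.VP
import Mathlib
import Cfsg.Agent.StdRank2.OutField
import Cfsg.Agent.Transfer.FusionBasic
import Cfsg.Agent.S0215
import Cfsg.Agent.Omega.Lie.CompB
import Cfsg.Agent.Omega.Lie.CenTwo
import Cfsg.Prelude.Def_Local

section


/-!
# The FF theorem for mutual pairs

`S` a Sylow 2-subgroup of `G`, `G` of characteristic 2 type, `V_P = zl S P`.

* `exists_conj_le` : a 2-subgroup of `N_G(V_P)` is conjugate in `N_G(V_P)` to a subgroup of `S`;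
* `of_off` : an offender on `V_P` in `N_G(V_P)` gives `NoOver` and `Concl` for `P`;
* `le_of_noOver` : `NoOver V_P P` holds for all elementary abelian 2-subgroups of `N_G(V_P)`;
* `of_mutual` : both members of a mutual pair satisfy `NoOver` and `Concl`, and `|V : C_V(V')| = |V' : C_{V'}(V)|`;
* `Concl.cases` : `Single`, or `k ≥ 2` natural factors, or `k` even-subset modules.
-/

set_option autoImplicit false

namespace Cfsg.Agent.Omega.FFThm

open Subgroup Pointwise Cfsg Cfsg.Agent.ZN Cfsg.Agent.ZN.ChoiceBase Cfsg.Agent.ZN.ChoiceSit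
open Cfsg.Agent.Omega.MinPar Cfsg.Agent.Omega.FrameFF Cfsg.Agent.MinSimple.MinParabolic
open Cfsg.Agent.MinSimple.VModule (zl_comm zl_sq le_normalizer_zl)

universe u

section facts

variable {G : Type u} [Group G]

theorem syl_of_sylow (S : Sylow 2 G) {X : Subgroup G} (h : (S : Subgroup G) ≤ X) : Syl (S : Subgroup G) X :=
  ⟨h, S.isPGroup', fun _ _ hQ hSQ => S.is_maximal' hQ hSQ⟩

theorem isPGroup_of_elem {A : Subgroup G} (h : IsElementaryAbelian 2 A) : IsPGroup 2 A := by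
  rintro ⟨a, ha⟩
  exact ⟨1, Subtype.ext (by simpa using h.2 a ha)⟩

variable [Finite G]

theorem elem_zl (hc : IsCharacteristicTwoType G) (S : Sylow 2 G) {P : Subgroup G}
    (h : IsLoc (S : Subgroup G) P) : IsElementaryAbelian 2 (zl (S : Subgroup G) P) :=
  ⟨⟨⟨fun a b => Subtype.ext (zl_comm h.le S.isPGroup' (MinSimple.Basic.not_dvd_relIndex S h.le)
      (h.char2 S hc) a a.2 b b.2)⟩⟩,
    zl_sq h.le S.isPGroup' (MinSimple.Basic.not_dvd_relIndex S h.le) (h.char2 S hc)⟩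

/-- A 2-subgroup of `N ≥ S` is conjugate in `N` to a subgroup of `S`. -/
theorem exists_conj_le (S : Sylow 2 G) {N A : Subgroup G} (hSN : (S : Subgroup G) ≤ N) (hA : IsPGroup 2 A)
    (hAN : A ≤ N) : ∃ n ∈ N, cj n A ≤ (S : Subgroup G) := by
  obtain ⟨T, hT, hAT⟩ := exists_syl hA hAN
  obtain ⟨n, hn, h1⟩ := syl_conj hT (syl_of_sylow S hSN)
  exact ⟨n, hn, h1 ▸ cj_mono n hAT⟩

/-- Offenders in `N_G(V)` move into `S`. -/
theorem Off.exists_le (S : Sylow 2 G) {V A : Subgroup G} (hV : (S : Subgroup G) ≤ normalizer (V : Set G))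
    (hA : A ≤ normalizer (V : Set G)) (h : Off V A) : ∃ B ≤ (S : Subgroup G), Off V B := by
  obtain ⟨n, hn, h1⟩ := exists_conj_le S hV (isPGroup_of_elem h.elem) hA
  refine ⟨cj n A, h1, ?_⟩
  have h2 := off_cj h n
  rwa [cj_eq_of_mem_normalizer hn] at h2

/-- **An offender on `V_P` in `N_G(V_P)`**: the conclusion of the FF theorem for `P`. -/
theorem of_off (hFF : Stmt.{u}) (hc : IsCharacteristicTwoType G) (S : Sylow 2 G) {P : Subgroup G}
    (hP : IsPar (S : Subgroup G) P) {A : Subgroup G} (hA : A ≤ normalizer (zl (S : Subgroup G) P : Set G))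
    (h : Off (zl (S : Subgroup G) P) A) :
    NoOver (zl (S : Subgroup G) P) P ∧ Concl (S : Subgroup G) P := by
  obtain ⟨B, hB, hoff⟩ := h.exists_le S (hP.le.trans (le_normalizer_zl _ _)) hA
  exact hFF G (S : Subgroup G) P (syl_of_sylow S hP.le) hP.toIsMinPar (hP.isLoc.char2 S hc)
    ⟨B, hB.trans hP.le, hoff⟩

/-- `NoOver` for all elementary abelian 2-subgroups of `N_G(V_P)`. -/
theorem le_of_noOver (S : Sylow 2 G) {P V A : Subgroup G} (hSP : (S : Subgroup G) ≤ P)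
    (hPV : P ≤ normalizer (V : Set G)) (hNO : NoOver V P) (hA : IsElementaryAbelian 2 A)
    (hAN : A ≤ normalizer (V : Set G)) :
    Nat.card A * Nat.card ↥(V ⊓ centralizer (A : Set G)) ≤
      Nat.card V * Nat.card ↥(A ⊓ centralizer (V : Set G)) := by
  obtain ⟨n, hn, h1⟩ := exists_conj_le S (hSP.trans hPV) (isPGroup_of_elem hA) hAN
  have h2 := hNO (cj n A) (h1.trans hSP) (isElementaryAbelian_cj n hA)
  have h3 : cj n V = V := cj_eq_of_mem_normalizer hn
  have h4 : V ⊓ centralizer (cj n A : Set G) = cj n (V ⊓ centralizer (A : Set G)) := by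
    rw [cj_inf, cj_centralizer, h3]
  have h5 : cj n A ⊓ centralizer (V : Set G) = cj n (A ⊓ centralizer (V : Set G)) := by
    rw [cj_inf, cj_centralizer, h3]
  rw [h4, h5, card_cj, card_cj, card_cj] at h2
  exact h2

end facts

/-! ### Mutual pairs -/

section pair

variable {G : Type u} [Group G] [Finite G]

omit [Finite G] in
theorem conj_smul_eq_cj (x : G) (H : Subgroup G) : MulAut.conj x • H = cj x H := rfl

omit [Finite G] in
theorem Mutual.not_le {S P₁ P₂ : Subgroup G} {x : G} (h : Mutual S P₁ P₂ x) :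
    ¬ MulAut.conj x • zl S P₂ ≤ centralizer (zl S P₁ : Set G) := by
  intro h1
  apply h.ne
  rw [commutator_comm, commutator_eq_bot_iff_le_centralizer]
  exact h1

/-- The first member of a mutual pair with `V'` an offender on `V`. -/
theorem of_mutual_off (hFF : Stmt.{u}) (hc : IsCharacteristicTwoType G) (S : Sylow 2 G)
    {P₁ P₂ : Subgroup G} {x : G} (h : Mutual (S : Subgroup G) P₁ P₂ x)
    (hoff : Off (zl (S : Subgroup G) P₁) (cj x (zl (S : Subgroup G) P₂))) :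
    (NoOver (zl (S : Subgroup G) P₁) P₁ ∧ Concl (S : Subgroup G) P₁) ∧
      Off (cj x (zl (S : Subgroup G) P₂)) (zl (S : Subgroup G) P₁) := by
  have h1 := of_off hFF hc S h.star₁.toIsPar h.le₂ hoff
  refine ⟨h1, elem_zl hc S h.star₁.isLoc, ?_, ?_⟩
  · exact fun h2 => hoff.ne (le_centralizer_iff.mp h2)
  · exact le_of_noOver S h.star₁.le (le_normalizer_zl _ _) h1.1 hoff.elem h.le₂

/-- **Both members of a mutual pair.** -/
theorem of_mutual (hFF : Stmt.{u}) (hc : IsCharacteristicTwoType G) (S : Sylow 2 G)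
    {P₁ P₂ : Subgroup G} {x : G} (h : Mutual (S : Subgroup G) P₁ P₂ x) :
    (NoOver (zl (S : Subgroup G) P₁) P₁ ∧ Concl (S : Subgroup G) P₁) ∧
      (NoOver (zl (S : Subgroup G) P₂) P₂ ∧ Concl (S : Subgroup G) P₂) ∧
      Off (zl (S : Subgroup G) P₁) (MulAut.conj x • zl (S : Subgroup G) P₂) ∧
      Off (MulAut.conj x • zl (S : Subgroup G) P₂) (zl (S : Subgroup G) P₁) ∧
      Nat.card (zl (S : Subgroup G) P₁) *
          Nat.card ↥((MulAut.conj x • zl (S : Subgroup G) P₂) ⊓ centralizer (zl (S : Subgroup G) P₁ : Set G)) =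
        Nat.card ↥(MulAut.conj x • zl (S : Subgroup G) P₂) *
          Nat.card ↥(zl (S : Subgroup G) P₁ ⊓
            centralizer ((MulAut.conj x • zl (S : Subgroup G) P₂ : Subgroup G) : Set G)) := by
  -- both are offenders on each other as soon as one is
  have key : ∀ {Q₁ Q₂ : Subgroup G} {y : G}, Mutual (S : Subgroup G) Q₁ Q₂ y →
      Off (zl (S : Subgroup G) Q₁) (cj y (zl (S : Subgroup G) Q₂)) →
      (NoOver (zl (S : Subgroup G) Q₁) Q₁ ∧ Concl (S : Subgroup G) Q₁) ∧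
        (NoOver (zl (S : Subgroup G) Q₂) Q₂ ∧ Concl (S : Subgroup G) Q₂) ∧
        Off (cj y (zl (S : Subgroup G) Q₂)) (zl (S : Subgroup G) Q₁) := by
    intro Q₁ Q₂ y hm hoff
    obtain ⟨h1, h2⟩ := of_mutual_off hFF hc S hm hoff
    refine ⟨h1, ?_, h2⟩
    have h3 := off_cj h2 y⁻¹
    rw [cj_inv_cj] at h3
    exact (of_mutual_off hFF hc S hm.symm h3).1
  have hboth : (NoOver (zl (S : Subgroup G) P₁) P₁ ∧ Concl (S : Subgroup G) P₁) ∧
      (NoOver (zl (S : Subgroup G) P₂) P₂ ∧ Concl (S : Subgroup G) P₂) ∧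
      Off (zl (S : Subgroup G) P₁) (cj x (zl (S : Subgroup G) P₂)) ∧
      Off (cj x (zl (S : Subgroup G) P₂)) (zl (S : Subgroup G) P₁) := by
    rcases off_or (elem_zl hc S h.star₁.isLoc) (isElementaryAbelian_cj x (elem_zl hc S h.star₂.isLoc))
      (Mutual.not_le h) with h1 | h1
    · obtain ⟨h2, h3, h4⟩ := key h h1
      exact ⟨h2, h3, h1, h4⟩
    · have h2 := off_cj h1 x⁻¹
      rw [cj_inv_cj] at h2
      obtain ⟨h3, h4, h5⟩ := key h.symm h2
      refine ⟨h4, h3, ?_, h1⟩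
      have h6 := off_cj h5 x
      rwa [cj_cj_inv] at h6
  obtain ⟨h1, h2, h3, h4⟩ := hboth
  exact ⟨h1, h2, h3, h4, le_antisymm h3.le h4.le⟩

end pair

/-! ### The cases of the conclusion -/

section conclcases

variable {G : Type u} [Group G] {T H : Subgroup G}

theorem Concl.cases (h : Concl T H) : Single T H ∨
    (∃ (F : Type) (_ : Field F) (_ : Finite F) (_ : CharP F 2) (k : ℕ),
      2 ≤ k ∧ Nonempty (NatK F T H (zl T H) (cv T H) k)) ∨
    ∃ k m : ℕ, 0 < k ∧ 2 ≤ m ∧ Nonempty (SymK T H (zl T H) (cv T H) k m) := by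
  rcases h with ⟨F, i1, i2, i3, k, hk, ⟨M⟩⟩ | h
  · rcases Nat.lt_or_ge k 2 with h2 | h2
    · obtain rfl : k = 1 := by omega
      exact Or.inl M.single
    · exact Or.inr (Or.inl ⟨F, i1, i2, i3, k, h2, ⟨M⟩⟩)
  · exact Or.inr (Or.inr h)

end conclcases

end Cfsg.Agent.Omega.FFThm

end

section


/-!
# `LeafMulti` from the FF theorem: the leaves II.c, II.d, F3, F4

A mutual pair `V = V_{P₁}`, `V' = (V_{P₂})^x` with a member which is not one natural `SL₂(q)`-module.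

* `IsNat S P k` : `V_P / C_V(O²(P))` is the sum of `k` natural `SL₂(F)`-modules (`FFThm.NatK`);
* `IsSym S P k m` : the sum of `k` even-subset modules of symmetric groups of degree `2^m + 1`
  (`FFThm.SymK`);
* `Typed S P` : no over-offenders and one of the two types; `AllTyped S` : all members of mutual pairs;
* `NoWr S` : all members of mutual pairs have one factor; `SymFree S` : `C_V(O²(P)) = 1` for both members of
  every mutual pair with a member of type `S_{2^m+1}`;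
* leaves (class `K`, with `Ctx G`, `K G`, `Full S`, `AllIn S`, `AllTyped S`):
  - `LeafWr` (II.d): `P₁` has `k ≥ 2` natural factors;
  - `LeafSymWr` (II.d): `P₁` has `k ≥ 2` factors `S_{2^m+1}`;
  - `LeafC` (II.c, F3): one factor, `P₁` of type `S_{2^m+1}`, `C_V(O²(P)) = 1`;
  - `LeafF4` (F4): one factor, `P₁` of type `S_{2^m+1}`, `C_V(O²(P)) ≠ 1` for one of the members;
* `typedStep` : `FFThm.Stmt` implies `AllTyped S`;
* `leafMulti` : these leaves and the FF theorem imply `FrameFF.LeafMulti`.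
-/

set_option autoImplicit false

namespace Cfsg.Agent.Omega.FrameMulti

open Subgroup Cfsg Cfsg.Agent.ZN Cfsg.Agent.Omega.MinPar Cfsg.Agent.Omega.Frame
open Cfsg.Agent.Omega.FrameLE (AllIn)
open Cfsg.Agent.Omega.FrameFF (cv Single Free LeafMulti)
open Cfsg.Agent.Omega.FFThm (NatK SymK Off NoOver Concl)

universe u

/-! ### Types of members of mutual pairs -/

section defs

variable {G : Type u} [Group G]

/-- `P` has `k` natural factors. -/
def IsNat (S P : Subgroup G) (k : ℕ) : Prop :=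
  ∃ (F : Type) (_ : Field F) (_ : Finite F) (_ : CharP F 2), Nonempty (NatK F S P (zl S P) (cv S P) k)

/-- `P` has `k` factors `S_{2^m+1}`. -/
def IsSym (S P : Subgroup G) (k m : ℕ) : Prop := Nonempty (SymK S P (zl S P) (cv S P) k m)

/-- The conclusion of the FF theorem. -/
structure Typed (S P : Subgroup G) : Prop where
  noOver : NoOver (zl S P) P
  concl : Concl S P

/-- All members of mutual pairs satisfy the conclusion of the FF theorem. -/
def AllTyped (S : Subgroup G) : Prop :=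
  ∀ (P₁ P₂ : Subgroup G) (x : G), Mutual S P₁ P₂ x → Typed S P₁ ∧ Typed S P₂

/-- No member of a mutual pair has more than one factor. -/
def NoWr (S : Subgroup G) : Prop :=
  ∀ (P₁ P₂ : Subgroup G) (x : G), Mutual S P₁ P₂ x → ∀ k, 2 ≤ k →
    ¬ IsNat S P₁ k ∧ ∀ m, 2 ≤ m → ¬ IsSym S P₁ k m

/-- If a member of a mutual pair is of type `S_{2^m+1}`, then `C_V(O²(P)) = 1` for both members. -/
def SymFree (S : Subgroup G) : Prop :=
  ∀ (P₁ P₂ : Subgroup G) (x : G), Mutual S P₁ P₂ x → ∀ m, 2 ≤ m → IsSym S P₁ 1 m →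
    Free S P₁ ∧ Free S P₂

theorem IsNat.single {S P : Subgroup G} (h : IsNat S P 1) : Single S P := by
  obtain ⟨F, i1, i2, i3, ⟨N⟩⟩ := h
  exact N.single

/-- The type of a member of a mutual pair. -/
theorem Typed.cases {S P : Subgroup G} (h : Typed S P) :
    (∃ k, 1 ≤ k ∧ IsNat S P k) ∨ ∃ k m, 1 ≤ k ∧ 2 ≤ m ∧ IsSym S P k m := by
  rcases h.concl with ⟨F, i1, i2, i3, k, hk, hN⟩ | ⟨k, m, hk, hm, hS⟩
  · exact Or.inl ⟨k, hk, F, i1, i2, i3, hN⟩
  · exact Or.inr ⟨k, m, hk, hm, hS⟩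

/-- If no member has more than one factor, the types are: one natural factor, one factor `S_{2^m+1}`. -/
theorem NoWr.cases {S P₁ P₂ : Subgroup G} {x : G} (h : NoWr S) (hT : AllTyped S) (hm : Mutual S P₁ P₂ x) :
    IsNat S P₁ 1 ∨ ∃ m, 2 ≤ m ∧ IsSym S P₁ 1 m := by
  rcases (hT P₁ P₂ x hm).1.cases with ⟨k, hk, hN⟩ | ⟨k, m, hk, hm2, hS⟩
  · rcases Nat.lt_or_ge k 2 with h1 | h1
    · have h2 : k = 1 := by omega
      rw [h2] at hN
      exact Or.inl hN
    · exact absurd hN (h P₁ P₂ x hm k h1).1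
  · rcases Nat.lt_or_ge k 2 with h1 | h1
    · have h2 : k = 1 := by omega
      rw [h2] at hS
      exact Or.inr ⟨m, hm2, hS⟩
    · exact absurd hS ((h P₁ P₂ x hm k h1).2 m hm2)

end defs

/-! ### The leaves -/

section leaves

variable (K : Cls.{u})

/-- II.d, natural factors: `P₁` has `k ≥ 2` natural factors; `C_V(O²(P₁))` and `P₂` arbitrary.
(helper36, helper612) -/
def LeafWr : Prop :=
  ∀ (G : Type u) [Group G] [Finite G], Ctx G → K G → ∀ (S : Sylow 2 G), Full (S : Subgroup G) →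
    AllIn (S : Subgroup G) → AllTyped (S : Subgroup G) →
    ∀ (P₁ P₂ : Subgroup G) (x : G), Mutual (S : Subgroup G) P₁ P₂ x →
      ∀ k, 2 ≤ k → IsNat (S : Subgroup G) P₁ k → IsKnownSimple' G

/-- II.d, symmetric factors: `P₁` has `k ≥ 2` factors `S_{2^m+1}`; `C_V(O²(P₁))` and `P₂` arbitrary.
(helper36, helper242) -/
def LeafSymWr : Prop :=
  ∀ (G : Type u) [Group G] [Finite G], Ctx G → K G → ∀ (S : Sylow 2 G), Full (S : Subgroup G) →
    AllIn (S : Subgroup G) → AllTyped (S : Subgroup G) →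
    ∀ (P₁ P₂ : Subgroup G) (x : G), Mutual (S : Subgroup G) P₁ P₂ x →
      ∀ k m, 2 ≤ k → 2 ≤ m → IsSym (S : Subgroup G) P₁ k m → IsKnownSimple' G

/-- II.c and F3: all members have one factor, `P₁` is of type `S_{2^m+1}`, `P₂` of type `S_{2^m'+1}` or one
natural `SL₂(q)`-module, `C_V(O²(P)) = 1`. (helper629) -/
def LeafC : Prop :=
  ∀ (G : Type u) [Group G] [Finite G], Ctx G → K G → ∀ (S : Sylow 2 G), Full (S : Subgroup G) →
    AllIn (S : Subgroup G) → AllTyped (S : Subgroup G) → NoWr (S : Subgroup G) → SymFree (S : Subgroup G) →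
    ∀ (P₁ P₂ : Subgroup G) (x : G), Mutual (S : Subgroup G) P₁ P₂ x →
      Free (S : Subgroup G) P₁ → Free (S : Subgroup G) P₂ →
      ∀ m, 2 ≤ m → IsSym (S : Subgroup G) P₁ 1 m →
        (IsNat (S : Subgroup G) P₂ 1 ∨ ∃ m', 2 ≤ m' ∧ IsSym (S : Subgroup G) P₂ 1 m') → IsKnownSimple' G

/-- F4: all members have one factor, `P₁` is of type `S_{2^m+1}`, `C_V(O²(P)) ≠ 1` for one of the members.
(helper816, helper615) -/
def LeafF4 : Prop :=
  ∀ (G : Type u) [Group G] [Finite G], Ctx G → K G → ∀ (S : Sylow 2 G), Full (S : Subgroup G) →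
    AllIn (S : Subgroup G) → AllTyped (S : Subgroup G) → NoWr (S : Subgroup G) →
    ∀ (P₁ P₂ : Subgroup G) (x : G), Mutual (S : Subgroup G) P₁ P₂ x →
      ¬ (Free (S : Subgroup G) P₁ ∧ Free (S : Subgroup G) P₂) →
      ∀ m, 2 ≤ m → IsSym (S : Subgroup G) P₁ 1 m →
        (IsNat (S : Subgroup G) P₂ 1 ∨ ∃ m', 2 ≤ m' ∧ IsSym (S : Subgroup G) P₂ 1 m') → IsKnownSimple' G

end leaves

/-! ### The node -/

/-- The consequence of the FF theorem for mutual pairs (`FFThm.of_mutual`). -/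
def TypedStep : Prop :=
  ∀ (G : Type u) [Group G] [Finite G], Ctx G → ∀ (S : Sylow 2 G), AllTyped (S : Subgroup G)

theorem typedStep (hFF : FFThm.Stmt.{u}) : TypedStep.{u} := by
  intro G _ _ hG S P₁ P₂ x hm
  obtain ⟨h1, h2, -⟩ := FFThm.of_mutual hFF hG.char2 S hm
  exact ⟨⟨h1.1, h1.2⟩, ⟨h2.1, h2.2⟩⟩

/-- **`LeafMulti` from its leaves.** -/
theorem leafMulti_of {K : Cls.{u}} (hT : TypedStep.{u}) (hW : LeafWr K) (hSW : LeafSymWr K) (hC : LeafC K)
    (hF4 : LeafF4 K) : LeafMulti K := by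
  intro G _ _ hG hcl S hF hLE P₁ P₂ x hm hns
  have hAT : AllTyped (S : Subgroup G) := hT G hG S
  by_cases hNW : NoWr (S : Subgroup G)
  · have c1 := hNW.cases hAT hm
    have c2 := hNW.cases hAT hm.symm
    -- one of the members is of type `S_{2^m+1}`
    obtain ⟨P, P', y, hm', m, hm2, hS, hc⟩ : ∃ (P P' : Subgroup G) (y : G), Mutual (S : Subgroup G) P P' y ∧
        ∃ m, 2 ≤ m ∧ IsSym (S : Subgroup G) P 1 m ∧
          (IsNat (S : Subgroup G) P' 1 ∨ ∃ m', 2 ≤ m' ∧ IsSym (S : Subgroup G) P' 1 m') := by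
      rcases c1 with h1 | ⟨m, hm2, h1⟩
      · rcases c2 with h2 | ⟨m, hm2, h2⟩
        · exact absurd ⟨h1.single, h2.single⟩ hns
        · exact ⟨P₂, P₁, x⁻¹, hm.symm, m, hm2, h2, Or.inl h1⟩
      · exact ⟨P₁, P₂, x, hm, m, hm2, h1, c2⟩
    by_cases hSF : SymFree (S : Subgroup G)
    · obtain ⟨f1, f2⟩ := hSF P P' y hm' m hm2 hS
      exact hC G hG hcl S hF hLE hAT hNW hSF P P' y hm' f1 f2 m hm2 hS hc
    · unfold SymFree at hSF
      push Not at hSF
      obtain ⟨Q, Q', z, hq, n, hn2, hQ, hfr⟩ := hSF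
      exact hF4 G hG hcl S hF hLE hAT hNW Q Q' z hq (fun h => hfr h.1 h.2) n hn2 hQ
        (hNW.cases hAT hq.symm)
  · unfold NoWr at hNW
    push Not at hNW
    obtain ⟨Q, Q', z, hq, k, hk, h⟩ := hNW
    by_cases hN : IsNat (S : Subgroup G) Q k
    · exact hW G hG hcl S hF hLE hAT Q Q' z hq k hk hN
    · obtain ⟨m, hm2, hS⟩ := h hN
      exact hSW G hG hcl S hF hLE hAT Q Q' z hq k m hk hm2 hS

/-- **`LeafMulti` from the FF theorem and the leaves.** -/
theorem leafMulti {K : Cls.{u}} (hFF : FFThm.Stmt.{u}) (hW : LeafWr K) (hSW : LeafSymWr K) (hC : LeafC K)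
    (hF4 : LeafF4 K) : LeafMulti K := leafMulti_of (typedStep hFF) hW hSW hC hF4

end Cfsg.Agent.Omega.FrameMulti

end

section


/-!
# Mutual pairs in normal position

* `Pair S S' P P'` : `P ∈ P*(S)`, `P' ∈ P*(S')`, `V' ≤ S`, `V ≤ S'`, `[V, V'] ≠ 1` for `V = zl S P`, `V' = zl S' P'`;
* `exists_pair` : a mutual pair `Mutual S P₁ P₂ x` gives a pair in normal position with `P = P₁`,
  `S' = S^y`, `P' = P₂^y`;
* `NatK.cj`, `SymK.cj`, `cv_cj`, `isNat_cj`, `isSym_cj` : conjugates of typed groups.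
-/

set_option autoImplicit false

namespace Cfsg.Agent.Omega.IId

open Subgroup Pointwise Cfsg Cfsg.Agent.ZN Cfsg.Agent.ZN.ChoiceBase Cfsg.Agent.ZN.ChoiceSit
open Cfsg.Agent.Omega.MinPar Cfsg.Agent.Omega.FrameFF Cfsg.Agent.Omega.FrameMulti
open Cfsg.Agent.Omega.FFThm
open Cfsg.Agent.MinSimple.VModule (zl_comm zl_sq le_normalizer_zl oddGen mem_oddGen)
open Cfsg.Agent.Lib.SL2Mat
open Cfsg.Agent.Omega.NatPair (ap)

universe u

section conj

variable {G : Type u} [Group G]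

theorem zl_cj (x : G) (S P : Subgroup G) : zl (cj x S) (cj x P) = cj x (zl S P) :=
  zl_map _ (MulAut.conj x).injective S P

theorem isParS_cj {S P : Subgroup G} (h : IsParS S P) (x : G) : IsParS (cj x S) (cj x P) :=
  h.map (MulAut.conj x)

theorem oddGen_le_cj (x : G) (P : Subgroup G) : cj x (oddGen P) ≤ oddGen (cj x P) := by
  rw [MinSimple.VModule.oddGen_def]
  change Subgroup.map _ _ ≤ _
  rw [MonoidHom.map_closure, closure_le]
  rintro _ ⟨y, ⟨hy, ho⟩, rfl⟩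
  refine mem_oddGen ⟨y, hy, rfl⟩ ?_
  have h1 : orderOf ((MulAut.conj x).toMonoidHom y) = orderOf y :=
    orderOf_injective _ (MulAut.conj x).injective y
  rw [h1]
  exact ho

theorem oddGen_cj (x : G) (P : Subgroup G) : oddGen (cj x P) = cj x (oddGen P) := by
  refine le_antisymm ?_ (oddGen_le_cj x P)
  have h1 := cj_mono x (oddGen_le_cj x⁻¹ (cj x P))
  rw [cj_cj_inv, cj_inv_cj] at h1
  exact h1

theorem cv_cj (x : G) (S P : Subgroup G) : cv (cj x S) (cj x P) = cj x (cv S P) := by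
  rw [cv, cv, cj_inf, zl_cj, oddGen_cj, cj_centralizer]

theorem free_cj {x : G} {S P : Subgroup G} (h : Free S P) : Free (cj x S) (cj x P) := by
  rw [Free, cv_cj, h]
  exact Subgroup.map_bot _

variable {T H V D : Subgroup G} {k : ℕ}

theorem mem_cj_iff {x v : G} {A : Subgroup G} : v ∈ cj x A ↔ x⁻¹ * v * x ∈ A := mem_cj

/-- Conjugate of a sum of natural modules. -/
def NatK.cj {F : Type} [Field F] (M : NatK F T H V D k) (x : G) :
    NatK F (ChoiceBase.cj x T) (ChoiceBase.cj x H) (ChoiceBase.cj x V) (ChoiceBase.cj x D) k := by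
  have acts : ∀ g A, ActsSL M.e V D g A →
      ActsSL (fun v => M.e (x⁻¹ * v * x)) (ChoiceBase.cj x V) (ChoiceBase.cj x D) (x * g * x⁻¹) A := by
    rintro g A ⟨h1, h2⟩
    refine ⟨fun v hv i => ?_, fun d hd => ?_⟩
    · have h3 := h1 _ (mem_cj.1 hv) i
      have e : x⁻¹ * (x * g * x⁻¹ * v * (x * g * x⁻¹)⁻¹) * x = g * (x⁻¹ * v * x) * g⁻¹ := by group
      change M.e (x⁻¹ * (x * g * x⁻¹ * v * (x * g * x⁻¹)⁻¹) * x) i = ap (A i) (M.e (x⁻¹ * v * x) i)
      rw [e, h3]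
    · have h3 := h2 _ (mem_cj.1 hd)
      calc x * g * x⁻¹ * d = x * (g * (x⁻¹ * d * x)) * x⁻¹ := by group
        _ = x * ((x⁻¹ * d * x) * g) * x⁻¹ := by rw [h3]
        _ = d * (x * g * x⁻¹) := by group
  have acts' : ∀ g A, ActsSL (fun v => M.e (x⁻¹ * v * x)) (ChoiceBase.cj x V) (ChoiceBase.cj x D) g A →
      ActsSL M.e V D (x⁻¹ * g * x) A := by
    rintro g A ⟨h1, h2⟩
    refine ⟨fun v hv i => ?_, fun d hd => ?_⟩
    · have hv' : x * v * x⁻¹ ∈ ChoiceBase.cj x V := by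
        rw [mem_cj]
        have e : x⁻¹ * (x * v * x⁻¹) * x = v := by group
        rwa [e]
      have h3 := h1 _ hv' i
      dsimp only at h3
      have e1 : x⁻¹ * (g * (x * v * x⁻¹) * g⁻¹) * x = x⁻¹ * g * x * v * (x⁻¹ * g * x)⁻¹ := by group
      have e2 : x⁻¹ * (x * v * x⁻¹) * x = v := by group
      rwa [e1, e2] at h3
    · have hd' : x * d * x⁻¹ ∈ ChoiceBase.cj x D := by
        rw [mem_cj]
        have e : x⁻¹ * (x * d * x⁻¹) * x = d := by group
        rwa [e]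
      have h3 := h2 _ hd'
      calc x⁻¹ * g * x * d = x⁻¹ * (g * (x * d * x⁻¹)) * x := by group
        _ = x⁻¹ * (x * d * x⁻¹ * g) * x := by rw [h3]
        _ = d * (x⁻¹ * g * x) := by group
  have mem : ∀ {A : Subgroup G} {g : G}, g ∈ A → x * g * x⁻¹ ∈ ChoiceBase.cj x A := by
    intro A g hg
    exact ⟨g, hg, rfl⟩
  have ex : ∀ v : G, x⁻¹ * (x * v * x⁻¹) * x = v := fun v => by group
  exact
  { e := fun v => M.e (x⁻¹ * v * x)
    mul := fun v hv w hw => by
      have e : x⁻¹ * (v * w) * x = (x⁻¹ * v * x) * (x⁻¹ * w * x) := by group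
      rw [e, M.mul _ (mem_cj.1 hv) _ (mem_cj.1 hw)]
    surj := fun y => by
      obtain ⟨v, hv, h1⟩ := M.surj y
      exact ⟨x * v * x⁻¹, mem hv, by rw [ex, h1]⟩
    ker := fun v hv => by
      rw [M.ker _ (mem_cj.1 hv), mem_cj]
    lift := fun A => by
      obtain ⟨g, hg, h1⟩ := M.lift A
      exact ⟨x * g * x⁻¹, mem hg, acts g A h1⟩
    norm := fun g hg h hh A hA => by
      obtain ⟨B, hB⟩ := M.norm _ (mem_cj.1 hg) _ (mem_cj.1 hh) A fun v hv i => by
        have h3 := hA _ (mem hv) i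
        have e1 : x⁻¹ * (h * (x * v * x⁻¹) * h⁻¹) * x = x⁻¹ * h * x * v * (x⁻¹ * h * x)⁻¹ := by group
        rwa [e1, ex] at h3
      refine ⟨B, fun v hv i => ?_⟩
      have h3 := hB _ (mem_cj.1 hv) i
      have e1 : x⁻¹ * (g * h * g⁻¹ * v * (g * h * g⁻¹)⁻¹) * x =
          x⁻¹ * g * x * (x⁻¹ * h * x) * (x⁻¹ * g * x)⁻¹ * (x⁻¹ * v * x) *
            (x⁻¹ * g * x * (x⁻¹ * h * x) * (x⁻¹ * g * x)⁻¹)⁻¹ := by group
      rw [e1, h3]
    perm := fun g hg => by
      obtain ⟨σ, hσ⟩ := M.perm _ (mem_cj.1 hg)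
      refine ⟨σ, fun v hv i => ?_⟩
      have h3 := hσ _ (mem_cj.1 hv) i
      have e1 : x⁻¹ * (g * v * g⁻¹) * x = x⁻¹ * g * x * (x⁻¹ * v * x) * (x⁻¹ * g * x)⁻¹ := by group
      rw [e1, h3]
    trans := fun i j => by
      obtain ⟨t, ht, h1⟩ := M.trans i j
      refine ⟨x * t * x⁻¹, mem ht, fun v hv => ?_⟩
      have h3 := h1 _ (mem_cj.1 hv)
      have e1 : x⁻¹ * (x * t * x⁻¹ * v * (x * t * x⁻¹)⁻¹) * x = t * (x⁻¹ * v * x) * t⁻¹ := by group
      rw [e1, h3]
    line := fun t ht => by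
      obtain ⟨σ, hσ⟩ := M.line _ (mem_cj.1 ht)
      refine ⟨σ, fun v hv i => ?_⟩
      have h3 := hσ _ (mem_cj.1 hv) i
      have e1 : x⁻¹ * (t * v * t⁻¹) * x = x⁻¹ * t * x * (x⁻¹ * v * x) * (x⁻¹ * t * x)⁻¹ := by group
      rw [e1, h3]
    unip := fun b => by
      obtain ⟨t, ht, h1⟩ := M.unip b
      exact ⟨x * t * x⁻¹, mem ht, acts t _ h1⟩
    gen := fun K hTK hK => by
      have h1 : ChoiceBase.cj x⁻¹ K = ChoiceBase.cj x⁻¹ K := rfl
      have h2 : T ≤ ChoiceBase.cj x⁻¹ K := by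
        intro t ht
        rw [mem_cj, inv_inv]
        exact hTK (mem ht)
      have h3 := M.gen (ChoiceBase.cj x⁻¹ K) h2 fun h hh A hA => by
        rw [mem_cj, inv_inv]
        exact hK _ (mem hh) A (acts h A hA)
      intro g hg
      have h4 := h3 (mem_cj.1 hg)
      rw [mem_cj, inv_inv] at h4
      have e : x * (x⁻¹ * g * x) * x⁻¹ = g := by group
      rwa [e] at h4
    off := fun A hA hoff => by
      have h1 : ChoiceBase.cj x⁻¹ A ≤ T := by
        intro a ha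
        rw [mem_cj, inv_inv] at ha
        have := mem_cj.1 (hA ha)
        rwa [ex] at this
      have h2 := off_cj hoff x⁻¹
      rw [cj_inv_cj] at h2
      obtain ⟨I, hI1, hI2⟩ := M.off _ h1 h2
      refine ⟨I, fun a ha => ?_, fun b hb => ?_⟩
      · have h3 : x⁻¹ * a * x ∈ ChoiceBase.cj x⁻¹ A := by
          rw [mem_cj, inv_inv]
          have e : x * (x⁻¹ * a * x) * x⁻¹ = a := by group
          rwa [e]
        obtain ⟨b, hb, h4⟩ := hI1 _ h3
        refine ⟨b, hb, ?_⟩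
        have h5 := acts _ _ h4
        have e : x * (x⁻¹ * a * x) * x⁻¹ = a := by group
        rwa [e] at h5
      · obtain ⟨a, ha, h3⟩ := hI2 b hb
        rw [mem_cj, inv_inv] at ha
        exact ⟨x * a * x⁻¹, ha, acts a _ h3⟩ }

/-- Conjugate of a sum of even-subset modules. -/
def SymK.cj {m : ℕ} (M : SymK T H V D k m) (x : G) :
    SymK (ChoiceBase.cj x T) (ChoiceBase.cj x H) (ChoiceBase.cj x V) (ChoiceBase.cj x D) k m := by
  have acts : ∀ g σ τ, ActsSym M.e V g σ τ →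
      ActsSym (fun v => M.e (x⁻¹ * v * x)) (ChoiceBase.cj x V) (x * g * x⁻¹) σ τ := by
    intro g σ τ h1 v hv i y
    have h3 := h1 _ (mem_cj.1 hv) i y
    have e : x⁻¹ * (x * g * x⁻¹ * v * (x * g * x⁻¹)⁻¹) * x = g * (x⁻¹ * v * x) * g⁻¹ := by group
    change M.e (x⁻¹ * (x * g * x⁻¹ * v * (x * g * x⁻¹)⁻¹) * x) (σ i) (τ i y) = M.e (x⁻¹ * v * x) i y
    rw [e, h3]
  have mem : ∀ {A : Subgroup G} {g : G}, g ∈ A → x * g * x⁻¹ ∈ ChoiceBase.cj x A := by
    intro A g hg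
    exact ⟨g, hg, rfl⟩
  have ex : ∀ v : G, x⁻¹ * (x * v * x⁻¹) * x = v := fun v => by group
  have ex' : ∀ v : G, x * (x⁻¹ * v * x) * x⁻¹ = v := fun v => by group
  have acts' : ∀ g σ τ, ActsSym (fun v => M.e (x⁻¹ * v * x)) (ChoiceBase.cj x V) g σ τ →
      ActsSym M.e V (x⁻¹ * g * x) σ τ := by
    intro g σ τ h1 v hv i y
    have h3 := h1 _ (mem hv) i y
    have e : x⁻¹ * (g * (x * v * x⁻¹) * g⁻¹) * x = x⁻¹ * g * x * v * (x⁻¹ * g * x)⁻¹ := by group
    change M.e (x⁻¹ * (g * (x * v * x⁻¹) * g⁻¹) * x) (σ i) (τ i y) = M.e (x⁻¹ * (x * v * x⁻¹) * x) i y at h3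
    rwa [e, ex] at h3
  have cen : ∀ g, (∀ d ∈ D, g * d = d * g) → ∀ d ∈ ChoiceBase.cj x D, x * g * x⁻¹ * d = d * (x * g * x⁻¹) := by
    intro g h2 d hd
    have h3 := h2 _ (mem_cj.1 hd)
    calc x * g * x⁻¹ * d = x * (g * (x⁻¹ * d * x)) * x⁻¹ := by group
      _ = x * ((x⁻¹ * d * x) * g) * x⁻¹ := by rw [h3]
      _ = d * (x * g * x⁻¹) := by group
  exact
  { e := fun v => M.e (x⁻¹ * v * x)
    mul := fun v hv w hw => by
      have e : x⁻¹ * (v * w) * x = (x⁻¹ * v * x) * (x⁻¹ * w * x) := by group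
      rw [e, M.mul _ (mem_cj.1 hv) _ (mem_cj.1 hw)]
    even := fun v hv i => M.even _ (mem_cj.1 hv) i
    surj := fun y hy => by
      obtain ⟨v, hv, h1⟩ := M.surj y hy
      exact ⟨x * v * x⁻¹, mem hv, by rw [ex, h1]⟩
    ker := fun v hv => by
      rw [M.ker _ (mem_cj.1 hv), mem_cj]
    lift := fun τ => by
      obtain ⟨g, hg, h1, h2⟩ := M.lift τ
      exact ⟨x * g * x⁻¹, mem hg, acts g _ _ h1, cen g h2⟩
    perm := fun g hg => by
      obtain ⟨σ, τ, h1⟩ := M.perm _ (mem_cj.1 hg)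
      refine ⟨σ, τ, ?_⟩
      have h2 := acts _ _ _ h1
      rwa [ex'] at h2
    trans := fun i j => by
      obtain ⟨t, ht, σ, τ, h1, h2⟩ := M.trans i j
      exact ⟨x * t * x⁻¹, mem ht, σ, τ, acts t _ _ h1, h2⟩
    fix0 := fun t ht σ τ h i => M.fix0 _ (mem_cj.1 ht) σ τ (acts' _ _ _ h) i
    gen := fun K hTK hK => by
      have h2 : T ≤ ChoiceBase.cj x⁻¹ K := by
        intro t ht
        rw [mem_cj, inv_inv]
        exact hTK (mem ht)
      have h3 := M.gen (ChoiceBase.cj x⁻¹ K) h2 fun h hh τ hτ hd => by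
        rw [mem_cj, inv_inv]
        exact hK _ (mem hh) τ (acts h _ _ hτ) (cen h hd)
      intro g hg
      have h4 := h3 (mem_cj.1 hg)
      rw [mem_cj, inv_inv, ex'] at h4
      exact h4
    off := fun A hA hoff => by
      have h1 : ChoiceBase.cj x⁻¹ A ≤ T := by
        intro a ha
        rw [mem_cj, inv_inv] at ha
        have := mem_cj.1 (hA ha)
        rwa [ex] at this
      have h2 := off_cj hoff x⁻¹
      rw [cj_inv_cj] at h2
      obtain ⟨h3, h4⟩ := M.off _ h1 h2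
      have hm : ∀ a ∈ A, x⁻¹ * a * x ∈ ChoiceBase.cj x⁻¹ A := fun a ha => by
        rw [mem_cj, inv_inv, ex']
        exact ha
      refine ⟨fun a ha d hd => ?_, fun a ha => ?_⟩
      · have h5 := cen _ (h3 _ (hm a ha)) d hd
        rwa [ex'] at h5
      · obtain ⟨τ, h5, h6⟩ := h4 _ (hm a ha)
        have h7 := acts _ _ _ h5
        rw [ex'] at h7
        refine ⟨τ, h7, fun i y hy => ?_⟩
        obtain ⟨h8, b, hb, h9⟩ := h6 i y hy
        rw [mem_cj, inv_inv] at hb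
        exact ⟨h8, x * b * x⁻¹, hb, acts _ _ _ h9⟩ }

theorem isNat_cj {S P : Subgroup G} {k : ℕ} (h : IsNat S P k) (x : G) : IsNat (ChoiceBase.cj x S) (ChoiceBase.cj x P) k := by
  obtain ⟨F, i1, i2, i3, ⟨M⟩⟩ := h
  refine ⟨F, i1, i2, i3, ?_⟩
  rw [zl_cj, cv_cj]
  exact ⟨NatK.cj M x⟩

theorem isSym_cj {S P : Subgroup G} {k m : ℕ} (h : IsSym S P k m) (x : G) :
    IsSym (ChoiceBase.cj x S) (ChoiceBase.cj x P) k m := by
  obtain ⟨M⟩ := h
  unfold IsSym
  rw [zl_cj, cv_cj]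
  exact ⟨SymK.cj M x⟩

theorem noOver_cj {V H : Subgroup G} (h : NoOver V H) (x : G) :
    NoOver (ChoiceBase.cj x V) (ChoiceBase.cj x H) := by
  intro A hA hAe
  have h1 : ChoiceBase.cj x⁻¹ A ≤ H := by
    have := cj_mono x⁻¹ hA
    rwa [cj_inv_cj] at this
  have h2 := h (ChoiceBase.cj x⁻¹ A) h1 (isElementaryAbelian_cj x⁻¹ hAe)
  have e1 : Nat.card ↥(ChoiceBase.cj x V ⊓ centralizer (A : Set G)) =
      Nat.card ↥(V ⊓ centralizer (ChoiceBase.cj x⁻¹ A : Set G)) := by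
    rw [← card_cj x (V ⊓ centralizer (ChoiceBase.cj x⁻¹ A : Set G)), cj_inf, cj_centralizer, cj_cj_inv]
  have e2 : Nat.card ↥(A ⊓ centralizer (ChoiceBase.cj x V : Set G)) =
      Nat.card ↥(ChoiceBase.cj x⁻¹ A ⊓ centralizer (V : Set G)) := by
    rw [← card_cj x (ChoiceBase.cj x⁻¹ A ⊓ centralizer (V : Set G)), cj_inf, cj_centralizer, cj_cj_inv]
  rw [e1, e2, card_cj]
  rw [card_cj] at h2
  exact h2

theorem concl_cj {S P : Subgroup G} (h : Concl S P) (x : G) : Concl (ChoiceBase.cj x S) (ChoiceBase.cj x P) := by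
  rcases h with ⟨F, i1, i2, i3, k, hk, hN⟩ | ⟨k, m, hk, hm, hS⟩
  · obtain ⟨F', j1, j2, j3, hN'⟩ := isNat_cj (⟨F, i1, i2, i3, hN⟩ : IsNat S P k) x
    exact Or.inl ⟨F', j1, j2, j3, k, hk, hN'⟩
  · exact Or.inr ⟨k, m, hk, hm, isSym_cj hS x⟩

theorem typed_cj {S P : Subgroup G} (h : Typed S P) (x : G) : Typed (ChoiceBase.cj x S) (ChoiceBase.cj x P) :=
  ⟨by rw [zl_cj]; exact noOver_cj h.noOver x, concl_cj h.concl x⟩

theorem free_cj_iff {x : G} {S P : Subgroup G} : Free (ChoiceBase.cj x S) (ChoiceBase.cj x P) ↔ Free S P := by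
  refine ⟨fun h => ?_, free_cj⟩
  have h1 := free_cj (x := x⁻¹) h
  rwa [cj_inv_cj, cj_inv_cj] at h1

end conj

/-! ### Normal position -/

section pair

variable {G : Type u} [Group G] [Finite G]

/-- A mutual pair in normal position. -/
structure Pair (S S' : Sylow 2 G) (P P' : Subgroup G) : Prop where
  star : IsParS (S : Subgroup G) P
  star' : IsParS (S' : Subgroup G) P'
  le : zl (S' : Subgroup G) P' ≤ S
  le' : zl (S : Subgroup G) P ≤ S'
  ne : ⁅zl (S : Subgroup G) P, zl (S' : Subgroup G) P'⁆ ≠ ⊥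

omit [Finite G] in
theorem Pair.symm {S S' : Sylow 2 G} {P P' : Subgroup G} (h : Pair S S' P P') : Pair S' S P' P :=
  ⟨h.star', h.star, h.le', h.le, fun h0 => h.ne (by rw [commutator_comm, h0])⟩

/-- The Sylow subgroup `S^x`. -/
def sy (x : G) (S : Sylow 2 G) : Sylow 2 G := MulAut.conj x • S

omit [Finite G] in
theorem sy_coe (x : G) (S : Sylow 2 G) : ((sy x S : Sylow 2 G) : Subgroup G) = cj x (S : Subgroup G) :=
  Sylow.coe_subgroup_smul

theorem zl_isPGroup (hc : IsCharacteristicTwoType G) (S : Sylow 2 G) {P : Subgroup G}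
    (h : IsLoc (S : Subgroup G) P) : IsPGroup 2 (zl (S : Subgroup G) P) :=
  isPGroup_of_elem (elem_zl hc S h)

theorem zl_le_sylow (hc : IsCharacteristicTwoType G) (S : Sylow 2 G) {P : Subgroup G}
    (h : IsLoc (S : Subgroup G) P) : zl (S : Subgroup G) P ≤ (S : Subgroup G) :=
  le_of_le_normalizer S (zl_isPGroup hc S h) (h.le.trans (le_normalizer_zl _ _))

/-- **Normal position.** -/
theorem exists_pair (hc : IsCharacteristicTwoType G) (S : Sylow 2 G) {P₁ P₂ : Subgroup G} {x : G}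
    (h : Mutual (S : Subgroup G) P₁ P₂ x) :
    ∃ y : G, Mutual (S : Subgroup G) P₁ P₂ y ∧ Pair S (sy y S) P₁ (cj y P₂) := by
  have hV2 : IsPGroup 2 (zl (S : Subgroup G) P₁) := zl_isPGroup hc S h.star₁.isLoc
  have hW2 : IsPGroup 2 (zl (S : Subgroup G) P₂) := zl_isPGroup hc S h.star₂.isLoc
  have hSV : (S : Subgroup G) ≤ normalizer (zl (S : Subgroup G) P₁ : Set G) :=
    h.star₁.le.trans (le_normalizer_zl _ _)
  have hSW : (S : Subgroup G) ≤ normalizer (zl (S : Subgroup G) P₂ : Set G) :=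
    h.star₂.le.trans (le_normalizer_zl _ _)
  have le₁ : zl (S : Subgroup G) P₁ ≤ normalizer ((cj x (zl (S : Subgroup G) P₂) : Subgroup G) : Set G) := h.le₁
  have le₂ : cj x (zl (S : Subgroup G) P₂) ≤ normalizer (zl (S : Subgroup G) P₁ : Set G) := h.le₂
  have hne : ⁅zl (S : Subgroup G) P₁, cj x (zl (S : Subgroup G) P₂)⁆ ≠ ⊥ := h.ne
  -- move `V'` into `S`
  obtain ⟨n, hn, h1⟩ := exists_conj_le S hSV (isPGroup_cj x hW2) le₂
  rw [cj_cj] at h1
  have e1 : cj n (zl (S : Subgroup G) P₁) = zl (S : Subgroup G) P₁ := cj_eq_of_mem_normalizer hn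
  -- `V` normalises the new `V'`
  have h2 : zl (S : Subgroup G) P₁ ≤ normalizer ((cj (n * x) (zl (S : Subgroup G) P₂) : Subgroup G) : Set G) := by
    have := cj_mono n le₁
    rwa [e1, cj_normalizer, cj_cj] at this
  have h3 : ((sy (n * x) S : Sylow 2 G) : Subgroup G) ≤
      normalizer ((cj (n * x) (zl (S : Subgroup G) P₂) : Subgroup G) : Set G) := by
    rw [sy_coe, ← cj_normalizer]
    exact cj_mono _ hSW
  obtain ⟨m, hm, h4⟩ := exists_conj_le (sy (n * x) S) h3 hV2 h2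
  have hm' : m⁻¹ ∈ normalizer ((cj (n * x) (zl (S : Subgroup G) P₂) : Subgroup G) : Set G) := inv_mem hm
  have e2 : cj (m⁻¹ * (n * x)) (zl (S : Subgroup G) P₂) = cj (n * x) (zl (S : Subgroup G) P₂) := by
    rw [← cj_cj]
    exact cj_eq_of_mem_normalizer hm'
  have h5 : zl (S : Subgroup G) P₁ ≤ ((sy (m⁻¹ * (n * x)) S : Sylow 2 G) : Subgroup G) := by
    rw [sy_coe, ← cj_cj]
    rw [sy_coe, cj_le_iff] at h4
    exact h4
  have hcomm : ⁅zl (S : Subgroup G) P₁, cj (m⁻¹ * (n * x)) (zl (S : Subgroup G) P₂)⁆ ≠ ⊥ := by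
    rw [e2]
    intro h0
    apply hne
    have h6 : cj n ⁅zl (S : Subgroup G) P₁, cj x (zl (S : Subgroup G) P₂)⁆ = ⊥ := by
      change Subgroup.map _ _ = _
      rw [Subgroup.map_commutator]
      change ⁅cj n _, cj n (cj x _)⁆ = _
      rw [e1, cj_cj, h0]
    have h7 := congrArg (cj n⁻¹) h6
    rw [cj_inv_cj] at h7
    rw [h7]
    exact Subgroup.map_bot _
  refine ⟨m⁻¹ * (n * x), ⟨h.star₁, h.star₂, ?_, ?_, hcomm⟩, ⟨h.star₁, ?_, ?_, h5, ?_⟩⟩
  · change _ ≤ normalizer ((cj _ _ : Subgroup G) : Set G)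
    rw [e2]
    exact h2
  · change cj _ _ ≤ _
    rw [e2]
    exact h1.trans hSV
  · rw [sy_coe]
    exact isParS_cj h.star₂ _
  · rw [sy_coe, zl_cj, e2]
    exact h1
  · rw [sy_coe, zl_cj]
    exact hcomm

/-- `V'` is an offender on `V`, if there is no over-offender on `V'`. -/
theorem Pair.off (hc : IsCharacteristicTwoType G) {S S' : Sylow 2 G} {P P' : Subgroup G} (h : Pair S S' P P')
    (hT : NoOver (zl (S' : Subgroup G) P') P') : Off (zl (S : Subgroup G) P) (zl (S' : Subgroup G) P') := by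
  refine ⟨elem_zl hc S' h.star'.isLoc, fun h1 => h.ne ?_, ?_⟩
  · rw [commutator_comm, commutator_eq_bot_iff_le_centralizer]
    exact h1
  · exact hT _ (h.le'.trans h.star'.le) (elem_zl hc S h.star.isLoc)

end pair

end Cfsg.Agent.Omega.IId

end

section


/-!
# II.d, `k = 2` against `k' = 1` (text #13866 (1) of helper592)

`V = V₁ × V₂`, `R` a line of `V₁`, `T = N_S(V₁)`, `T⁰ = C_T(R)`, `X = C_G(R)`; if a Sylow 2-subgroup of
`G` normalises `R` (as it does if `R` is a line of a natural module `V'` with `k' = 1`) then the Sylow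
2-subgroups of `X` have order `2 |T⁰|`, and `|R| = 2`.

* `line_eq` : the group theoretic core;
* `card_le_pow` : `|Z| ≤ |C_Z(a)|^(2^k)` if `Z` is elementary abelian and `a^(2^k)` centralises `Z`.
-/

set_option autoImplicit false

namespace Cfsg.Agent.Omega.IId.MixedK

open Subgroup

variable {G : Type*} [Group G]

theorem conj_comm {x y : G} (h : x * y * x⁻¹ = y) : x * y = y * x := by
  calc x * y = x * y * x⁻¹ * x := by group
    _ = y * x := by rw [h]

theorem comm_conj {x y : G} (h : x * y = y * x) : x * y * x⁻¹ = y := by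
  rw [h]; group

/-- **Core of #13866 (1).** `X₁` is a 2-group with `|X₁ : T₀| = 2`, `Ω₁ Z(X₁) ≤ R`, `X` centralises `R`,
`y ∈ Ω₁ Z(T₀) - R` and the elements of `N(T₀) ∩ N(X) ∩ C(y)` are transitive on `R#`.
If `4 |T₀|` does not divide `|X|`, then `|R#| ≤ 1`. -/
theorem line_eq [Finite G] {T₀ X₁ X R : Subgroup G} {y : G} (hT2 : IsPGroup 2 T₀) (hTX : T₀ ≤ X₁)
    (hX₁X : X₁ ≤ X) (h2 : T₀.relIndex X₁ = 2) (hRT : R ≤ T₀)
    (hXR : ∀ g ∈ X, ∀ r ∈ R, g * r = r * g)
    (hZ : ∀ x ∈ X₁, (∀ g ∈ X₁, g * x = x * g) → x * x = 1 → x ∈ R)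
    (hyT : y ∈ T₀) (hyc : ∀ t ∈ T₀, t * y = y * t) (hyy : y * y = 1) (hyR : y ∉ R)
    (htr : ∀ r ∈ R, ∀ r' ∈ R, r ≠ 1 → r' ≠ 1 → ∃ d : G, d * r * d⁻¹ = r' ∧ d * y = y * d ∧
      (∀ t ∈ T₀, d * t * d⁻¹ ∈ T₀) ∧ ∀ x ∈ X, d * x * d⁻¹ ∈ X)
    (h4 : ¬ 4 * Nat.card T₀ ∣ Nat.card X) :
    ∀ r ∈ R, ∀ r' ∈ R, r ≠ 1 → r' ≠ 1 → r = r' := by
  have hle : T₀ ≤ X₁ := hTX
  -- an element `w` of `X₁` outside `T₀`
  obtain ⟨w, hwX, hwT⟩ : ∃ w ∈ X₁, w ∉ T₀ := by
    by_contra hcon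
    push Not at hcon
    have : T₀.relIndex X₁ = 1 := relIndex_eq_one.2 hcon
    omega
  -- coset facts
  have hnorm : ∀ g ∈ X₁, ∀ t ∈ T₀, g * t * g⁻¹ ∈ T₀ := by
    have hN : (T₀.subgroupOf X₁).Normal := normal_of_index_eq_two h2
    intro g hg t ht
    have := hN.conj_mem ⟨t, hle ht⟩ (mem_subgroupOf.2 ht) ⟨g, hg⟩
    exact mem_subgroupOf.1 this
  have hmul : ∀ g ∈ X₁, g ∉ T₀ → w⁻¹ * g ∈ T₀ := by
    intro g hg hgT
    have h3 := (mul_mem_iff_of_index_two (H := T₀.subgroupOf X₁) h2 (a := ⟨w⁻¹, inv_mem hwX⟩)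
      (b := ⟨g, hg⟩))
    rw [mem_subgroupOf, mem_subgroupOf, mem_subgroupOf] at h3
    exact h3.2 ⟨fun h => absurd (by simpa using inv_mem h) hwT, fun h => absurd h hgT⟩
  have hww : w * w ∈ T₀ := by
    by_contra hcon
    have := hmul _ (mul_mem hwX hwX) hcon
    rw [inv_mul_cancel_left] at this
    exact hwT this
  set y' := w * y * w⁻¹ with hy'
  have hy'T : y' ∈ T₀ := hnorm w hwX y hyT
  have hy'c : ∀ t ∈ T₀, t * y' = y' * t := by
    intro t ht
    have h1 : w⁻¹ * t * w ∈ T₀ := by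
      have := hnorm w⁻¹ (inv_mem hwX) t ht
      rwa [inv_inv] at this
    have h2 := hyc _ h1
    calc t * y' = w * ((w⁻¹ * t * w) * y) * w⁻¹ := by rw [hy']; group
      _ = w * (y * (w⁻¹ * t * w)) * w⁻¹ := by rw [h2]
      _ = y' * t := by rw [hy']; group
  have hy'y' : y' * y' = 1 := by
    rw [hy']
    calc w * y * w⁻¹ * (w * y * w⁻¹) = w * (y * y) * w⁻¹ := by group
      _ = 1 := by rw [hyy]; group
  have hyy' : y * y' = y' * y := hy'c y hyT
  have hwy0 : y * y' * y = y' := by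
    calc y * y' * y = y * (y' * y) := by group
      _ = y * (y * y') := by rw [hyy']
      _ = (y * y) * y' := by group
      _ = y' := by rw [hyy, one_mul]
  obtain ⟨ρ, hρ⟩ : ∃ ρ, ρ = y * y' := ⟨_, rfl⟩
  have hρρ : ρ * ρ = 1 := by
    rw [hρ]
    calc y * y' * (y * y') = y * (y' * y) * y' := by group
      _ = y * (y * y') * y' := by rw [hyy']
      _ = (y * y) * (y' * y') := by group
      _ = 1 := by rw [hyy, hy'y', one_mul]
  have hρT : ρ ∈ T₀ := by rw [hρ]; exact mul_mem hyT hy'T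
  have hρc0 : ∀ t ∈ T₀, t * ρ = ρ * t := by
    intro t ht
    calc t * ρ = (t * y) * y' := by rw [hρ]; group
      _ = (y * t) * y' := by rw [hyc t ht]
      _ = y * (t * y') := by group
      _ = y * (y' * t) := by rw [hy'c t ht]
      _ = ρ * t := by rw [hρ]; group
  have hwρ : w * ρ = ρ * w := by
    apply conj_comm
    have e1 : w * y' * w⁻¹ = y := by
      rw [hy']
      calc w * (w * y * w⁻¹) * w⁻¹ = (w * w) * y * (w * w)⁻¹ := by group
        _ = y := comm_conj (hyc _ hww)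
    calc w * ρ * w⁻¹ = (w * y * w⁻¹) * (w * y' * w⁻¹) := by rw [hρ]; group
      _ = y' * y := by rw [e1]
      _ = ρ := by rw [hρ, hyy']
  have hall : ∀ x, (∀ t ∈ T₀, t * x = x * t) → w * x = x * w → ∀ g ∈ X₁, g * x = x * g := by
    intro x hx0 hxw g hg
    by_cases hgT : g ∈ T₀
    · exact hx0 g hgT
    · have h1 := hx0 _ (hmul g hg hgT)
      calc g * x = w * ((w⁻¹ * g) * x) := by group
        _ = w * (x * (w⁻¹ * g)) := by rw [h1]
        _ = (w * x) * (w⁻¹ * g) := by group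
        _ = (x * w) * (w⁻¹ * g) := by rw [hxw]
        _ = x * g := by group
  have hρR : ρ ∈ R := hZ ρ (hle hρT) (hall ρ hρc0 hwρ) hρρ
  have hρ1 : ρ ≠ 1 := by
    intro h1
    apply hyR
    refine hZ y (hle hyT) (hall y hyc ?_) hyy
    have e : y' = y := by
      have : y' = y⁻¹ := eq_inv_of_mul_eq_one_right (hρ.symm.trans h1)
      rw [this]
      exact inv_eq_of_mul_eq_one_left hyy
    apply conj_comm
    exact e
  have hyinv : y⁻¹ = y := inv_eq_of_mul_eq_one_left hyy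
  have hwy : w * y * w⁻¹ = ρ * y := by
    rw [← hy', hρ, hwy0]
  -- it is enough to compare with `ρ`
  suffices hmain : ∀ r' ∈ R, r' ≠ 1 → r' = ρ by
    intro r hr r' hr' h1 h1'
    rw [hmain r hr h1, hmain r' hr' h1']
  intro r' hr' hr'1
  by_contra hne
  obtain ⟨d, hd1, hdy, hdT, hdX⟩ := htr ρ hρR r' hr' hρ1 hr'1
  set w' := d * w * d⁻¹ with hw'
  have hw'X : w' ∈ X := hdX w (hX₁X hwX)
  have hw'y : w' * y * w'⁻¹ = r' * y := by
    have e : d⁻¹ * y * d = y := by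
      calc d⁻¹ * y * d = d⁻¹ * (y * d) := by group
        _ = d⁻¹ * (d * y) := by rw [hdy]
        _ = y := by group
    calc w' * y * w'⁻¹ = d * (w * (d⁻¹ * y * d) * w⁻¹) * d⁻¹ := by rw [hw']; group
      _ = d * (ρ * y) * d⁻¹ := by rw [e, hwy]
      _ = (d * ρ * d⁻¹) * (d * y * d⁻¹) := by group
      _ = r' * y := by rw [hd1, comm_conj hdy]
  -- the subgroup `{g ∈ X : [g, y] ∈ R}` and the map `g ↦ g y g⁻¹ y⁻¹`
  let H : Subgroup G :=
    { carrier := {g | g ∈ X ∧ g * y * g⁻¹ * y⁻¹ ∈ R}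
      one_mem' := ⟨one_mem _, by simp⟩
      mul_mem' := by
        rintro a b ⟨ha, ha'⟩ ⟨hb, hb'⟩
        refine ⟨mul_mem ha hb, ?_⟩
        have e : a * b * y * (a * b)⁻¹ * y⁻¹ =
            (a * (b * y * b⁻¹ * y⁻¹) * a⁻¹) * (a * y * a⁻¹ * y⁻¹) := by group
        rw [e, comm_conj (hXR a ha _ hb')]
        exact mul_mem hb' ha'
      inv_mem' := by
        rintro a ⟨ha, ha'⟩
        refine ⟨inv_mem ha, ?_⟩
        have e : a⁻¹ * y * a⁻¹⁻¹ * y⁻¹ = a⁻¹ * (a * y * a⁻¹ * y⁻¹)⁻¹ * a⁻¹⁻¹ := by group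
        rw [e, comm_conj (hXR a⁻¹ (inv_mem ha) _ (inv_mem ha'))]
        exact inv_mem ha' }
  have hHX : H ≤ X := fun g hg => hg.1
  let φ : H →* G :=
    { toFun := fun g => ((g : G) * y * (g : G)⁻¹ * y⁻¹)⁻¹
      map_one' := by simp
      map_mul' := by
        rintro ⟨a, ha, ha'⟩ ⟨b, hb, hb'⟩
        change (a * b * y * (a * b)⁻¹ * y⁻¹)⁻¹ = (a * y * a⁻¹ * y⁻¹)⁻¹ * (b * y * b⁻¹ * y⁻¹)⁻¹
        have e : a * b * y * (a * b)⁻¹ * y⁻¹ =
            (a * (b * y * b⁻¹ * y⁻¹) * a⁻¹) * (a * y * a⁻¹ * y⁻¹) := by group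
        rw [e, comm_conj (hXR a ha _ hb'), mul_inv_rev] }
  have hφR : φ.range ≤ R := by
    rintro _ ⟨⟨a, ha, ha'⟩, rfl⟩
    exact inv_mem ha'
  have hR2 : IsPGroup 2 R := hT2.to_le hRT
  have hρinv : ρ⁻¹ = ρ := inv_eq_of_mul_eq_one_left hρρ
  -- `ρ`, `r'⁻¹` lie in the range
  have hr1 : ρ⁻¹ ∈ φ.range := by
    refine ⟨⟨w, hX₁X hwX, ?_⟩, ?_⟩
    · rw [hwy, mul_inv_cancel_right]; exact hρR
    · change (w * y * w⁻¹ * y⁻¹)⁻¹ = ρ⁻¹
      rw [hwy, mul_inv_cancel_right]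
  have hr2 : r'⁻¹ ∈ φ.range := by
    refine ⟨⟨w', hw'X, ?_⟩, ?_⟩
    · rw [hw'y, mul_inv_cancel_right]; exact hr'
    · change (w' * y * w'⁻¹ * y⁻¹)⁻¹ = r'⁻¹
      rw [hw'y, mul_inv_cancel_right]
  -- so `4 ∣ |range|`
  have hcr : 4 ∣ Nat.card φ.range := by
    obtain ⟨n, hn⟩ := (hR2.to_le hφR).exists_card_eq
    rw [hn]
    have h2n : 2 ≤ n := by
      by_contra hcon
      push Not at hcon
      have hcard : Nat.card φ.range ≤ 2 := by
        rw [hn]
        calc 2 ^ n ≤ 2 ^ 1 := Nat.pow_le_pow_right (by norm_num) (by omega)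
          _ = 2 := by norm_num
      have h3 : ∀ a b c : φ.range, a ≠ b → a ≠ c → b ≠ c → False := by
        intro a b c hab hac hbc
        classical
        have : ({a, b, c} : Finset φ.range).card = 3 :=
          Finset.card_eq_three.2 ⟨a, b, c, hab, hac, hbc, rfl⟩
        have : Fintype φ.range := Fintype.ofFinite _
        have h4 := Finset.card_le_univ ({a, b, c} : Finset φ.range)
        rw [← Nat.card_eq_fintype_card] at h4
        omega
      refine h3 ⟨1, one_mem _⟩ ⟨ρ⁻¹, hr1⟩ ⟨r'⁻¹, hr2⟩ ?_ ?_ ?_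
      · intro h; exact hρ1 (inv_eq_one.1 (congrArg Subtype.val h).symm)
      · intro h; exact hr'1 (inv_eq_one.1 (congrArg Subtype.val h).symm)
      · intro h; exact hne (inv_injective (congrArg Subtype.val h)).symm
    calc 4 = 2 ^ 2 := by norm_num
      _ ∣ 2 ^ n := pow_dvd_pow 2 h2n
  -- `|T₀|` divides the kernel
  have hTH : T₀ ≤ H := by
    intro t ht
    refine ⟨hX₁X (hle ht), ?_⟩
    rw [comm_conj (hyc t ht), mul_inv_cancel]
    exact one_mem _
  have hck : Nat.card T₀ ∣ Nat.card φ.ker := by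
    have h1 : T₀.subgroupOf H ≤ φ.ker := by
      rintro ⟨t, ht'⟩ ht
      rw [mem_subgroupOf] at ht
      rw [MonoidHom.mem_ker]
      change (t * y * t⁻¹ * y⁻¹)⁻¹ = 1
      rw [comm_conj (hyc t ht), mul_inv_cancel, inv_one]
    have h3 := card_dvd_of_le h1
    rwa [Nat.card_congr (subgroupOfEquivOfLe hTH).toEquiv] at h3
  apply h4
  have h5 : Nat.card φ.ker * Nat.card φ.range = Nat.card H := by
    rw [← Nat.card_congr (QuotientGroup.quotientKerEquivRange φ).toEquiv]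
    rw [mul_comm]
    exact (card_eq_card_quotient_mul_card_subgroup φ.ker).symm
  calc 4 * Nat.card T₀ = Nat.card T₀ * 4 := mul_comm _ _
    _ ∣ Nat.card φ.ker * Nat.card φ.range := Nat.mul_dvd_mul hck hcr
    _ = Nat.card H := h5
    _ ∣ Nat.card X := card_dvd_of_le hHX

end Cfsg.Agent.Omega.IId.MixedK

end

section


/-!
# A 2-group acting semilinearly on a line

`R ≅ (F, +)`, `|F| = 2^n`, a 2-group `A` acts on `R` by maps `x ↦ c σ(x)`.  Then
`|R| = |C_R(A)| ^ |A : C_A(R)|` and `A / C_A(R)` is cyclic.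
-/

set_option autoImplicit false

namespace Cfsg.Agent.Omega.IId.SemiLine

open Subgroup

variable {G : Type*} [Group G]

/-- coordinates on `R` -/
structure LineF (F : Type*) [Field F] (R : Subgroup G) where
  e : F → G
  add : ∀ x y, e (x + y) = e x * e y
  inj : Function.Injective e
  mem : ∀ g, g ∈ R ↔ ∃ x, e x = g

namespace LineF

variable {F : Type*} [Field F] {R : Subgroup G} (L : LineF F R)

/-- `a` acts semilinearly on `R`. -/
def Semi (a : G) : Prop := ∃ (c : F) (σ : F ≃+* F), ∀ x, a * L.e x * a⁻¹ = L.e (c * σ x)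

theorem e_mem (x : F) : L.e x ∈ R := (L.mem _).2 ⟨x, rfl⟩

theorem e_zero : L.e 0 = 1 := by
  have h := L.add 0 0
  rw [add_zero] at h
  exact (mul_eq_left.1 h.symm)

include L in
theorem card : Nat.card R = Nat.card F := by
  refine (Nat.card_congr (Equiv.ofBijective (fun x : F => (⟨L.e x, L.e_mem x⟩ : R)) ⟨?_, ?_⟩)).symm
  · intro x y hxy
    exact L.inj (congrArg Subtype.val hxy)
  · rintro ⟨g, hg⟩
    obtain ⟨x, rfl⟩ := (L.mem g).1 hg
    exact ⟨x, rfl⟩

theorem comm (x y : F) : L.e x * L.e y = L.e y * L.e x := by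
  rw [← L.add, ← L.add, add_comm]

theorem c_ne_zero {a : G} {c : F} {σ : F ≃+* F} (h : ∀ x, a * L.e x * a⁻¹ = L.e (c * σ x)) :
    c ≠ 0 := by
  rintro rfl
  have h1 := h 1
  rw [zero_mul, L.e_zero] at h1
  have h2 : L.e 1 = 1 := by
    calc L.e 1 = a⁻¹ * (a * L.e 1 * a⁻¹) * a := by group
      _ = 1 := by rw [h1]; group
  rw [← L.e_zero] at h2
  exact one_ne_zero (L.inj h2)

theorem semi_mul {a b : G} {c d : F} {σ τ : F ≃+* F} (ha : ∀ x, a * L.e x * a⁻¹ = L.e (c * σ x))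
    (hb : ∀ x, b * L.e x * b⁻¹ = L.e (d * τ x)) (x : F) :
    a * b * L.e x * (a * b)⁻¹ = L.e (c * σ d * σ (τ x)) := by
  calc a * b * L.e x * (a * b)⁻¹ = a * (b * L.e x * b⁻¹) * a⁻¹ := by group
    _ = _ := by rw [hb, ha, map_mul, mul_assoc]

theorem semi_unique {a : G} {c d : F} {σ τ : F → F} (hσ1 : σ 1 = 1) (hτ1 : τ 1 = 1)
    (hc : c ≠ 0) (ha : ∀ x, a * L.e x * a⁻¹ = L.e (c * σ x))
    (hb : ∀ x, a * L.e x * a⁻¹ = L.e (d * τ x)) : c = d ∧ ∀ x, σ x = τ x := by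
  have h1 : c = d := by
    have := L.inj ((ha 1).symm.trans (hb 1))
    rwa [hσ1, hτ1, mul_one, mul_one] at this
  refine ⟨h1, fun x => ?_⟩
  have := L.inj ((ha x).symm.trans (hb x))
  rw [← h1] at this
  exact mul_left_cancel₀ hc this

section main

variable (A : Subgroup G) (h : ∀ a ∈ A, L.Semi a)

/-- the scalar -/
noncomputable def cc (a : A) : F := (h a a.2).choose

/-- the field automorphism -/
noncomputable def sg (a : A) : F ≃+* F := (h a a.2).choose_spec.choose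

theorem spec (a : A) (x : F) : (a : G) * L.e x * (a : G)⁻¹ = L.e (L.cc A h a * L.sg A h a x) :=
  (h a a.2).choose_spec.choose_spec x

/-- the homomorphism to `Aut F` -/
noncomputable def hom : A →* RingAut F where
  toFun := L.sg A h
  map_one' := by
    ext x
    have h1 := L.spec A h 1
    have h2 : ∀ x : F, ((1 : A) : G) * L.e x * ((1 : A) : G)⁻¹ = L.e (1 * id x) := fun x => by simp
    exact (L.semi_unique (map_one _) rfl (L.c_ne_zero h1) h1 h2).2 x
  map_mul' := by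
    intro a b
    ext x
    have h1 := L.spec A h (a * b)
    have h2 : ∀ x : F, ((a * b : A) : G) * L.e x * ((a * b : A) : G)⁻¹ =
        L.e (L.cc A h a * L.sg A h a (L.cc A h b) * L.sg A h a (L.sg A h b x)) := fun x => by
      rw [Subgroup.coe_mul]
      exact L.semi_mul (L.spec A h a) (L.spec A h b) x
    exact (L.semi_unique (map_one _) (by rw [map_one, map_one]) (L.c_ne_zero h1) h1 h2).2 x

theorem hom_apply (a : A) : L.hom A h a = L.sg A h a := rfl

/-- elements acting linearly act trivially if they are 2-elements. -/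
theorem trivial_of_sg [Finite F] [CharP F 2] (hA : IsPGroup 2 A) {a : A} (ha : L.hom A h a = 1)
    (x : F) : (a : G) * L.e x = L.e x * a := by
  have h1 : ∀ x, (a : G) * L.e x * (a : G)⁻¹ = L.e (L.cc A h a * x) := fun x => by
    rw [L.spec A h a]
    congr 2
    rw [hom_apply] at ha
    rw [ha]; rfl
  have h2 : ∀ (n : ℕ) (x : F), ((a : G) ^ n) * L.e x * ((a : G) ^ n)⁻¹ = L.e (L.cc A h a ^ n * x) := by
    intro n
    induction n with
    | zero => intro x; simp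
    | succ n ih =>
      intro x
      rw [pow_succ]
      calc (a : G) ^ n * a * L.e x * ((a : G) ^ n * a)⁻¹ =
          (a : G) ^ n * ((a : G) * L.e x * (a : G)⁻¹) * ((a : G) ^ n)⁻¹ := by group
        _ = _ := by rw [h1, ih, pow_succ, mul_assoc]
  obtain ⟨k, hk⟩ := hA a
  have hk' : (a : G) ^ 2 ^ k = 1 := by
    have := congrArg Subtype.val hk
    simpa using this
  have h3 : L.cc A h a ^ 2 ^ k = 1 := by
    have := h2 (2 ^ k) 1
    rw [hk'] at this
    have h4 := L.inj (this.symm.trans (by simp : (1 : G) * L.e 1 * (1 : G)⁻¹ = L.e 1))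
    rwa [mul_one] at h4
  have h4 : L.cc A h a = 1 := by
    -- `x ↦ x ^ 2 ^ k` is injective in characteristic two
    have : Function.Injective (fun x : F => x ^ 2 ^ k) := by
      have h5 := (iterateFrobenius F 2 k).injective
      intro x y hxy
      exact h5 hxy
    exact this (by simp only [h3, one_pow])
  have h5 := h1 x
  rw [h4, one_mul] at h5
  exact MixedK.conj_comm h5

include h in
/-- a nonzero fixed vector of a 2-group -/
theorem exists_fixed [Finite F] [CharP F 2] (hA : IsPGroup 2 A) :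
    ∃ x₀ : F, x₀ ≠ 0 ∧ ∀ a : A, (a : G) * L.e x₀ * (a : G)⁻¹ = L.e x₀ := by
  have : Fact (Nat.Prime 2) := ⟨Nat.prime_two⟩
  let act : MulAction A F :=
    { smul := fun a x => L.cc A h a * L.sg A h a x
      one_smul := fun x => by
        apply L.inj
        change L.e (L.cc A h 1 * L.sg A h 1 x) = L.e x
        rw [← L.spec A h 1]; simp
      mul_smul := fun a b x => by
        apply L.inj
        change L.e (L.cc A h (a * b) * L.sg A h (a * b) x) =
          L.e (L.cc A h a * L.sg A h a (L.cc A h b * L.sg A h b x))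
        rw [← L.spec A h (a * b), ← L.spec A h a, ← L.spec A h b, Subgroup.coe_mul]
        group }
  have hdvd : 2 ∣ Nat.card F := by
    have : Fintype F := Fintype.ofFinite F
    obtain ⟨n, hn⟩ := FiniteField.card F 2
    rw [Nat.card_eq_fintype_card, hn.2]
    exact dvd_pow_self 2 n.ne_zero
  have h0 : (0 : F) ∈ MulAction.fixedPoints A F := by
    intro a
    change L.cc A h a * L.sg A h a 0 = 0
    rw [map_zero, mul_zero]
  obtain ⟨b, hb, hb0⟩ := hA.exists_fixed_point_of_prime_dvd_card_of_fixed_point F hdvd h0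
  refine ⟨b, hb0.symm, fun a => ?_⟩
  rw [L.spec A h a]
  congr 1
  exact hb a

include L h in
/-- **the count** -/
theorem card_eq [Finite F] [CharP F 2] (hA : IsPGroup 2 A) :
    Nat.card R = Nat.card ↥(R ⊓ centralizer (A : Set G)) ^
      (A ⊓ centralizer (R : Set G)).relIndex A := by
  obtain ⟨x₀, hx₀, hfix⟩ := L.exists_fixed A h hA
  set H := (L.hom A h).range with hH
  have : Finite (RingAut F) := by
    have : Finite (F → F) := inferInstance
    exact Finite.of_injective (fun σ : RingAut F => (σ : F → F)) (fun σ τ hst => by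
      ext x; exact congrFun hst x)
  have : Fintype H := Fintype.ofFinite H
  -- the fixed field
  have h1 := FixedPoints.finrank_eq_card H F
  have h2 : Nat.card F = Nat.card (FixedPoints.subfield H F) ^ Fintype.card H := by
    rw [← h1]
    exact Module.natCard_eq_pow_finrank
  -- `C_R(A) = x₀ * Fix`
  have hsg : ∀ (a : A) (t : F), (a : G) * L.e (x₀ * t) * (a : G)⁻¹ = L.e (x₀ * L.sg A h a t) := by
    intro a t
    have h3 := hfix a
    rw [L.spec A h a] at h3 ⊢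
    have h4 := L.inj h3
    rw [map_mul, ← mul_assoc, h4]
  have h3 : Nat.card ↥(R ⊓ centralizer (A : Set G)) = Nat.card (FixedPoints.subfield H F) := by
    symm
    refine Nat.card_congr (Equiv.ofBijective (fun t : FixedPoints.subfield H F =>
      (⟨L.e (x₀ * (t : F)), ?_⟩ : ↥(R ⊓ centralizer (A : Set G)))) ⟨?_, ?_⟩)
    · refine mem_inf.2 ⟨L.e_mem _, mem_centralizer_iff.2 fun a ha => ?_⟩
      apply MixedK.conj_comm
      have h5 := hsg ⟨a, ha⟩ (t : F)
      change a * L.e (x₀ * (t : F)) * a⁻¹ = _ at h5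
      rw [h5]
      congr 2
      exact t.2 ⟨L.hom A h ⟨a, ha⟩, ⟨_, rfl⟩⟩
    · intro s t hst
      have h5 := L.inj (congrArg Subtype.val hst)
      exact Subtype.ext (mul_left_cancel₀ hx₀ h5)
    · rintro ⟨g, hg⟩
      obtain ⟨hgR, hgA⟩ := mem_inf.1 hg
      obtain ⟨x, rfl⟩ := (L.mem g).1 hgR
      refine ⟨⟨x₀⁻¹ * x, ?_⟩, ?_⟩
      · rintro ⟨_, ⟨a, rfl⟩⟩
        have h5 := hsg a (x₀⁻¹ * x)
        have h6 : x₀ * (x₀⁻¹ * x) = x := by rw [← mul_assoc, mul_inv_cancel₀ hx₀, one_mul]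
        rw [h6] at h5
        have h7 : (a : G) * L.e x * (a : G)⁻¹ = L.e x :=
          MixedK.comm_conj (mem_centralizer_iff.1 hgA a a.2)
        rw [h7] at h5
        have h8 := L.inj h5
        change L.sg A h a (x₀⁻¹ * x) = x₀⁻¹ * x
        rw [eq_inv_mul_iff_mul_eq₀ hx₀]
        exact h8.symm
      · apply Subtype.ext
        change L.e (x₀ * (x₀⁻¹ * x)) = L.e x
        rw [← mul_assoc, mul_inv_cancel₀ hx₀, one_mul]
  -- `|H| = |A : C_A(R)|`
  have hker : (L.hom A h).ker = (A ⊓ centralizer (R : Set G)).subgroupOf A := by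
    ext a
    rw [MonoidHom.mem_ker, mem_subgroupOf, mem_inf]
    constructor
    · intro ha
      refine ⟨a.2, mem_centralizer_iff.2 fun r hr => ?_⟩
      obtain ⟨x, rfl⟩ := (L.mem r).1 hr
      exact (L.trivial_of_sg A h hA ha x).symm
    · rintro ⟨-, ha⟩
      rw [hom_apply]
      ext x
      have h1' := L.spec A h a
      have h2' : ∀ x : F, (a : G) * L.e x * (a : G)⁻¹ = L.e (1 * id x) := fun x => by
        rw [one_mul]
        exact MixedK.comm_conj (mem_centralizer_iff.1 ha _ (L.e_mem x)).symm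
      exact (L.semi_unique (map_one _) rfl (L.c_ne_zero h1') h1' h2').2 x
  have h4 : Fintype.card H = (A ⊓ centralizer (R : Set G)).relIndex A := by
    rw [relIndex, ← hker, ← Nat.card_eq_fintype_card, index]
    exact (Nat.card_congr (QuotientGroup.quotientKerEquivRange (L.hom A h)).toEquiv).symm
  rw [L.card, h2, h3, h4]

include L h in
/-- `A / C_A(R)` is cyclic. -/
theorem exists_gen [Finite F] [CharP F 2] (hA : IsPGroup 2 A) :
    ∃ a ∈ A, ∀ b ∈ A, ∃ n : ℤ, ∀ r ∈ R, (a ^ n * b) * r = r * (a ^ n * b) := by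
  have hcyc : IsCyclic (RingAut F) := Cfsg.Agent.StdRank2.OutField.isCyclic
  obtain ⟨⟨_, ⟨a, rfl⟩⟩, hg⟩ := (inferInstance : IsCyclic (L.hom A h).range).exists_generator
  refine ⟨a, a.2, fun b hb => ?_⟩
  obtain ⟨n, hn⟩ := hg ⟨L.hom A h ⟨b, hb⟩, ⟨_, rfl⟩⟩
  refine ⟨-n, fun r hr => ?_⟩
  obtain ⟨x, rfl⟩ := (L.mem r).1 hr
  have h1 : L.hom A h (a ^ (-n) * ⟨b, hb⟩) = 1 := by
    have h2 : L.hom A h a ^ n = L.hom A h ⟨b, hb⟩ := congrArg Subtype.val hn
    rw [map_mul, map_zpow, ← h2, ← zpow_add, neg_add_cancel, zpow_zero]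
  have h3 := L.trivial_of_sg A h hA h1 x
  simpa using h3

end main

end LineF

end Cfsg.Agent.Omega.IId.SemiLine

end

section


/-!
# FIELD KILL (#11341, helper951; referee #12487)

`t` an involution with `C_G(t)` of characteristic 2, `R = O₂(C_G(t))`; `P i ≤ C_G(t)` (the fixed points of
the parabolics), `U₀` their common Sylow 2-subgroup, `z k` involutions with `C_G(z k) ≤ N_G(Q k)`.
Then `⟨P i⟩` is a 2-group.  No transfer, no orders, any rank.
-/

set_option autoImplicit false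

namespace Cfsg.Agent.Omega.FieldKill

open Subgroup
open scoped commutatorElement

variable {G : Type*} [Group G]

/-! ### coprime action -/

/-- If `e` has odd order, `c = x⁻¹ (e x e⁻¹)` is a 2-element commuting with `e`, then `c = 1`. -/
theorem coprime_fix {e x : G} (he : Odd (orderOf e)) (hc : e * (x⁻¹ * (e * x * e⁻¹)) = x⁻¹ * (e * x * e⁻¹) * e)
    {k : ℕ} (hk : (x⁻¹ * (e * x * e⁻¹)) ^ 2 ^ k = 1) : e * x = x * e := by
  set c := x⁻¹ * (e * x * e⁻¹) with hcdef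
  have h1 : e * x * e⁻¹ = x * c := by rw [hcdef]; group
  have h2 : ∀ n : ℕ, e ^ n * x * (e ^ n)⁻¹ = x * c ^ n := by
    intro n
    induction n with
    | zero => simp
    | succ n ih =>
      have e1 : e ^ (n + 1) * x * (e ^ (n + 1))⁻¹ = e * (e ^ n * x * (e ^ n)⁻¹) * e⁻¹ := by
        rw [pow_succ']; group
      have hcn : e * c ^ n = c ^ n * e := (Commute.pow_right (show Commute e c from hc) n)
      rw [e1, ih]
      calc e * (x * c ^ n) * e⁻¹ = (e * x * e⁻¹) * (e * c ^ n * e⁻¹) := by group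
        _ = x * c * c ^ n := by rw [h1, hcn, mul_inv_cancel_right]
        _ = x * c ^ (n + 1) := by rw [mul_assoc, ← pow_succ']
  have h3 : c ^ orderOf e = 1 := by
    have := h2 (orderOf e)
    rw [pow_orderOf_eq_one, inv_one, one_mul, mul_one] at this
    exact (left_eq_mul.1 this)
  have h4 : orderOf c ∣ Nat.gcd (orderOf e) (2 ^ k) :=
    Nat.dvd_gcd (orderOf_dvd_of_pow_eq_one h3) (orderOf_dvd_of_pow_eq_one hk)
  have h5 : Nat.gcd (orderOf e) (2 ^ k) = 1 :=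
    Nat.Coprime.pow_right _ (Nat.coprime_two_right.2 he)
  rw [h5, Nat.dvd_one, orderOf_eq_one_iff] at h4
  rw [h4, mul_one] at h1
  rw [mul_inv_eq_iff_eq_mul] at h1
  exact h1

/-- `E(Y)` : the subgroup generated by the elements of odd order of `Y` -/
def EE (Y : Subgroup G) : Subgroup G := closure {y | y ∈ Y ∧ Odd (orderOf y)}

theorem EE_le (Y : Subgroup G) : EE Y ≤ Y := by
  rw [EE, closure_le]
  exact fun y hy => hy.1

theorem mem_EE {Y : Subgroup G} {y : G} (hy : y ∈ Y) (ho : Odd (orderOf y)) : y ∈ EE Y :=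
  subset_closure ⟨hy, ho⟩

/-- `X` is centralised by `EE Y` iff by all elements of odd order. -/
theorem cen_EE {Y X : Subgroup G} :
    EE Y ≤ centralizer (X : Set G) ↔ ∀ y ∈ Y, Odd (orderOf y) → ∀ x ∈ X, y * x = x * y := by
  constructor
  · intro h y hy ho x hx
    exact (mem_centralizer_iff.1 (h (mem_EE hy ho)) x hx).symm
  · intro h
    rw [EE, closure_le]
    rintro y ⟨hy, ho⟩
    rw [SetLike.mem_coe, mem_centralizer_iff]
    exact fun x hx => (h y hy ho x hx).symm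

/-- invariance under `Y` -/
def Inv (Y X : Subgroup G) : Prop := ∀ y ∈ Y, ∀ x ∈ X, y * x * y⁻¹ ∈ X

theorem orderOf_conj (g y : G) : orderOf (g * y * g⁻¹) = orderOf y := by
  have := orderOf_injective (MulAut.conj g).toMonoidHom (MulAut.conj g).injective y
  simpa using this

/-- `C_X(EE Y)` is `Y`-invariant -/
theorem inv_cen {Y X : Subgroup G} (hX : Inv Y X) : Inv Y (X ⊓ centralizer (EE Y : Set G)) := by
  rintro y hy x ⟨hx, hc⟩
  refine ⟨hX y hy x hx, mem_centralizer_iff.2 fun e he => ?_⟩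
  have h1 : y⁻¹ * e * y ∈ EE Y := by
    have key : EE Y ≤ (EE Y).comap (MulAut.conj y⁻¹).toMonoidHom := by
      rw [EE, closure_le]
      rintro u ⟨hu, ho⟩
      show y⁻¹ * u * y⁻¹⁻¹ ∈ EE Y
      refine subset_closure ⟨mul_mem (mul_mem (inv_mem hy) hu) (inv_mem (inv_mem hy)), ?_⟩
      rw [orderOf_conj]; exact ho
    have := key he
    change y⁻¹ * e * y⁻¹⁻¹ ∈ EE Y at this
    rwa [inv_inv] at this
  have h2 := mem_centralizer_iff.1 hc _ h1
  calc e * (y * x * y⁻¹) = y * ((y⁻¹ * e * y) * x) * y⁻¹ := by group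
    _ = y * (x * (y⁻¹ * e * y)) * y⁻¹ := by rw [h2]
    _ = y * x * y⁻¹ * e := by group

/-- if `[X, EE Y]` is centralised by `EE Y`, so is `X` -/
theorem cen_of_comm {Y X : Subgroup G} (h2 : IsPGroup 2 X) (hX : Inv Y X)
    (h : ∀ x ∈ X, ∀ y ∈ Y, Odd (orderOf y) → x⁻¹ * (y * x * y⁻¹) ∈ centralizer (EE Y : Set G)) :
    EE Y ≤ centralizer (X : Set G) := by
  rw [cen_EE]
  intro y hy ho x hx
  have h1 := mem_centralizer_iff.1 (h x hx y hy ho) y (mem_EE hy ho)
  obtain ⟨k, hk⟩ := h2 ⟨x⁻¹ * (y * x * y⁻¹), mul_mem (inv_mem hx) (hX y hy x hx)⟩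
  exact coprime_fix ho h1 (by simpa using congrArg Subtype.val hk)

/-- `X` is minimal `Y`-invariant with `[X, EE Y] ≠ 1` -/
structure Min (Y X : Subgroup G) : Prop where
  two : IsPGroup 2 X
  inv : Inv Y X
  ne : ¬ EE Y ≤ centralizer (X : Set G)
  min : ∀ X' ≤ X, Inv Y X' → X' ≠ X → EE Y ≤ centralizer (X' : Set G)

theorem exists_min [Finite G] {Y R : Subgroup G} (h2 : IsPGroup 2 R) (hR : Inv Y R)
    (hne : ¬ EE Y ≤ centralizer (R : Set G)) : ∃ X ≤ R, Min Y X := by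
  classical
  let S : Set (Subgroup G) := {X | X ≤ R ∧ Inv Y X ∧ ¬ EE Y ≤ centralizer (X : Set G)}
  obtain ⟨X, hX⟩ := (Set.toFinite S).exists_minimal ⟨R, le_rfl, hR, hne⟩
  refine ⟨X, hX.prop.1, h2.to_le hX.prop.1, hX.prop.2.1, hX.prop.2.2, fun X' hX' hi hn => ?_⟩
  by_contra hc
  have h1 : X' ∈ S := ⟨hX'.trans hX.prop.1, hi, hc⟩
  exact hn (le_antisymm hX' (hX.le_of_le h1 hX'))

section min

variable {Y X : Subgroup G} (m : Min Y X)
include m

/-- `D₁ = C_X(EE Y)` -/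
theorem Min.lt [Finite G] : X ⊓ centralizer (EE Y : Set G) ≠ X := by
  intro h
  apply m.ne
  have h1 : X ≤ centralizer (EE Y : Set G) := by rw [← h]; exact inf_le_right
  rw [le_centralizer_iff]
  exact h1

/-- a proper `Y`-invariant subgroup is contained in `D₁` -/
theorem Min.le {X' : Subgroup G} (h : X' ≤ X) (hi : Inv Y X') (hn : X' ≠ X) :
    X' ≤ X ⊓ centralizer (EE Y : Set G) :=
  le_inf h (le_centralizer_iff.1 (m.min X' h hi hn))

/-- `[X, X] ≤ D₁` -/
theorem Min.comm_le [Finite G] {x x' : G} (hx : x ∈ X) (hx' : x' ∈ X) :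
    ⁅x, x'⁆ ∈ X ⊓ centralizer (EE Y : Set G) := by
  have h1 : ⁅X, X⁆ ≤ X := by
    rw [commutator_le]
    intro a ha c hc
    rw [commutatorElement_def]
    exact mul_mem (mul_mem (mul_mem ha hc) (inv_mem ha)) (inv_mem hc)
  have h2 : Inv Y ⁅X, X⁆ := by
    intro y hy
    have : ⁅X, X⁆ ≤ (⁅X, X⁆).comap (MulAut.conj y).toMonoidHom := by
      rw [commutator_le]
      intro a ha c hc
      show (MulAut.conj y).toMonoidHom ⁅a, c⁆ ∈ ⁅X, X⁆
      rw [map_commutatorElement]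
      exact commutator_mem_commutator (m.inv y hy a ha) (m.inv y hy c hc)
    exact fun x hx => this hx
  have h3 : ⁅X, X⁆ ≠ X := by
    intro h
    have : Nontrivial X := by
      rw [nontrivial_iff_ne_bot]
      rintro rfl
      apply m.ne
      intro e _
      rw [mem_centralizer_iff]
      intro x hx
      rw [SetLike.mem_coe, mem_bot] at hx
      rw [hx, one_mul, mul_one]
    have : Fact (Nat.Prime 2) := ⟨Nat.prime_two⟩
    have : Group.IsNilpotent X := m.two.isNilpotent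
    have h4 := (Group.IsSolvable.commutator_lt_top_of_nontrivial X).ne
    apply h4
    rw [← map_subtype_commutator] at h
    rw [eq_top_iff]
    rintro ⟨x, hx⟩ -
    have hx2 : x ∈ map X.subtype (_root_.commutator X) := by rw [h]; exact hx
    obtain ⟨x', hx', e⟩ := hx2
    have h5 : x' = ⟨x, hx⟩ := Subtype.ext e
    rw [← h5]
    exact hx'
  exact m.le h1 h2 h3 (commutator_mem_commutator hx hx')

/-- `D₁ ≤ Z(X)` -/
theorem Min.central [Finite G] {d x : G} (hd : d ∈ X ⊓ centralizer (EE Y : Set G)) (hx : x ∈ X) :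
    d * x = x * d := by
  set D := X ⊓ centralizer (EE Y : Set G) with hD
  -- `x⁻¹ x^e` commutes with `D`
  have key : ∀ d ∈ D, ∀ x ∈ X, ∀ e ∈ EE Y, d * (x⁻¹ * (e * x * e⁻¹)) = x⁻¹ * (e * x * e⁻¹) * d := by
    intro d hd x hx e he
    have h1 := m.comm_le hd.1 hx
    have hed := mem_centralizer_iff.1 hd.2 e he
    have h2 := mem_centralizer_iff.1 h1.2 e he
    have hde : e * d * e⁻¹ = d := by rw [hed, mul_inv_cancel_right]
    have h3 : e * ⁅d, x⁆ * e⁻¹ = ⁅d, x⁆ := by rw [h2, mul_inv_cancel_right]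
    have h4 : e * ⁅d, x⁆ * e⁻¹ = ⁅e * d * e⁻¹, e * x * e⁻¹⁆ := by
      rw [commutatorElement_def, commutatorElement_def]; group
    rw [h4, hde, commutatorElement_def, commutatorElement_def] at h3
    -- `d x' d⁻¹ x'⁻¹ = d x d⁻¹ x⁻¹`
    set x' := e * x * e⁻¹ with hx'
    have h5 : x' * d⁻¹ * x'⁻¹ = x * d⁻¹ * x⁻¹ := by
      have := congrArg (fun g => d⁻¹ * g) h3
      simpa [mul_assoc] using this
    have h6 : x⁻¹ * x' * d⁻¹ * (x⁻¹ * x')⁻¹ = d⁻¹ := by
      calc x⁻¹ * x' * d⁻¹ * (x⁻¹ * x')⁻¹ = x⁻¹ * (x' * d⁻¹ * x'⁻¹) * x := by group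
        _ = d⁻¹ := by rw [h5]; group
    have h7 : x⁻¹ * x' * d⁻¹ = d⁻¹ * (x⁻¹ * x') := by
      rw [mul_inv_eq_iff_eq_mul] at h6; exact h6
    calc d * (x⁻¹ * x') = d * (x⁻¹ * x' * d⁻¹) * d := by group
      _ = x⁻¹ * x' * d := by rw [h7]; group
  -- `C_X(D)` is `Y`-invariant and not centralised by `EE Y`
  have hDi : Inv Y D := inv_cen m.inv
  have hCi : Inv Y (X ⊓ centralizer (D : Set G)) := by
    rintro y hy x ⟨hx, hc⟩
    refine ⟨m.inv y hy x hx, mem_centralizer_iff.2 fun d hd => ?_⟩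
    have h1 := hDi y⁻¹ (inv_mem hy) d hd
    rw [inv_inv] at h1
    have h2 := mem_centralizer_iff.1 hc _ h1
    calc d * (y * x * y⁻¹) = y * ((y⁻¹ * d * y) * x) * y⁻¹ := by group
      _ = y * (x * (y⁻¹ * d * y)) * y⁻¹ := by rw [h2]
      _ = y * x * y⁻¹ * d := by group
  have hCX : X ⊓ centralizer (D : Set G) = X := by
    by_contra hn
    apply m.ne
    refine cen_of_comm m.two m.inv fun x hx y hy ho => ?_
    have hc : x⁻¹ * (y * x * y⁻¹) ∈ X ⊓ centralizer (D : Set G) :=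
      mem_inf.2 ⟨X.mul_mem (X.inv_mem hx) (m.inv y hy x hx), mem_centralizer_iff.2 fun d hd =>
        key d hd x hx y (mem_EE hy ho)⟩
    exact (m.le inf_le_left hCi hn hc).2
  have hxC : x ∈ X ⊓ centralizer (D : Set G) := by rw [hCX]; exact hx
  exact mem_centralizer_iff.1 hxC.2 d hd

/-- a 2-subgroup `U` of `Y` fixes a coset `x D'` of an invariant subgroup `D' < X` -/
theorem Min.exists_fixed [Finite G] {U D' : Subgroup G} (hU : IsPGroup 2 U) (hUY : U ≤ Y) (hD' : D' ≤ X)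
    (hi : Inv Y D') (hne : D' ≠ X) :
    ∃ x ∈ X, x ∉ D' ∧ ∀ u ∈ U, x⁻¹ * (u * x * u⁻¹) ∈ D' := by
  have : Fact (Nat.Prime 2) := ⟨Nat.prime_two⟩
  set E := D'.subgroupOf X with hE
  let act : U → X ⧸ E → X ⧸ E := fun u =>
    Quotient.map' (fun x => ⟨u * x * (u : G)⁻¹, m.inv u (hUY u.2) x x.2⟩) (by
      intro x y h
      rw [QuotientGroup.leftRel_apply] at h ⊢
      rw [hE, mem_subgroupOf] at h ⊢
      have := hi u (hUY u.2) _ h
      have e : (u : G) * ((x⁻¹ * y : X) : G) * (u : G)⁻¹ =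
          (((⟨u * x * (u : G)⁻¹, m.inv u (hUY u.2) x x.2⟩ : X)⁻¹ *
            ⟨u * y * (u : G)⁻¹, m.inv u (hUY u.2) y y.2⟩ : X) : G) := by
        simp only [Subgroup.coe_mul, Subgroup.coe_inv]
        group
      rwa [e] at this)
  let _ : MulAction U (X ⧸ E) :=
    { smul := act
      one_smul := by
        intro a
        induction a using QuotientGroup.induction_on with
        | H x =>
          show Quotient.mk'' _ = Quotient.mk'' _
          congr 1
          apply Subtype.ext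
          simp
      mul_smul := by
        intro u w a
        induction a using QuotientGroup.induction_on with
        | H x =>
          show Quotient.mk'' _ = Quotient.mk'' _
          congr 1
          apply Subtype.ext
          simp only [Subgroup.coe_mul]
          group }
  have hsmul : ∀ (u : U) (x : X), u • (QuotientGroup.mk x : X ⧸ E) =
      QuotientGroup.mk ⟨u * x * (u : G)⁻¹, m.inv u (hUY u.2) x x.2⟩ := fun u x => rfl
  have hcard : 2 ∣ Nat.card (X ⧸ E) := by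
    obtain ⟨n, hn⟩ := m.two.index E
    have h1 : E.index ≠ 1 := by
      rw [Ne, index_eq_one, hE, subgroupOf_eq_top]
      exact fun h => hne (le_antisymm hD' h)
    have hn0 : n ≠ 0 := by
      rintro rfl
      exact h1 (by rw [hn, pow_zero])
    change 2 ∣ E.index
    rw [hn]
    exact dvd_pow_self 2 hn0
  obtain ⟨a, ha, hne1⟩ := hU.exists_fixed_point_of_prime_dvd_card_of_fixed_point (X ⧸ E) hcard
    (a := QuotientGroup.mk 1) (by
      intro u
      rw [hsmul]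
      congr 1
      apply Subtype.ext
      simp)
  induction a using QuotientGroup.induction_on with
  | H x =>
    refine ⟨x, x.2, fun h => hne1 ?_, fun u hu => ?_⟩
    · rw [QuotientGroup.eq, inv_one, one_mul, hE, mem_subgroupOf]
      exact h
    · have h1 := ha ⟨u, hu⟩
      rw [hsmul] at h1
      have h2 := QuotientGroup.eq.1 h1.symm
      rw [hE, mem_subgroupOf] at h2
      exact h2

end min

/-! ### (3) -/

/-- **(3), first form**: if `C_R(z)` is centralised by `Y` and `z ∈ [U, U]` for a 2-subgroup `U ≤ Y`,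
then the elements of odd order of `Y` centralise `R`. -/
theorem cen_of_mem_comm [Finite G] {R Y U : Subgroup G} {z : G} (hR : IsPGroup 2 R) (hYR : Inv Y R)
    (hU : IsPGroup 2 U) (hUY : U ≤ Y) (hz : z ∈ ⁅U, U⁆)
    (hF : ∀ x ∈ R, x * z = z * x → ∀ y ∈ Y, x * y = y * x) : EE Y ≤ centralizer (R : Set G) := by
  by_contra hne
  obtain ⟨X, hXR, m⟩ := exists_min hR hYR hne
  have hzU : z ∈ U := by
    have : ⁅U, U⁆ ≤ U := by
      rw [commutator_le]
      intro a ha c hc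
      rw [commutatorElement_def]
      exact mul_mem (mul_mem (mul_mem ha hc) (inv_mem ha)) (inv_mem hc)
    exact this hz
  -- `F₁ = C_X(z)`
  have hFi : Inv Y (X ⊓ centralizer {z}) := by
    rintro y hy x ⟨hx, hc'⟩
    have hc : x * z = z * x := mem_centralizer_singleton_iff.1 hc'
    have h1 := hF x (hXR hx) hc y hy
    have e : y * x * y⁻¹ = x := by rw [← h1]; group
    rw [e]
    exact ⟨hx, mem_centralizer_singleton_iff.2 hc⟩
  have hFne : X ⊓ centralizer {z} ≠ X := by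
    intro h
    apply m.ne
    rw [cen_EE]
    intro y hy _ x hx
    rw [← h] at hx
    exact (hF x (hXR hx.1) (mem_centralizer_singleton_iff.1 hx.2) y hy).symm
  have hFD := m.le inf_le_left hFi hFne
  obtain ⟨x, hx, hxF, hfix⟩ := m.exists_fixed hU hUY inf_le_left hFi hFne
  apply hxF
  -- the homomorphism `u ↦ x⁻¹ (u x u⁻¹)`
  let A : Subgroup G := X ⊓ centralizer {z}
  have hA : ∀ a ∈ A, ∀ c ∈ A, a * c = c * a := fun a ha c hc => m.central (hFD ha) hc.1
  have hAU : ∀ a ∈ A, ∀ u ∈ U, a * u = u * a := fun a ha u hu =>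
    hF a (hXR ha.1) (mem_centralizer_singleton_iff.1 ha.2) u (hUY hu)
  let T : Subgroup G :=
    { carrier := {u | u ∈ U ∧ x⁻¹ * (u * x * u⁻¹) = 1}
      one_mem' := ⟨one_mem _, by group⟩
      mul_mem' := by
        rintro u w ⟨hu, hu'⟩ ⟨hw, hw'⟩
        refine ⟨mul_mem hu hw, ?_⟩
        have e1 : w * x * w⁻¹ = x := by
          have := congrArg (fun g => x * g) hw'
          simpa [mul_assoc] using this
        have e2 : u * x * u⁻¹ = x := by
          have := congrArg (fun g => x * g) hu'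
          simpa [mul_assoc] using this
        calc x⁻¹ * (u * w * x * (u * w)⁻¹) = x⁻¹ * (u * (w * x * w⁻¹) * u⁻¹) := by group
          _ = 1 := by rw [e1, e2, inv_mul_cancel]
      inv_mem' := by
        rintro u ⟨hu, hu'⟩
        refine ⟨inv_mem hu, ?_⟩
        have e2 : u * x * u⁻¹ = x := by
          have := congrArg (fun g => x * g) hu'
          simpa [mul_assoc] using this
        calc x⁻¹ * (u⁻¹ * x * u⁻¹⁻¹) = x⁻¹ * (u⁻¹ * (u * x * u⁻¹) * u) := by rw [e2, inv_inv]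
          _ = 1 := by group }
  have hT : ⁅U, U⁆ ≤ T := by
    rw [commutator_le]
    intro u hu w hw
    -- `φ u = x⁻¹ u x u⁻¹`
    have hφ : ∀ u w, u ∈ U → w ∈ U → x⁻¹ * (u * w * x * (u * w)⁻¹) =
        x⁻¹ * (u * x * u⁻¹) * (x⁻¹ * (w * x * w⁻¹)) := by
      intro u w hu hw
      have h1 := hAU _ (hfix w hw) u⁻¹ (inv_mem hu)
      calc x⁻¹ * (u * w * x * (u * w)⁻¹) = x⁻¹ * (u * x * ((x⁻¹ * (w * x * w⁻¹)) * u⁻¹)) := by group
        _ = x⁻¹ * (u * x * u⁻¹) * (x⁻¹ * (w * x * w⁻¹)) := by rw [h1]; group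
    have h2 : ∀ u w, u ∈ U → w ∈ U → x⁻¹ * (u * w * x * (u * w)⁻¹) = x⁻¹ * (w * u * x * (w * u)⁻¹) := by
      intro u w hu hw
      rw [hφ u w hu hw, hφ w u hw hu]
      exact hA _ (hfix u hu) _ (hfix w hw)
    refine ⟨?_, ?_⟩
    · rw [commutatorElement_def]
      exact mul_mem (mul_mem (mul_mem hu hw) (inv_mem hu)) (inv_mem hw)
    · have h3 : ⁅u, w⁆ = (u * w) * (w * u)⁻¹ := by rw [commutatorElement_def]; group
      rw [h3]
      have hwu : (w * u)⁻¹ ∈ U := inv_mem (mul_mem hw hu)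
      rw [hφ _ _ (mul_mem hu hw) hwu, h2 u w hu hw, ← hφ _ _ (mul_mem hw hu) hwu]
      group
  have h1 := (hT hz).2
  refine ⟨hx, mem_centralizer_singleton_iff.2 ?_⟩
  have e2 : z * x * z⁻¹ = x := by
    have := congrArg (fun g => x * g) h1
    simpa [mul_assoc] using this
  exact (mul_inv_eq_iff_eq_mul.1 e2).symm

/-- **(3), second form** (`Sp₄(4)`): `P i` is generated by `U` and elements of odd order, `z i ∈ U` is
centralised by `P i`, `C_R(z i)` is centralised by `Y = ⟨P i⟩`. -/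
theorem cen_of_pair [Finite G] {ι : Type*} {R Y U : Subgroup G} {P : ι → Subgroup G} {z : ι → G}
    (hR : IsPGroup 2 R) (hYR : Inv Y R) (hU : IsPGroup 2 U) (hP : ∀ i, P i ≤ U ⊔ EE (P i)) (hY : Y = ⨆ i, P i)
    (hUY : U ≤ Y) (hzU : ∀ i, z i ∈ U) (hzP : ∀ i, P i ≤ centralizer {z i})
    (hF : ∀ i, ∀ x ∈ R, x * z i = z i * x → ∀ y ∈ Y, x * y = y * x) :
    EE Y ≤ centralizer (R : Set G) := by
  by_contra hne
  obtain ⟨X, hXR, m⟩ := exists_min hR hYR hne
  set D := X ⊓ centralizer (EE Y : Set G) with hD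
  have hDi : Inv Y D := inv_cen m.inv
  have hPY : ∀ i, P i ≤ Y := fun i => by rw [hY]; exact le_iSup P i
  obtain ⟨x, hx, hxD, hfix⟩ := m.exists_fixed hU hUY inf_le_left hDi m.lt
  -- the stabiliser of the coset `x D` in `Y`
  let T : Subgroup G :=
    { carrier := {y | y ∈ Y ∧ x⁻¹ * (y * x * y⁻¹) ∈ D}
      one_mem' := ⟨one_mem _, by
        have : x⁻¹ * (1 * x * (1 : G)⁻¹) = 1 := by group
        rw [this]; exact one_mem _⟩
      mul_mem' := by
        rintro u w ⟨hu, hu'⟩ ⟨hw, hw'⟩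
        refine ⟨mul_mem hu hw, ?_⟩
        have e : x⁻¹ * (u * w * x * (u * w)⁻¹) = x⁻¹ * (u * x * u⁻¹) * (u * (x⁻¹ * (w * x * w⁻¹)) * u⁻¹) := by
          group
        rw [e]
        exact mul_mem hu' (hDi u hu _ hw')
      inv_mem' := by
        rintro u ⟨hu, hu'⟩
        refine ⟨inv_mem hu, ?_⟩
        have h1 := hDi u⁻¹ (inv_mem hu) _ (inv_mem hu')
        have e3 : u⁻¹ * (x⁻¹ * (u * x * u⁻¹))⁻¹ * u⁻¹⁻¹ = x⁻¹ * (u⁻¹ * x * u⁻¹⁻¹) := by group
        rw [← e3]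
        exact h1 }
  have hUT : U ≤ T := fun u hu => ⟨hUY hu, hfix u hu⟩
  have hET : ∀ i, EE (P i) ≤ T := by
    intro i
    rw [EE, closure_le]
    rintro e ⟨he, ho⟩
    refine ⟨hPY i he, ?_⟩
    have hd := hfix (z i) (hzU i)
    set d := x⁻¹ * (z i * x * (z i)⁻¹) with hddef
    set c := x⁻¹ * (e * x * e⁻¹) with hcdef
    have hcX : c ∈ X := mul_mem (inv_mem hx) (m.inv e (hPY i he) x hx)
    have hze : z i * e = e * z i := (mem_centralizer_singleton_iff.1 (hzP i he)).symm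
    have hed : e * d = d * e := mem_centralizer_iff.1 hd.2 e (mem_EE (hPY i he) ho)
    have hdc : d * c = c * d := m.central hd hcX
    have h1 : z i * x * (z i)⁻¹ = x * d := by rw [hddef]; group
    have h2 : z i * (e * x * e⁻¹) * (z i)⁻¹ = (e * x * e⁻¹) * d := by
      have hze' : e⁻¹ * (z i)⁻¹ = (z i)⁻¹ * e⁻¹ := by
        have := congrArg (fun g => g⁻¹) hze
        simpa using this
      calc z i * (e * x * e⁻¹) * (z i)⁻¹ = (z i * e) * x * (e⁻¹ * (z i)⁻¹) := by group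
        _ = e * (z i * x * (z i)⁻¹) * e⁻¹ := by rw [hze, hze']; group
        _ = e * x * (d * e⁻¹) := by rw [h1]; group
        _ = e * x * (e⁻¹ * (e * d) * e⁻¹) := by group
        _ = (e * x * e⁻¹) * d := by rw [hed]; group
    have h3 : z i * c * (z i)⁻¹ = c := by
      calc z i * c * (z i)⁻¹ = (z i * x * (z i)⁻¹)⁻¹ * (z i * (e * x * e⁻¹) * (z i)⁻¹) := by
            rw [hcdef]; group
        _ = d⁻¹ * (c * d) := by rw [h1, h2, hcdef]; group
        _ = c := by rw [← hdc]; group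
    have h4 : c * z i = z i * c := (mul_inv_eq_iff_eq_mul.1 h3).symm
    refine ⟨hcX, mem_centralizer_iff.2 fun g hg => ?_⟩
    exact (hF i c (hXR hcX) h4 g (EE_le Y hg)).symm
  have hYT : Y ≤ T := by
    nth_rewrite 1 [hY]
    exact iSup_le fun i => (hP i).trans (sup_le hUT (hET i))
  -- the fixed points of `Y` on `X / D`
  let K : Subgroup G :=
    { carrier := {g | g ∈ X ∧ ∀ y ∈ Y, g⁻¹ * (y * g * y⁻¹) ∈ D}
      one_mem' := ⟨one_mem _, fun y _ => by
        have : (1 : G)⁻¹ * (y * 1 * y⁻¹) = 1 := by group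
        rw [this]; exact one_mem _⟩
      mul_mem' := by
        rintro g h ⟨hg, hg'⟩ ⟨hh, hh'⟩
        refine ⟨mul_mem hg hh, fun y hy => ?_⟩
        have h1 := m.central (hg' y hy) hh
        have e : (g * h)⁻¹ * (y * (g * h) * y⁻¹) = h⁻¹ * (g⁻¹ * (y * g * y⁻¹) * h) * (h⁻¹ * (y * h * y⁻¹)) := by
          group
        rw [e, h1, inv_mul_cancel_left]
        exact mul_mem (hg' y hy) (hh' y hy)
      inv_mem' := by
        rintro g ⟨hg, hg'⟩
        refine ⟨inv_mem hg, fun y hy => ?_⟩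
        have h1 := m.central (inv_mem (hg' y hy)) hg
        have e : g⁻¹⁻¹ * (y * g⁻¹ * y⁻¹) = g * (g⁻¹ * (y * g * y⁻¹))⁻¹ * g⁻¹ := by group
        rw [e, ← h1, mul_inv_cancel_right]
        exact inv_mem (hg' y hy) }
  have hKi : Inv Y K := by
    rintro w hw g ⟨hg, hg'⟩
    refine ⟨m.inv w hw g hg, fun y hy => ?_⟩
    have h1 := hDi w hw _ (hg' (w⁻¹ * y * w) (mul_mem (mul_mem (inv_mem hw) hy) hw))
    have e : (w * g * w⁻¹)⁻¹ * (y * (w * g * w⁻¹) * y⁻¹) =
        w * (g⁻¹ * (w⁻¹ * y * w * g * (w⁻¹ * y * w)⁻¹)) * w⁻¹ := by group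
    rw [e]
    exact h1
  have hKX : K = X := by
    by_contra hn
    have hKle : K ≤ X := fun g hg => (show g ∈ X ∧ _ from hg).1
    exact hxD (m.le hKle hKi hn (show x ∈ K from ⟨hx, fun y hy => (hYT hy).2⟩))
  apply m.ne
  refine cen_of_comm m.two m.inv fun g hg y hy _ => ?_
  rw [← hKX] at hg
  exact (hg.2 y hy).2

/-! ### (2) -/

/-- If `C_R(z k)` centralises `Q k ∩ C(t)`-like subgroups `A k` containing all `z l`, the conjugates of the `z`'s
under generators of `Y` lie in some `A l`, and `Y` is the normal closure of the `A k`, then all `C_R(z k)` are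
centralised by `Y`. -/
theorem cen_F [Finite G] {ι κ : Type*} {R Y : Subgroup G} {P : ι → Subgroup G} {z : κ → G} {A : κ → Subgroup G}
    (hYR : Inv Y R) (hY : Y = ⨆ i, P i) (hAY : ∀ k, A k ≤ Y)
    (hFA : ∀ k, ∀ x ∈ R, x * z k = z k * x → ∀ a ∈ A k, x * a = a * x)
    (hz : ∀ k l, z l ∈ A k) (hP : ∀ i, ∀ y ∈ P i, ∃ k l, y * z k * y⁻¹ ∈ A l)
    (hcl : ∀ N ≤ Y, Inv Y N → (∀ k, A k ≤ N) → N = Y) :
    ∀ k, ∀ x ∈ R, x * z k = z k * x → ∀ y ∈ Y, x * y = y * x := by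
  intro k
  set F := R ⊓ centralizer {z k} with hFdef
  -- all `C_R(z l)` are equal
  have hcomm : ∀ k l, ∀ x ∈ R, x * z k = z k * x → x * z l = z l * x := fun k l x hx h =>
    hFA k x hx h _ (hz k l)
  have hFA' : ∀ x ∈ F, ∀ l, ∀ a ∈ A l, x * a = a * x := by
    rintro x ⟨hx, hc⟩ l a ha
    exact hFA l x hx (hcomm k l x hx (mem_centralizer_singleton_iff.1 hc)) a ha
  -- `F` is `Y`-invariant
  have hYN : Y ≤ normalizer (F : Set G) := by
    rw [hY]
    refine iSup_le fun i y hy => ?_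
    have hyY : y ∈ Y := by rw [hY]; exact mem_iSup_of_mem i hy
    obtain ⟨a, l, hal⟩ := hP i y hy
    have h1 : F ≤ F.map (MulAut.conj y).toMonoidHom := by
      intro x hx
      refine ⟨y⁻¹ * x * y, ?_, by
        show y * (y⁻¹ * x * y) * y⁻¹ = x
        group⟩
      have hR : y⁻¹ * x * y ∈ R := by
        have := hYR y⁻¹ (inv_mem hyY) x hx.1
        rwa [inv_inv] at this
      refine ⟨hR, mem_centralizer_singleton_iff.2 (hcomm a k _ hR ?_)⟩
      have h2 := hFA' x hx l _ hal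
      calc y⁻¹ * x * y * z a = y⁻¹ * (x * (y * z a * y⁻¹)) * y := by group
        _ = y⁻¹ * (y * z a * y⁻¹ * x) * y := by rw [h2]
        _ = z a * (y⁻¹ * x * y) := by group
    have h2 : F = F.map (MulAut.conj y).toMonoidHom :=
      eq_of_le_of_card_ge h1
        (Nat.card_congr (F.equivMapOfInjective _ (MulAut.conj y).injective).toEquiv.symm).le
    rw [mem_normalizer_iff]
    intro x
    constructor
    · intro hx
      rw [h2]
      exact ⟨x, hx, rfl⟩
    · intro hx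
      rw [h2] at hx
      obtain ⟨x', hx', e⟩ := hx
      have e' : y * x' * y⁻¹ = y * x * y⁻¹ := e
      have : x' = x := by simpa using e'
      rwa [← this]
  have hC : Y ⊓ centralizer (F : Set G) = Y := by
    refine hcl _ inf_le_left ?_ fun l => le_inf (hAY l) fun a ha => mem_centralizer_iff.2 fun x hx =>
      hFA' x hx l a ha
    intro y hy c hcc
    have hc : c ∈ Y := (mem_inf.1 hcc).1
    have hcF := (mem_inf.1 hcc).2
    refine mem_inf.2 ⟨Y.mul_mem (Y.mul_mem hy hc) (Y.inv_mem hy), mem_centralizer_iff.2 fun x hx => ?_⟩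
    have h1 : y⁻¹ * x * y ∈ F := by
      have := (mem_normalizer_iff.1 (hYN (inv_mem hy)) x).1 hx
      rwa [inv_inv] at this
    have h2 := mem_centralizer_iff.1 hcF _ h1
    calc x * (y * c * y⁻¹) = y * ((y⁻¹ * x * y) * c) * y⁻¹ := by group
      _ = y * (c * (y⁻¹ * x * y)) * y⁻¹ := by rw [h2]
      _ = y * c * y⁻¹ * x := by group
  intro x hx hxz y hy
  rw [← hC] at hy
  exact mem_centralizer_iff.1 hy.2 x ⟨hx, mem_centralizer_singleton_iff.2 hxz⟩

/-! ### (1), and the theorem -/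

/-- The situation. `T` = the centraliser of the field involution, `R = O₂(T)`. -/
structure Hyp {ι κ : Type*} (T R U : Subgroup G) (P : ι → Subgroup G) (Q : κ → Subgroup G) (z : κ → G) : Prop where
  two : IsPGroup 2 R
  inv : Inv T R
  R_le : R ≤ T
  char2 : T ⊓ centralizer (R : Set G) ≤ R
  U_two : IsPGroup 2 U
  U_le : ∀ i, U ≤ P i
  P_le : ∀ i, P i ≤ T
  syl : ∀ i, ¬ 2 ∣ U.relIndex (P i)
  core : ∀ N ≤ U, (∀ i, Inv (P i) N) → N = ⊥
  Q_U : ∀ k, Q k ⊓ T ≤ U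
  z_T : ∀ k, z k ∈ T
  z_Q : ∀ k l, z l ∈ Q k
  cz : ∀ k, centralizer {z k} ≤ normalizer (Q k : Set G)
  conj : ∀ i, ∀ y ∈ P i, ∃ k l, y * z k * y⁻¹ ∈ Q l
  clo : ∀ N ≤ ⨆ i, P i, Inv (⨆ i, P i) N → (∀ k, Q k ⊓ T ≤ N) → N = ⨆ i, P i

namespace Hyp

variable {ι κ : Type*} {T R U : Subgroup G} {P : ι → Subgroup G} {Q : κ → Subgroup G} {z : κ → G}
  (H : Hyp T R U P Q z)
include H

theorem Y_le : ⨆ i, P i ≤ T := iSup_le H.P_le

/-- **(1)** `R ∩ U = 1` -/
theorem inf_eq [Finite G] [Nonempty ι] : R ⊓ U = ⊥ := by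
  refine H.core _ inf_le_right fun i y hy x hx => ?_
  have hyT := H.P_le i hy
  refine ⟨H.inv y hyT x hx.1, ?_⟩
  -- `R ∩ P i` is a normal 2-subgroup of `P i`, `U` is Sylow in `P i`
  let N : Subgroup (P i) := R.subgroupOf (P i)
  have hN : N.Normal := ⟨fun n hn g => H.inv g (H.P_le i g.2) n hn⟩
  have : Fact (Nat.Prime 2) := ⟨Nat.prime_two⟩
  have hN2 : IsPGroup 2 N := IsPGroup.comap_subtype (K := P i) H.two
  have hU2 : IsPGroup 2 (U.subgroupOf (P i)) := IsPGroup.comap_subtype (K := P i) H.U_two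
  obtain ⟨S, hS⟩ := hU2.exists_le_sylow
  have hUS : U.subgroupOf (P i) = S := by
    refine eq_of_le_of_card_ge hS ?_
    have h1 : (U.subgroupOf (P i)).relIndex S = 1 := by
      have h2 := relIndex_mul_index hS
      have h3 : (U.subgroupOf (P i)).relIndex S ∣ (U.subgroupOf (P i)).index := ⟨_, h2.symm⟩
      obtain ⟨n, hn⟩ := S.2.index ((U.subgroupOf (P i)).subgroupOf S)
      have h4 : (U.subgroupOf (P i)).relIndex S = 2 ^ n := hn
      rcases Nat.eq_zero_or_pos n with rfl | hpos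
      · rw [h4, pow_zero]
      · exfalso
        apply H.syl i
        have h5 : 2 ∣ (U.subgroupOf (P i)).relIndex S := by
          rw [h4]; exact dvd_pow_self 2 hpos.ne'
        exact h5.trans h3
    rw [relIndex_eq_one] at h1
    exact Subgroup.card_le_of_le h1
  have hNS : N ≤ (S : Subgroup (P i)) := IsPGroup.le_sylow_of_normal hN2 S
  have hyx : (⟨y * x * y⁻¹, mul_mem (mul_mem hy (H.U_le i hx.2)) (inv_mem hy)⟩ : P i) ∈ N :=
    H.inv y hyT x hx.1
  have := hNS hyx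
  rw [← hUS] at this
  exact this

/-- **(2)** `C_R(z k)` is centralised by `⟨P i⟩` -/
theorem cen_z [Finite G] [Nonempty ι] (k : κ) {x : G} (hx : x ∈ R) (hxz : x * z k = z k * x) {y : G}
    (hy : y ∈ ⨆ i, P i) : x * y = y * x := by
  have hY := H.Y_le
  refine cen_F (P := P) (A := fun k => Q k ⊓ T) (fun y hy x hx => H.inv y (hY hy) x hx) rfl ?_ ?_ ?_ ?_ ?_ k x hx
    hxz y hy
  · intro k
    obtain ⟨i⟩ := (inferInstance : Nonempty ι)
    exact (H.Q_U k).trans ((H.U_le i).trans (le_iSup P i))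
  · intro k x hx hxz a ha
    have haQ := (mem_inf.1 ha).1
    have haT := (mem_inf.1 ha).2
    have hxN := H.cz k (mem_centralizer_singleton_iff.2 hxz)
    have h1 : x * a * x⁻¹ * a⁻¹ ∈ R ⊓ U := by
      have h2 : x * a * x⁻¹ * a⁻¹ ∈ R := by
        have e : x * a * x⁻¹ * a⁻¹ = x * (a * x⁻¹ * a⁻¹) := by group
        rw [e]
        exact R.mul_mem hx (H.inv a haT _ (R.inv_mem hx))
      refine mem_inf.2 ⟨h2, H.Q_U k (mem_inf.2 ⟨?_, H.R_le h2⟩)⟩
      exact (Q k).mul_mem ((mem_normalizer_iff.1 hxN a).1 haQ) ((Q k).inv_mem haQ)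
    rw [H.inf_eq, mem_bot] at h1
    exact mul_inv_eq_iff_eq_mul.1 (mul_inv_eq_one.1 h1)
  · exact fun k l => mem_inf.2 ⟨H.z_Q k l, H.z_T l⟩
  · intro i y hy
    obtain ⟨k, l, h⟩ := H.conj i y hy
    have hyT := H.P_le i hy
    exact ⟨k, l, mem_inf.2 ⟨h, T.mul_mem (T.mul_mem hyT (H.z_T k)) (T.inv_mem hyT)⟩⟩
  · exact H.clo

/-- `E(⟨P i⟩)` does not centralise `R` if some `P i` has an element of odd order. -/
theorem false_of_cen {i : ι} {e : G} (he : e ∈ P i) (ho : Odd (orderOf e)) (h1 : e ≠ 1)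
    (hc : EE (⨆ i, P i) ≤ centralizer (R : Set G)) : False := by
  have heR : e ∈ R := H.char2 (mem_inf.2 ⟨H.P_le i he, hc (mem_EE (mem_iSup_of_mem i he) ho)⟩)
  obtain ⟨n, hn⟩ := H.two ⟨e, heR⟩
  have h2 : e ^ 2 ^ n = 1 := by simpa using congrArg Subtype.val hn
  have h3 : orderOf e ∣ 2 ^ n := orderOf_dvd_of_pow_eq_one h2
  have h4 : Nat.Coprime (orderOf e) (2 ^ n) := Nat.Coprime.pow_right _ (Nat.coprime_two_right.2 ho)
  exact h1 (orderOf_eq_one_iff.1 (Nat.eq_one_of_dvd_coprimes h4 dvd_rfl h3))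

theorem U_le_Y [Nonempty ι] : U ≤ ⨆ i, P i := by
  obtain ⟨i⟩ := (inferInstance : Nonempty ι)
  exact (H.U_le i).trans (le_iSup P i)

/-- **FIELD KILL, first form**: some `z k` is in `[U, U]`. -/
theorem false_of_comm [Finite G] {k : κ} (hk : z k ∈ ⁅U, U⁆) {i : ι} {e : G} (he : e ∈ P i)
    (ho : Odd (orderOf e)) (h1 : e ≠ 1) : False := by
  have : Nonempty ι := ⟨i⟩
  exact H.false_of_cen he ho h1 (cen_of_mem_comm H.two (fun y hy x hx => H.inv y (H.Y_le hy) x hx) H.U_two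
    H.U_le_Y hk fun x hx hxz y hy => H.cen_z k hx hxz hy)

/-- **FIELD KILL, second form** (`Sp₄(4)`): `P i` is generated by `U` and elements of odd order and centralises
one of the `z k`, `z k ∈ U`. -/
theorem false_of_pair [Finite G] (hP : ∀ i, P i ≤ U ⊔ EE (P i)) (hz : ∀ i, ∃ k, z k ∈ U ∧ P i ≤ centralizer {z k})
    {i : ι} {e : G} (he : e ∈ P i) (ho : Odd (orderOf e)) (h1 : e ≠ 1) : False := by
  have : Nonempty ι := ⟨i⟩
  choose k hkU hk using hz
  exact H.false_of_cen he ho h1 (cen_of_pair (z := fun i => z (k i)) H.two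
    (fun y hy x hx => H.inv y (H.Y_le hy) x hx) H.U_two hP rfl H.U_le_Y hkU hk
    fun i x hx hxz y hy => H.cen_z (k i) hx hxz hy)

end Hyp

end Cfsg.Agent.Omega.FieldKill

end

section


/-!
# LEMMA Z(AT)

`K` a finite group with no nontrivial normal subgroup of odd order, `S` a Sylow 2-subgroup of `K`,
`A` an elementary abelian 2-group and `T` a group of odd order, both normalising `K` and
centralising `S`, `T` normalising `A`, `C_A(T) = 1` (equivalently `A = [A,T]`).  Then `A`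
centralises `K`.

Proof: every `N_K(D)`, `D ≤ S A` a 2-group containing `A` with `N_{SA}(D)` Sylow in `N_{KA}(D)`,
centralises `A` (`Fr.loc`); an Alperin type induction shows that the elements of `A` are isolated
in `K A` (`Fr.iso`); the Z*-theorem (S0215) does the rest.
-/

set_option autoImplicit false

namespace Cfsg.Agent.Omega.ZAT

open Subgroup Cfsg.Agent.Transfer.FusionBasic

variable {G : Type*} [Group G]

/-- The conjugate `y A y⁻¹`. -/
abbrev cj (y : G) (A : Subgroup G) : Subgroup G := A.map (MulAut.conj y).toMonoidHom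

theorem mem_cj {y x : G} {A : Subgroup G} : x ∈ cj y A ↔ y⁻¹ * x * y ∈ A := mem_map_conj_iff

theorem conj_mem_cj {y x : G} {A : Subgroup G} (hx : x ∈ A) : y * x * y⁻¹ ∈ cj y A := by
  rw [mem_cj]
  have e : y⁻¹ * (y * x * y⁻¹) * y = x := by group
  rwa [e]

theorem cj_cj (x y : G) (A : Subgroup G) : cj y (cj x A) = cj (y * x) A := map_conj_map_conj A x y

/-- The configuration: `K` normal in `Y = K A`, `P = (P ⊓ K) A` a Sylow 2-subgroup of `Y`, `A`
central in `P`, `A ⊓ K = 1`, `T` centralises `P ⊓ K` and normalises `A = [A,T]` and `K`. -/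
structure Fr (K Y P A T : Subgroup G) : Prop where
  KY : K ≤ Y
  YK : Y ≤ normalizer (K : Set G)
  TK : T ≤ normalizer (K : Set G)
  cov : ∀ y ∈ Y, ∃ k ∈ K, ∃ a ∈ A, y = k * a
  PY : SylIn 2 P Y
  AP : A ≤ P
  com : ∀ a ∈ A, ∀ p ∈ P, a * p = p * a
  AK : ∀ a ∈ A, a ∈ K → a = 1
  TA : ∀ t ∈ T, ∀ a ∈ A, t * a * t⁻¹ ∈ A
  TS : ∀ t ∈ T, ∀ s ∈ P, s ∈ K → t * s = s * t
  gen : ∀ x : G, (∀ a ∈ A, ∀ t ∈ T, Commute x (a⁻¹ * (t * a * t⁻¹))) → ∀ a ∈ A, Commute x a

variable {K Y P A T : Subgroup G}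

theorem mem_K_conj {K : Subgroup G} {x : G} (hx : x ∈ normalizer (K : Set G)) {k : G}
    (hk : k ∈ K) : x * k * x⁻¹ ∈ K := ((Subgroup.mem_normalizer_iff.mp hx) k).mp hk

theorem mem_K_conj' {K : Subgroup G} {x : G} (hx : x ∈ normalizer (K : Set G)) {k : G}
    (hk : k ∈ K) : x⁻¹ * k * x ∈ K := by
  have := mem_K_conj (inv_mem hx) hk
  rwa [inv_inv] at this

theorem Fr.conj (h : Fr K Y P A T) {y : G} (hy : y ∈ Y) :
    Fr K Y (cj y P) (cj y A) (cj y T) := by
  have hyK : y ∈ normalizer (K : Set G) := h.YK hy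
  have hYy : cj y Y = Y := map_conj_eq_of_mem_normalizer (le_normalizer hy)
  refine ⟨h.KY, h.YK, ?_, ?_, ?_, map_mono h.AP, ?_, ?_, ?_, ?_, ?_⟩
  · intro t ht
    rw [mem_cj] at ht
    have h1 := h.TK ht
    have h2 := mul_mem (mul_mem hyK h1) (inv_mem hyK)
    have e : y * (y⁻¹ * t * y) * y⁻¹ = t := by group
    rwa [e] at h2
  · intro z hz
    obtain ⟨k, hk, a, ha, he⟩ := h.cov (y⁻¹ * z * y) (mul_mem (mul_mem (inv_mem hy) hz) hy)
    refine ⟨y * k * y⁻¹, mem_K_conj hyK hk, y * a * y⁻¹, conj_mem_cj ha, ?_⟩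
    have e : z = y * (y⁻¹ * z * y) * y⁻¹ := by group
    rw [e, he]; group
  · have := h.PY.map_conj y
    rwa [show Y.map (MulAut.conj y).toMonoidHom = Y from hYy] at this
  · intro a ha p hp
    rw [mem_cj] at ha hp
    have h1 := h.com _ ha _ hp
    calc a * p = y * ((y⁻¹ * a * y) * (y⁻¹ * p * y)) * y⁻¹ := by group
      _ = y * ((y⁻¹ * p * y) * (y⁻¹ * a * y)) * y⁻¹ := by rw [h1]
      _ = p * a := by group
  · intro a ha haK
    rw [mem_cj] at ha
    have h1 := h.AK _ ha (mem_K_conj' hyK haK)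
    calc a = y * (y⁻¹ * a * y) * y⁻¹ := by group
      _ = 1 := by rw [h1]; group
  · intro t ht a ha
    rw [mem_cj] at ht ha ⊢
    have h1 := h.TA _ ht _ ha
    have e : y⁻¹ * t * y * (y⁻¹ * a * y) * (y⁻¹ * t * y)⁻¹ = y⁻¹ * (t * a * t⁻¹) * y := by group
    rwa [e] at h1
  · intro t ht s hs hsK
    rw [mem_cj] at ht hs
    have h1 := h.TS _ ht _ hs (mem_K_conj' hyK hsK)
    calc t * s = y * ((y⁻¹ * t * y) * (y⁻¹ * s * y)) * y⁻¹ := by group
      _ = y * ((y⁻¹ * s * y) * (y⁻¹ * t * y)) * y⁻¹ := by rw [h1]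
      _ = s * t := by group
  · intro x hx a ha
    rw [mem_cj] at ha
    have h1 := h.gen (y⁻¹ * x * y) ?_ _ ha
    · have h2 : y⁻¹ * x * y * (y⁻¹ * a * y) = y⁻¹ * a * y * (y⁻¹ * x * y) := h1
      show x * a = a * x
      calc x * a = y * (y⁻¹ * x * y * (y⁻¹ * a * y)) * y⁻¹ := by group
        _ = y * (y⁻¹ * a * y * (y⁻¹ * x * y)) * y⁻¹ := by rw [h2]
        _ = a * x := by group
    · intro b hb t ht
      have h2 : x * ((y * b * y⁻¹)⁻¹ * ((y * t * y⁻¹) * (y * b * y⁻¹) * (y * t * y⁻¹)⁻¹)) =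
        ((y * b * y⁻¹)⁻¹ * ((y * t * y⁻¹) * (y * b * y⁻¹) * (y * t * y⁻¹)⁻¹)) * x :=
        hx _ (conj_mem_cj hb) _ (conj_mem_cj ht)
      show y⁻¹ * x * y * (b⁻¹ * (t * b * t⁻¹)) = b⁻¹ * (t * b * t⁻¹) * (y⁻¹ * x * y)
      calc y⁻¹ * x * y * (b⁻¹ * (t * b * t⁻¹))
          = y⁻¹ * (x * ((y * b * y⁻¹)⁻¹ * ((y * t * y⁻¹) * (y * b * y⁻¹) * (y * t * y⁻¹)⁻¹))) * y := by
            group
        _ = y⁻¹ * (((y * b * y⁻¹)⁻¹ * ((y * t * y⁻¹) * (y * b * y⁻¹) * (y * t * y⁻¹)⁻¹)) * x) * y := by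
            rw [h2]
        _ = b⁻¹ * (t * b * t⁻¹) * (y⁻¹ * x * y) := by group

/-! ### The local step -/

/-- Elements of `D` are products of elements of `D ⊓ K` and `A`. -/
theorem Fr.dec (h : Fr K Y P A T) {D : Subgroup G} (hAD : A ≤ D) (hDP : D ≤ P) {d : G}
    (hd : d ∈ D) : ∃ k ∈ K, k ∈ D ∧ ∃ a ∈ A, d = k * a := by
  obtain ⟨k, hk, a, ha, e⟩ := h.cov d (h.PY.le (hDP hd))
  refine ⟨k, hk, ?_, a, ha, e⟩
  have : k = d * a⁻¹ := by rw [e]; group
  rw [this]
  exact mul_mem hd (inv_mem (hAD ha))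

theorem Fr.T_norm [Finite G] (h : Fr K Y P A T) {D : Subgroup G} (hAD : A ≤ D) (hDP : D ≤ P) :
    T ≤ normalizer (D : Set G) := by
  intro t ht
  refine mem_normalizer_of_conj_mem fun d hd => ?_
  obtain ⟨k, hk, hkD, a, ha, rfl⟩ := h.dec hAD hDP hd
  have e : t * (k * a) * t⁻¹ = (t * k) * t⁻¹ * (t * a * t⁻¹) := by group
  rw [e, h.TS t ht k (hDP hkD) hk]
  have e2 : k * t * t⁻¹ = k := by group
  rw [e2]
  exact mul_mem hkD (hAD (h.TA t ht a ha))

/-- `a⁻¹ x a x⁻¹ ∈ D ⊓ K` for `a ∈ A`, `x ∈ N_K(D)`. -/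
theorem Fr.delta (h : Fr K Y P A T) {D : Subgroup G} (hAD : A ≤ D) {x : G} (hxK : x ∈ K)
    (hx : x ∈ normalizer (D : Set G)) {a : G} (ha : a ∈ A) :
    a⁻¹ * (x * a * x⁻¹) ∈ K ∧ a⁻¹ * (x * a * x⁻¹) ∈ D := by
  constructor
  · have haK : a ∈ normalizer (K : Set G) := h.YK (h.PY.le (h.AP ha))
    have e : a⁻¹ * (x * a * x⁻¹) = (a⁻¹ * x * a) * x⁻¹ := by group
    rw [e]
    exact mul_mem (mem_K_conj' haK hxK) (inv_mem hxK)
  · exact mul_mem (inv_mem (hAD ha)) (mem_K_conj hx (hAD ha))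

theorem Fr.loc_C [Finite G] (h : Fr K Y P A T) {D : Subgroup G} (hAD : A ≤ D) (hDP : D ≤ P)
    (hsyl : SylIn 2 (P ⊓ (Y ⊓ normalizer (D : Set G))) (Y ⊓ normalizer (D : Set G)))
    {x : G} (hxK : x ∈ K) (hx : x ∈ normalizer (D : Set G))
    (hxc : ∀ d ∈ D, d ∈ K → x * d = d * x) {a : G} (ha : a ∈ A) : x * a = a * x := by
  -- `C`
  let C : Subgroup G := (K ⊓ normalizer (D : Set G)) ⊓ centralizer ((D ⊓ K : Subgroup G) : Set G)
  have memC : ∀ {z : G}, z ∈ C ↔ (z ∈ K ∧ z ∈ normalizer (D : Set G)) ∧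
      ∀ d ∈ D, d ∈ K → z * d = d * z := by
    intro z
    simp only [C, Subgroup.mem_inf, Subgroup.mem_centralizer_iff, Subgroup.coe_inf,
      Set.mem_inter_iff, SetLike.mem_coe]
    constructor
    · rintro ⟨h1, h2⟩
      exact ⟨h1, fun d hd hdK => (h2 d ⟨hd, hdK⟩).symm⟩
    · rintro ⟨h1, h2⟩
      exact ⟨h1, fun d hd => (h2 d hd.1 hd.2).symm⟩
  have hCN : C ≤ Y ⊓ normalizer (D : Set G) := by
    intro z hz
    have := memC.mp hz
    exact ⟨h.KY this.1.1, this.1.2⟩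
  have hNC : Y ⊓ normalizer (D : Set G) ≤ normalizer (C : Set G) := by
    intro n hn
    refine mem_normalizer_of_conj_mem fun z hz => ?_
    rw [memC] at hz ⊢
    refine ⟨⟨mem_K_conj (h.YK hn.1) hz.1.1, mul_mem (mul_mem hn.2 hz.1.2) (inv_mem hn.2)⟩, ?_⟩
    intro d hd hdK
    have h1 := hz.2 (n⁻¹ * d * n) (mem_K_conj' hn.2 hd) (mem_K_conj' (h.YK hn.1) hdK)
    calc n * z * n⁻¹ * d = n * (z * (n⁻¹ * d * n)) * n⁻¹ := by group
      _ = n * ((n⁻¹ * d * n) * z) * n⁻¹ := by rw [h1]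
      _ = d * (n * z * n⁻¹) := by group
  have hCsyl : SylIn 2 ((P ⊓ (Y ⊓ normalizer (D : Set G))) ⊓ C) C := hsyl.inf hCN hNC
  let CA : Subgroup G := C ⊓ centralizer (A : Set G)
  have hCAn : C ≤ normalizer (CA : Set G) := by
    intro z hz
    refine mem_normalizer_of_conj_mem fun c hc => ?_
    refine Subgroup.mem_inf.mpr ⟨mul_mem (mul_mem hz (Subgroup.mem_inf.mp hc).1) (inv_mem hz), ?_⟩
    rw [Subgroup.mem_centralizer_iff]
    intro b hb
    have hz' := memC.mp hz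
    have hd := h.delta hAD (inv_mem hz'.1.1) (inv_mem hz'.1.2) hb
    rw [inv_inv] at hd
    have hc1 := (memC.mp hc.1).2 _ hd.2 hd.1
    have hc2 : b * c = c * b := (Subgroup.mem_centralizer_iff.mp hc.2) b hb
    have h3 : c * (z⁻¹ * b * z) = (z⁻¹ * b * z) * c := by
      calc c * (z⁻¹ * b * z) = (c * b) * (b⁻¹ * (z⁻¹ * b * z)) := by group
        _ = (b * c) * (b⁻¹ * (z⁻¹ * b * z)) := by rw [hc2]
        _ = b * (c * (b⁻¹ * (z⁻¹ * b * z))) := by group
        _ = b * ((b⁻¹ * (z⁻¹ * b * z)) * c) := by rw [hc1]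
        _ = (z⁻¹ * b * z) * c := by group
    calc b * (z * c * z⁻¹) = z * ((z⁻¹ * b * z) * c) * z⁻¹ := by group
      _ = z * (c * (z⁻¹ * b * z)) * z⁻¹ := by rw [h3]
      _ = z * c * z⁻¹ * b := by group
  have h2 : Fact (Nat.Prime 2) := ⟨Nat.prime_two⟩
  obtain ⟨k, hk⟩ := h.PY.isPGroup.exists_card_eq
  have hpow : ∀ z ∈ C, ∃ j : ℕ, z ^ 2 ^ j ∈ CA := by
    intro z hz
    refine ⟨k, Subgroup.mem_inf.mpr ⟨pow_mem hz _, ?_⟩⟩
    rw [Subgroup.mem_centralizer_iff]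
    intro b hb
    have hz' := memC.mp hz
    have hd := h.delta hAD hz'.1.1 hz'.1.2 hb
    set d := b⁻¹ * (z * b * z⁻¹) with hddef
    have hzd : z * d = d * z := hz'.2 d hd.2 hd.1
    have hzb : z * b = b * d * z := by rw [hddef]; group
    have key : ∀ n : ℕ, z ^ n * b = b * d ^ n * z ^ n := by
      intro n
      induction n with
      | zero => simp
      | succ n ih =>
        have hc : z ^ n * d = d * z ^ n := (Commute.pow_left (show Commute z d from hzd) n)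
        calc z ^ (n + 1) * b = z ^ n * (z * b) := by rw [pow_succ]; group
          _ = z ^ n * b * d * z := by rw [hzb]; group
          _ = b * d ^ n * z ^ n * d * z := by rw [ih]
          _ = b * d ^ n * (z ^ n * d) * z := by group
          _ = b * d ^ n * (d * z ^ n) * z := by rw [hc]
          _ = b * d ^ (n + 1) * z ^ (n + 1) := by rw [pow_succ, pow_succ]; group
    have hd1 : d ^ 2 ^ k = 1 := by
      rw [← hk]
      have := congrArg Subtype.val (pow_card_eq_one' (x := (⟨d, hDP hd.2⟩ : P)))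
      rwa [Subgroup.coe_pow, Subgroup.coe_one] at this
    have := key (2 ^ k)
    rw [hd1, mul_one] at this
    exact this.symm
  have hxC : x ∈ C := memC.mpr ⟨⟨hxK, hx⟩, hxc⟩
  obtain ⟨c, hc, s, hs, rfl⟩ := hCsyl.exists_mul inf_le_left hCAn hpow hxC
  have hc2 : a * c = c * a := (Subgroup.mem_centralizer_iff.mp hc.2) a ha
  have hs2 : a * s = s * a := h.com a ha s hs.1.1
  calc c * s * a = c * (s * a) := by group
    _ = c * (a * s) := by rw [hs2]
    _ = (c * a) * s := by group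
    _ = (a * c) * s := by rw [hc2]
    _ = a * (c * s) := by group

/-- **The local step.** -/
theorem Fr.loc [Finite G] (h : Fr K Y P A T) {D : Subgroup G} (hAD : A ≤ D) (hDP : D ≤ P)
    (hsyl : SylIn 2 (P ⊓ (Y ⊓ normalizer (D : Set G))) (Y ⊓ normalizer (D : Set G)))
    {n : G} (hnY : n ∈ Y) (hn : n ∈ normalizer (D : Set G)) {a : G} (ha : a ∈ A) :
    n * a = a * n := by
  have main : ∀ x ∈ K, x ∈ normalizer (D : Set G) → ∀ b ∈ A, Commute x b := by
    intro x hxK hx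
    refine h.gen x fun b hb t ht => ?_
    have htD := h.T_norm hAD hDP ht
    have htK := h.TK ht
    -- `y = x⁻¹ (t x t⁻¹)`
    set y := x⁻¹ * (t * x * t⁻¹) with hy
    have hyK : y ∈ K := mul_mem (inv_mem hxK) (mem_K_conj htK hxK)
    have hyD : y ∈ normalizer (D : Set G) :=
      mul_mem (inv_mem hx) (mul_mem (mul_mem htD hx) (inv_mem htD))
    have hyc : ∀ d ∈ D, d ∈ K → y * d = d * y := by
      intro d hd hdK
      have h1 : t * d = d * t := h.TS t ht d (hDP hd) hdK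
      have h1' : t⁻¹ * d * t = d := by rw [mul_assoc, ← h1]; group
      have h2 : t * (x * d * x⁻¹) = (x * d * x⁻¹) * t :=
        h.TS t ht _ (hDP (mem_K_conj hx hd)) (mul_mem (mul_mem hxK hdK) (inv_mem hxK))
      calc y * d = x⁻¹ * (t * (x * (t⁻¹ * d * t) * x⁻¹)) * x * t⁻¹ * 1 := by rw [hy]; group
        _ = x⁻¹ * (t * (x * d * x⁻¹)) * x * t⁻¹ * 1 := by rw [h1']
        _ = x⁻¹ * ((x * d * x⁻¹) * t) * x * t⁻¹ * 1 := by rw [h2]
        _ = d * y := by rw [hy]; group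
    have hyA : ∀ c ∈ A, y * c = c * y := fun c hc => h.loc_C hAD hDP hsyl hyK hyD hyc hc
    have hd := h.delta hAD hxK hx hb
    set δ := b⁻¹ * (x * b * x⁻¹) with hδ
    have htδ : t * δ = δ * t := h.TS t ht δ (hDP hd.2) hd.1
    set b' := t * b * t⁻¹ with hb'
    have hb'A : b' ∈ A := h.TA t ht b hb
    have e1 : x * b * x⁻¹ = b * δ := by rw [hδ]; group
    have e2 : (t * x * t⁻¹) * b' * (t * x * t⁻¹)⁻¹ = b' * δ := by
      calc (t * x * t⁻¹) * b' * (t * x * t⁻¹)⁻¹ = t * (x * b * x⁻¹) * t⁻¹ := by rw [hb']; group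
        _ = t * (b * δ) * t⁻¹ := by rw [e1]
        _ = (t * b * t⁻¹) * (t * δ) * t⁻¹ := by group
        _ = (t * b * t⁻¹) * (δ * t) * t⁻¹ := by rw [htδ]
        _ = b' * δ := by rw [hb']; group
    have e3 : x * b' * x⁻¹ = b' * δ := by
      rw [← e2]
      have e4 : t * x * t⁻¹ = x * y := by rw [hy]; group
      rw [e4]
      calc x * b' * x⁻¹ = x * (b' * y) * y⁻¹ * x⁻¹ := by group
        _ = x * (y * b') * y⁻¹ * x⁻¹ := by rw [hyA b' hb'A]
        _ = x * y * b' * (x * y)⁻¹ := by group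
    have hδb : b⁻¹ * b' * δ = δ * (b⁻¹ * b') :=
      h.com _ (mul_mem (inv_mem hb) hb'A) _ (hDP hd.2)
    show x * (b⁻¹ * b') = b⁻¹ * b' * x
    calc x * (b⁻¹ * b') = (x * b * x⁻¹)⁻¹ * (x * b' * x⁻¹) * x := by group
      _ = (b * δ)⁻¹ * (b' * δ) * x := by rw [e1, e3]
      _ = δ⁻¹ * (b⁻¹ * b' * δ) * x := by group
      _ = δ⁻¹ * (δ * (b⁻¹ * b')) * x := by rw [hδb]
      _ = b⁻¹ * b' * x := by group
  obtain ⟨k, hk, b, hb, rfl⟩ := h.cov n hnY
  have hbD : b ∈ normalizer (D : Set G) := le_normalizer (hAD hb)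
  have hkD : k ∈ normalizer (D : Set G) := by
    have := mul_mem hn (inv_mem hbD)
    have e : k * b * b⁻¹ = k := by group
    rwa [e] at this
  have h1 : k * a = a * k := main k hk hkD a ha
  have h2 : a * b = b * a := h.com a ha b (h.AP hb)
  calc k * b * a = k * (b * a) := by group
    _ = k * (a * b) := by rw [h2]
    _ = (k * a) * b := by group
    _ = (a * k) * b := by rw [h1]
    _ = a * (k * b) := by group

/-! ### The Alperin step -/

/-- `B` is the conjugate of `A` attached to the conjugate `Q` of `P`. -/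
def Att (Y P A Q B : Subgroup G) : Prop := ∃ y ∈ Y, cj y P = Q ∧ cj y A = B

theorem Fr.of_att (h : Fr K Y P A T) {Q B : Subgroup G} (hQ : Att Y P A Q B) :
    ∃ T', Fr K Y Q B T' := by
  obtain ⟨y, hy, rfl, rfl⟩ := hQ
  exact ⟨_, h.conj hy⟩

theorem Att.conj {Q B : Subgroup G} (hQ : Att Y P A Q B) {y : G} (hy : y ∈ Y) :
    Att Y P A (cj y Q) (cj y B) := by
  obtain ⟨z, hz, rfl, rfl⟩ := hQ
  exact ⟨y * z, mul_mem hy hz, (cj_cj z y P).symm, (cj_cj z y A).symm⟩

theorem sylIn_of_le {P L Y : Subgroup G} (h : SylIn 2 P Y) (hPL : P ≤ L) (hLY : L ≤ Y) :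
    SylIn 2 P L := ⟨hPL, h.isPGroup, fun R hR hRL hRp => h.2.2 R hR (hRL.trans hLY) hRp⟩

theorem sylIn_conj_eq [Finite G] {L R S : Subgroup G} (hS : SylIn 2 S L) (hR : SylIn 2 R L) :
    ∃ l ∈ L, cj l R = S := by
  have : Fact (Nat.Prime 2) := ⟨Nat.prime_two⟩
  obtain ⟨l, hl, hlR⟩ := hS.conj_le hR.le hR.isPGroup
  refine ⟨l, hl, ?_⟩
  have h1 : cj l R ≤ S := map_conj_le_iff.mpr hlR
  refine Subgroup.eq_of_le_of_card_ge h1 ?_
  rw [card_map_conj]
  exact hR.card_le hS.le hS.isPGroup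

theorem cj_eq_self {n : G} {A : Subgroup G} (h : ∀ a ∈ A, n * a = a * n) : cj n A = A := by
  ext x
  rw [mem_cj]
  constructor
  · intro hx
    have h1 := h _ hx
    have h2 : x = n⁻¹ * x * n := by
      calc x = (n * (n⁻¹ * x * n)) * n⁻¹ := by group
        _ = ((n⁻¹ * x * n) * n) * n⁻¹ := by rw [h1]
        _ = n⁻¹ * x * n := by group
    rw [h2]; exact hx
  · intro hx
    have h1 := h _ hx
    have h2 : n⁻¹ * x * n = x := by rw [mul_assoc, ← h1]; group
    rwa [h2]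

theorem Fr.att_unique [Finite G] (h : Fr K Y P A T) {Q B B' : Subgroup G} (hQ : Att Y P A Q B)
    (hQ' : Att Y P A Q B') : B = B' := by
  obtain ⟨T', h'⟩ := h.of_att hQ
  obtain ⟨y, hy, h1, h2⟩ := hQ
  obtain ⟨z, hz, h3, h4⟩ := hQ'
  have hn : z * y⁻¹ ∈ Y := mul_mem hz (inv_mem hy)
  have hnQ : cj (z * y⁻¹) Q = Q := by
    rw [← h1, cj_cj, show z * y⁻¹ * y = z by group, h3, h1]
  have hnB : cj (z * y⁻¹) B = B' := by
    rw [← h2, cj_cj, show z * y⁻¹ * y = z by group, h4]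
  have hnN : z * y⁻¹ ∈ normalizer (Q : Set G) := Subgroup.mem_normalizer_iff_map_conj_eq.mpr hnQ
  rw [← hnB]
  have hle : Q ≤ Y ⊓ normalizer (Q : Set G) := le_inf h'.PY.le le_normalizer
  have hs : SylIn 2 (Q ⊓ (Y ⊓ normalizer (Q : Set G))) (Y ⊓ normalizer (Q : Set G)) := by
    rw [inf_eq_left.mpr hle]
    exact sylIn_of_le h'.PY hle inf_le_left
  exact (cj_eq_self fun a ha => h'.loc h'.AP le_rfl hs hn hnN ha).symm

theorem exists_att [Finite G] (h : Fr K Y P A T) {R : Subgroup G} (hR : IsPGroup 2 R)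
    (hRY : R ≤ Y) : ∃ Q B, R ≤ Q ∧ SylIn 2 Q Y ∧ Att Y P A Q B := by
  obtain ⟨Q, hRQ, hQ⟩ := exists_sylIn_ge hR hRY
  obtain ⟨l, hl, hle⟩ := sylIn_conj_eq hQ h.PY
  exact ⟨Q, _, hRQ, hQ, l, hl, hle, rfl⟩

theorem grow [Finite G] {P D : Subgroup G} (hP : IsPGroup 2 P) (hD : D ≤ P) (hne : D ≠ P) :
    Nat.card D < Nat.card ↥(P ⊓ normalizer (D : Set G)) := by
  have : Fact (Nat.Prime 2) := ⟨Nat.prime_two⟩
  have : Group.IsNilpotent P := hP.isNilpotent
  have hnc := Group.normalizerCondition_of_isNilpotent (G := P)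
  have h1 : D.subgroupOf P < ⊤ := by
    rw [lt_top_iff_ne_top, Ne, subgroupOf_eq_top]
    exact fun h => hne (le_antisymm hD h)
  obtain ⟨x, hx, hxD⟩ := SetLike.exists_of_lt (hnc _ h1)
  have hle : D ≤ P ⊓ normalizer (D : Set G) := le_inf hD le_normalizer
  refine lt_of_le_of_ne (Subgroup.card_le_of_le hle) fun he => ?_
  have h2 := Subgroup.eq_of_le_of_card_ge hle he.ge
  apply hxD
  rw [mem_subgroupOf, h2]
  refine Subgroup.mem_inf.mpr ⟨x.2, ?_⟩
  refine mem_normalizer_of_conj_mem fun d hd => ?_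
  have h3 := ((Subgroup.mem_normalizer_iff.mp hx) ⟨d, hD hd⟩).mp (by rwa [mem_subgroupOf])
  rw [mem_subgroupOf] at h3
  simpa using h3

theorem Fr.star [Finite G] (h : Fr K Y P A T) : ∀ (n : ℕ) (P₁ A₁ P₂ A₂ : Subgroup G),
    Att Y P A P₁ A₁ → Att Y P A P₂ A₂ → A₁ ≤ P₂ →
    Nat.card P ≤ Nat.card ↥(P₁ ⊓ P₂) + n → A₁ = A₂ := by
  intro n
  induction n with
  | zero =>
    intro P₁ A₁ P₂ A₂ h1 h2 hle hc
    have hc1 : Nat.card P₁ = Nat.card P := by
      obtain ⟨y, hy, e, _⟩ := h1; rw [← e, card_map_conj]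
    have hc2 : Nat.card P₂ = Nat.card P := by
      obtain ⟨y, hy, e, _⟩ := h2; rw [← e, card_map_conj]
    have e1 : P₁ ⊓ P₂ = P₁ := Subgroup.eq_of_le_of_card_ge inf_le_left (by omega)
    have e2 : P₁ ⊓ P₂ = P₂ := Subgroup.eq_of_le_of_card_ge inf_le_right (by omega)
    have e3 : P₁ = P₂ := e1.symm.trans e2
    subst e3
    exact h.att_unique h1 h2
  | succ n ih =>
    intro P₁ A₁ P₂ A₂ h1 h2 hle hc
    obtain ⟨T₁, f1⟩ := h.of_att h1
    obtain ⟨T₂, f2⟩ := h.of_att h2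
    have hc1 : Nat.card P₁ = Nat.card P := by
      obtain ⟨y, hy, e, _⟩ := h1; rw [← e, card_map_conj]
    have hc2 : Nat.card P₂ = Nat.card P := by
      obtain ⟨y, hy, e, _⟩ := h2; rw [← e, card_map_conj]
    set D : Subgroup G := P₁ ⊓ P₂ with hD
    by_cases hD1 : D = P₁
    · have e2 : D = P₂ := Subgroup.eq_of_le_of_card_ge inf_le_right (by rw [hD1]; omega)
      have e3 : P₁ = P₂ := hD1.symm.trans e2
      subst e3
      exact h.att_unique h1 h2
    have hD2 : D ≠ P₂ := by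
      intro e
      apply hD1
      exact Subgroup.eq_of_le_of_card_ge inf_le_left (by rw [e]; omega)
    have g1 := grow f1.PY.isPGroup (D := D) inf_le_left hD1
    have g2 := grow f2.PY.isPGroup (D := D) inf_le_right hD2
    set N : Subgroup G := Y ⊓ normalizer (D : Set G) with hN
    have hDP1 : D ≤ P₁ := inf_le_left
    have hDP2 : D ≤ P₂ := inf_le_right
    have hDN : D ≤ N := le_inf (hDP1.trans f1.PY.le) le_normalizer
    have hA1D : A₁ ≤ D := le_inf f1.AP hle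
    have i1 : P₁ ⊓ normalizer (D : Set G) ≤ N := inf_le_inf_right _ f1.PY.le
    have i2 : P₂ ⊓ normalizer (D : Set G) ≤ N := inf_le_inf_right _ f2.PY.le
    obtain ⟨R₁, hR1, hR1N⟩ := exists_sylIn_ge (p := 2) (f1.PY.isPGroup.to_le inf_le_left) i1
    obtain ⟨R₂, hR2, hR2N⟩ := exists_sylIn_ge (p := 2) (f2.PY.isPGroup.to_le inf_le_left) i2
    obtain ⟨S₃, A₃, hRS3, hS3, h3⟩ := exists_att h hR1N.isPGroup (hR1N.le.trans inf_le_left)
    obtain ⟨S₄, A₄, hRS4, hS4, h4⟩ := exists_att h hR2N.isPGroup (hR2N.le.trans inf_le_left)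
    obtain ⟨m, hm, hmR⟩ := sylIn_conj_eq hR2N hR1N
    have hmY : m ∈ Y := (Subgroup.mem_inf.mp hm).1
    have hmD : m ∈ normalizer (D : Set G) := (Subgroup.mem_inf.mp hm).2
    have hcjD : cj m D = D := map_conj_eq_of_mem_normalizer hmD
    have hDS3 : D ≤ S₃ := ((le_inf hDP1 le_normalizer).trans hR1).trans hRS3
    have hDS4 : D ≤ S₄ := ((le_inf hDP2 le_normalizer).trans hR2).trans hRS4
    -- first application
    have e13 : A₁ = A₃ := by
      refine ih P₁ A₁ S₃ A₃ h1 h3 (hA1D.trans hDS3) ?_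
      have : Nat.card ↥(P₁ ⊓ normalizer (D : Set G)) ≤ Nat.card ↥(P₁ ⊓ S₃) :=
        Subgroup.card_le_of_le (le_inf inf_le_left (hR1.trans hRS3))
      omega
    -- second application
    have e34 : cj m A₃ = A₄ := by
      refine ih (cj m S₃) (cj m A₃) S₄ A₄ (h3.conj hmY) h4 ?_ ?_
      · rw [← e13]
        have : cj m A₁ ≤ cj m D := map_mono hA1D
        rw [hcjD] at this
        exact this.trans hDS4
      · have h5 : R₂ ≤ cj m S₃ ⊓ S₄ := by
          refine le_inf ?_ hRS4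
          rw [← hmR]; exact map_mono hRS3
        have : Nat.card ↥(P₂ ⊓ normalizer (D : Set G)) ≤ Nat.card ↥(cj m S₃ ⊓ S₄) :=
          Subgroup.card_le_of_le (hR2.trans h5)
        omega
    have hA4D : A₄ ≤ D := by
      rw [← e34, ← e13]
      have : cj m A₁ ≤ cj m D := map_mono hA1D
      rwa [hcjD] at this
    -- third application
    have e42 : A₄ = A₂ := by
      refine ih S₄ A₄ P₂ A₂ h4 h2 (hA4D.trans hDP2) ?_
      have : Nat.card ↥(P₂ ⊓ normalizer (D : Set G)) ≤ Nat.card ↥(S₄ ⊓ P₂) :=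
        Subgroup.card_le_of_le (le_inf (hR2.trans hRS4) inf_le_left)
      omega
    -- the local step
    obtain ⟨T₃, f3⟩ := h.of_att h3
    have hs3 : SylIn 2 (S₃ ⊓ N) N := by
      have : S₃ ⊓ N = R₁ := hR1N.2.2 _ (le_inf hRS3 hR1N.le) inf_le_right
        (f3.PY.isPGroup.to_le inf_le_left)
      rwa [this]
    have e33 : cj m A₃ = A₃ :=
      cj_eq_self fun a ha => f3.loc (e13 ▸ hA1D) hDS3 hs3 hmY hmD ha
    rw [e13, ← e33, e34, e42]

/-- The elements of `A` are isolated in `Y`. -/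
theorem Fr.iso [Finite G] (h : Fr K Y P A T) {y : G} (hy : y ∈ Y) {a : G} (ha : a ∈ A)
    (hb : y * a * y⁻¹ ∈ P) : y * a * y⁻¹ = a := by
  have : Fact (Nat.Prime 2) := ⟨Nat.prime_two⟩
  set b := y * a * y⁻¹ with hbdef
  let C : Subgroup G := Y ⊓ centralizer ({b} : Set G)
  have memC : ∀ {z : G}, z ∈ C ↔ z ∈ Y ∧ b * z = z * b := by
    intro z
    simp only [C, Subgroup.mem_inf, Subgroup.mem_centralizer_iff, Set.mem_singleton_iff,
      forall_eq]
  have hPC : cj y P ≤ C := by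
    intro x hx
    rw [mem_cj] at hx
    rw [memC]
    have h1 := h.com a ha _ hx
    refine ⟨?_, ?_⟩
    · have h2 := mul_mem (mul_mem hy (h.PY.le hx)) (inv_mem hy)
      have e : y * (y⁻¹ * x * y) * y⁻¹ = x := by group
      rwa [e] at h2
    · calc b * x = y * (a * (y⁻¹ * x * y)) * y⁻¹ := by rw [hbdef]; group
        _ = y * ((y⁻¹ * x * y) * a) * y⁻¹ := by rw [h1]
        _ = x * b := by rw [hbdef]; group
  have hsy : SylIn 2 (cj y P) C := sylIn_of_le (h.conj hy).PY hPC inf_le_left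
  obtain ⟨c, hc, hcP⟩ := hsy.conj_le (R := P ⊓ C) inf_le_right (h.PY.isPGroup.to_le inf_le_left)
  have hc' := memC.mp hc
  have hAC : A ≤ P ⊓ C := by
    refine le_inf h.AP fun x hx => memC.mpr ⟨h.PY.le (h.AP hx), (h.com x hx b hb).symm⟩
  have hle : A ≤ cj (c⁻¹ * y) P := by
    intro x hx
    have h1 := hcP x (hAC hx)
    rw [mem_cj] at h1 ⊢
    have e : (c⁻¹ * y)⁻¹ * x * (c⁻¹ * y) = y⁻¹ * (c * x * c⁻¹) * y := by group
    rwa [e]
  have hcy : c⁻¹ * y ∈ Y := mul_mem (inv_mem hc'.1) hy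
  have h0 : Att Y P A P A := ⟨1, one_mem _, cj_eq_self (by simp), cj_eq_self (by simp)⟩
  have h1 : A = cj (c⁻¹ * y) A :=
    h.star (Nat.card P) P A (cj (c⁻¹ * y) P) (cj (c⁻¹ * y) A) h0 ⟨_, hcy, rfl, rfl⟩ hle
      (Nat.le_add_left _ _)
  have h2 : b ∈ A := by
    rw [h1, mem_cj]
    have e : (c⁻¹ * y)⁻¹ * b * (c⁻¹ * y) = y⁻¹ * (c * b * c⁻¹) * y := by group
    have e2 : c * b * c⁻¹ = b := by rw [← hc'.2]; group
    rw [e, e2, hbdef]
    have e3 : y⁻¹ * (y * a * y⁻¹) * y = a := by group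
    rwa [e3]
  obtain ⟨k, hk, d, hd, he⟩ := h.cov y hy
  have h3 : b * a⁻¹ ∈ K := by
    have h4 : a * d = d * a := h.com a ha d (h.AP hd)
    have e : b * a⁻¹ = k * (a * k⁻¹ * a⁻¹) := by
      rw [hbdef, he]
      calc k * d * a * (k * d)⁻¹ * a⁻¹ = k * (d * a) * d⁻¹ * k⁻¹ * a⁻¹ := by group
        _ = k * (a * d) * d⁻¹ * k⁻¹ * a⁻¹ := by rw [h4]
        _ = k * (a * k⁻¹ * a⁻¹) := by group
    rw [e]
    exact mul_mem hk (mem_K_conj (h.YK (h.PY.le (h.AP ha))) (inv_mem hk))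
  have h5 := h.AK _ (mul_mem h2 (inv_mem ha)) h3
  exact mul_inv_eq_one.mp h5

/-! ### The norm map -/

section norm

variable [Finite G] {A T : Subgroup G} (hab : ∀ a ∈ A, ∀ b ∈ A, a * b = b * a)
  (hTA : ∀ t ∈ T, ∀ a ∈ A, t * a * t⁻¹ ∈ A)

/-- The action of `t` on `A`. -/
def act (hTA : ∀ t ∈ T, ∀ a ∈ A, t * a * t⁻¹ ∈ A) (t : T) (a : A) : A :=
  ⟨t * a * (t : G)⁻¹, hTA t t.2 a a.2⟩

include hab in
theorem exists_norm : ∃ ν : A →* A, (∀ (t : T) (a : A), ν (act hTA t a) = ν a) ∧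
    (∀ (t : T) (a : A), act hTA t (ν a) = ν a) ∧
    (∀ a : A, (∀ t : T, act hTA t a = a) → ν a = a ^ Nat.card T) ∧
    ∀ (H : Subgroup A) (a : A), (∀ t : T, a⁻¹ * act hTA t a ∈ H) → ∃ b ∈ H,
      ν a = a ^ Nat.card T * b := by
  classical
  let _ : CommGroup A := { (inferInstance : Group A) with
    mul_comm := fun a b => Subtype.ext (hab a a.2 b b.2) }
  let _ : Fintype T := Fintype.ofFinite T
  have hmul : ∀ (t : T) (a b : A), act hTA t (a * b) = act hTA t a * act hTA t b := by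
    intro t a b
    apply Subtype.ext
    show (t : G) * ((a : G) * b) * (t : G)⁻¹ = ((t : G) * a * (t : G)⁻¹) * ((t : G) * b * (t : G)⁻¹)
    group
  have hone : ∀ t : T, act hTA t 1 = 1 := by
    intro t
    apply Subtype.ext
    show (t : G) * ((1 : A) : G) * (t : G)⁻¹ = 1
    rw [Subgroup.coe_one]; group
  have hact : ∀ (s t : T) (a : A), act hTA s (act hTA t a) = act hTA (s * t) a := by
    intro s t a
    apply Subtype.ext
    show (s : G) * ((t : G) * a * (t : G)⁻¹) * (s : G)⁻¹ =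
      ((s * t : T) : G) * a * ((s * t : T) : G)⁻¹
    rw [Subgroup.coe_mul]; group
  let ν : A →* A :=
    { toFun := fun a => ∏ t : T, act hTA t a
      map_one' := by simp [hone]
      map_mul' := fun a b => by
        show ∏ t : T, act hTA t (a * b) = (∏ t : T, act hTA t a) * ∏ t : T, act hTA t b
        rw [← Finset.prod_mul_distrib]
        exact Finset.prod_congr rfl fun t _ => hmul t a b }
  have hν : ∀ a, ν a = ∏ t : T, act hTA t a := fun a => rfl
  let actHom : T → (A →* A) := fun t =>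
    { toFun := act hTA t, map_one' := hone t, map_mul' := hmul t }
  refine ⟨ν, ?_, ?_, ?_, ?_⟩
  · intro t a
    rw [hν, hν]
    refine Fintype.prod_equiv (Equiv.mulRight t) _ _ fun s => ?_
    exact hact s t a
  · intro t a
    have h1 : act hTA t (ν a) = ∏ s : T, act hTA t (act hTA s a) := by
      rw [hν]
      exact map_prod (actHom t) _ _
    rw [h1, hν]
    refine Fintype.prod_equiv (Equiv.mulLeft t) _ _ fun s => ?_
    exact hact t s a
  · intro a ha
    rw [hν, Finset.prod_congr rfl fun t _ => ha t, Finset.prod_const, Finset.card_univ,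
      Nat.card_eq_fintype_card]
  · intro H a ha
    refine ⟨∏ t : T, a⁻¹ * act hTA t a, Subgroup.prod_mem H fun t _ => ha t, ?_⟩
    rw [Finset.prod_mul_distrib, Finset.prod_const, Finset.card_univ, ← Nat.card_eq_fintype_card,
      hν, inv_pow, mul_inv_cancel_left]

include hab hTA in
theorem gen_of_fix (h2 : ∀ a ∈ A, a * a = 1) (hodd : Odd (Nat.card T))
    (hfix : ∀ a ∈ A, (∀ t ∈ T, t * a = a * t) → a = 1) (x : G)
    (hx : ∀ a ∈ A, ∀ t ∈ T, Commute x (a⁻¹ * (t * a * t⁻¹))) : ∀ a ∈ A, Commute x a := by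
  intro a ha
  obtain ⟨ν, _, hν2, _, hν4⟩ := exists_norm hab hTA
  have hfa : ν ⟨a, ha⟩ = 1 := by
    apply Subtype.ext
    refine hfix _ (ν ⟨a, ha⟩).2 fun t ht => ?_
    have h1 := congrArg Subtype.val (hν2 ⟨t, ht⟩ ⟨a, ha⟩)
    have h1' : t * ((ν ⟨a, ha⟩ : A) : G) * t⁻¹ = ((ν ⟨a, ha⟩ : A) : G) := h1
    exact mul_inv_eq_iff_eq_mul.mp h1'
  obtain ⟨b, hb, he⟩ := hν4 ((centralizer ({x} : Set G)).subgroupOf A) ⟨a, ha⟩ (by
    intro t
    rw [mem_subgroupOf, Subgroup.mem_centralizer_iff]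
    intro y hy
    rw [Set.mem_singleton_iff.mp hy]
    exact hx a ha t t.2)
  obtain ⟨m, hm⟩ := hodd
  have hpow : (⟨a, ha⟩ : A) ^ Nat.card T = ⟨a, ha⟩ := by
    have h3 : (⟨a, ha⟩ : A) ^ 2 = 1 := by
      apply Subtype.ext
      rw [Subgroup.coe_pow, Subgroup.coe_one, pow_two]
      exact h2 a ha
    rw [hm, pow_succ, pow_mul, h3, one_pow, one_mul]
  rw [hfa, hpow] at he
  have h4 : (a : G) = ((b : A) : G)⁻¹ := by
    have h5 : (⟨a, ha⟩ : A) = b⁻¹ := eq_inv_of_mul_eq_one_left he.symm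
    have := congrArg Subtype.val h5
    simpa using this
  rw [mem_subgroupOf, Subgroup.mem_centralizer_iff] at hb
  have h5 : Commute x (b : G) := hb x rfl
  rw [h4]
  exact h5.inv_right

include hab hTA in
theorem fix_of_commutator (h2 : ∀ a ∈ A, a * a = 1) (hodd : Odd (Nat.card T))
    (hcom : A ≤ ⁅A, T⁆) : ∀ a ∈ A, (∀ t ∈ T, t * a = a * t) → a = 1 := by
  intro a ha hfa
  obtain ⟨ν, hν1, _, hν3, _⟩ := exists_norm hab hTA
  have h1 : ⁅A, T⁆ ≤ ν.ker.map A.subtype := by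
    rw [Subgroup.commutator_le]
    intro b hb t ht
    refine ⟨⟨b, hb⟩ * (act hTA ⟨t, ht⟩ ⟨b, hb⟩)⁻¹, ?_, ?_⟩
    · show _ ∈ ν.ker
      rw [MonoidHom.mem_ker, map_mul, map_inv, hν1, mul_inv_cancel]
    · show b * (t * b * t⁻¹)⁻¹ = b * t * b⁻¹ * t⁻¹
      group
  obtain ⟨c, hc, hca⟩ := h1 (hcom ha)
  have hc' : c = ⟨a, ha⟩ := Subtype.ext hca
  subst hc'
  have hc2 : ν ⟨a, ha⟩ = 1 := hc
  have h3 := hν3 ⟨a, ha⟩ (fun t => by
    apply Subtype.ext
    show (t : G) * a * (t : G)⁻¹ = a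
    rw [hfa t t.2]; group)
  rw [hc2] at h3
  obtain ⟨m, hm⟩ := hodd
  have h4 : (⟨a, ha⟩ : A) ^ 2 = 1 := by
    apply Subtype.ext
    rw [Subgroup.coe_pow, Subgroup.coe_one, pow_two]
    exact h2 a ha
  rw [hm, pow_succ, pow_mul, h4, one_pow, one_mul] at h3
  have := congrArg Subtype.val h3
  simpa using this.symm

end norm

/-! ### The lemma -/

/-- The frame from the hypotheses of LEMMA Z(AT). -/
theorem frame [Finite G] {K S A T : Subgroup G}
    (hAK : A ≤ normalizer (K : Set G)) (hTK : T ≤ normalizer (K : Set G)) (hS : SylIn 2 S K)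
    (hSA : ∀ a ∈ A, ∀ s ∈ S, a * s = s * a) (hST : ∀ t ∈ T, ∀ s ∈ S, t * s = s * t)
    (hab : ∀ a ∈ A, ∀ b ∈ A, a * b = b * a) (h2 : ∀ a ∈ A, a * a = 1)
    (hodd : Odd (Nat.card T)) (hTA : ∀ t ∈ T, ∀ a ∈ A, t * a * t⁻¹ ∈ A)
    (hfix : ∀ a ∈ A, (∀ t ∈ T, t * a = a * t) → a = 1) :
    Fr K (A ⊔ K) (A ⊔ S) A T := by
  have hAS : A ≤ normalizer (S : Set G) := by
    intro a ha
    refine mem_normalizer_of_conj_mem fun s hs => ?_
    rw [hSA a ha s hs]
    have e : s * a * a⁻¹ = s := by group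
    rwa [e]
  have memP : ∀ {x : G}, x ∈ A ⊔ S → ∃ a ∈ A, ∃ s ∈ S, x = a * s := by
    intro x hx
    have h1 : x ∈ ((A ⊔ S : Subgroup G) : Set G) := hx
    rw [Subgroup.coe_mul_of_left_le_normalizer_right _ _ hAS] at h1
    obtain ⟨a, ha, s, hs, e⟩ := h1
    exact ⟨a, ha, s, hs, e.symm⟩
  have memY : ∀ {x : G}, x ∈ A ⊔ K → ∃ a ∈ A, ∃ k ∈ K, x = a * k := by
    intro x hx
    have h1 : x ∈ ((A ⊔ K : Subgroup G) : Set G) := hx
    rw [Subgroup.coe_mul_of_left_le_normalizer_right _ _ hAK] at h1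
    obtain ⟨a, ha, s, hs, e⟩ := h1
    exact ⟨a, ha, s, hs, e.symm⟩
  have hPp : IsPGroup 2 ↥(A ⊔ S : Subgroup G) := by
    intro x
    obtain ⟨a, ha, s, hs, e⟩ := memP x.2
    obtain ⟨k, hk⟩ := hS.isPGroup ⟨s, hs⟩
    have hk' : s ^ 2 ^ k = 1 := by
      have := congrArg Subtype.val hk
      rwa [Subgroup.coe_pow, Subgroup.coe_one] at this
    refine ⟨k + 1, ?_⟩
    apply Subtype.ext
    rw [Subgroup.coe_pow, Subgroup.coe_one, e, Commute.mul_pow (hSA a ha s hs), pow_succ,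
      pow_mul s, hk', one_pow, mul_one, mul_comm, pow_mul, pow_two, h2 a ha, one_pow]
  have hinfK : ∀ R : Subgroup G, S ≤ R → IsPGroup 2 R → R ⊓ K = S := fun R hSR hR =>
    hS.2.2 _ (le_inf hSR hS.le) inf_le_right (hR.to_le inf_le_left)
  have hPK : (A ⊔ S) ⊓ K = S := hinfK _ le_sup_right hPp
  refine ⟨le_sup_right, ?_, hTK, ?_, ⟨sup_le le_sup_left (hS.le.trans le_sup_right), hPp, ?_⟩,
    le_sup_left, ?_, ?_, hTA, ?_, ?_⟩
  · exact sup_le hAK le_normalizer
  · intro y hy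
    obtain ⟨a, ha, k, hk, rfl⟩ := memY hy
    exact ⟨a * k * a⁻¹, mem_K_conj (hAK ha) hk, a, ha, by group⟩
  · intro R hPR hRY hR
    refine le_antisymm (fun r hr => ?_) hPR
    obtain ⟨a, ha, k, hk, rfl⟩ := memY (hRY hr)
    have h1 : k ∈ R := by
      have := mul_mem (inv_mem (hPR (le_sup_left (a := A) (b := S) ha))) hr
      have e : a⁻¹ * (a * k) = k := by group
      rwa [e] at this
    have h3 : k ∈ S := by
      rw [← hinfK R (le_sup_right.trans hPR) hR]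
      exact Subgroup.mem_inf.mpr ⟨h1, hk⟩
    exact mul_mem (le_sup_left (a := A) (b := S) ha) (le_sup_right (a := A) (b := S) h3)
  · intro a ha p hp
    obtain ⟨b, hb, s, hs, rfl⟩ := memP hp
    calc a * (b * s) = (a * b) * s := by group
      _ = (b * a) * s := by rw [hab a ha b hb]
      _ = b * (a * s) := by group
      _ = b * (s * a) := by rw [hSA a ha s hs]
      _ = b * s * a := by group
  · intro a ha haK
    have h1 : a ∈ S := by
      rw [← hPK]
      exact Subgroup.mem_inf.mpr ⟨le_sup_left (a := A) (b := S) ha, haK⟩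
    exact hfix a ha fun t ht => hST t ht a h1
  · intro t ht s hs hsK
    have h1 : s ∈ S := by
      rw [← hPK]
      exact Subgroup.mem_inf.mpr ⟨hs, hsK⟩
    exact hST t ht s h1
  · exact gen_of_fix hab hTA h2 hodd hfix

/-- **LEMMA Z(AT).** -/
theorem zat [Finite G] {K S A T : Subgroup G}
    (hAK : A ≤ normalizer (K : Set G)) (hTK : T ≤ normalizer (K : Set G))
    (hO : ∀ N : Subgroup G, N ≤ K → K ≤ normalizer (N : Set G) → Odd (Nat.card N) → N = ⊥)
    (hS : SylIn 2 S K)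
    (hSA : ∀ a ∈ A, ∀ s ∈ S, a * s = s * a) (hST : ∀ t ∈ T, ∀ s ∈ S, t * s = s * t)
    (hab : ∀ a ∈ A, ∀ b ∈ A, a * b = b * a) (h2 : ∀ a ∈ A, a * a = 1)
    (hodd : Odd (Nat.card T)) (hTA : ∀ t ∈ T, ∀ a ∈ A, t * a * t⁻¹ ∈ A)
    (hfix : ∀ a ∈ A, (∀ t ∈ T, t * a = a * t) → a = 1) :
    ∀ a ∈ A, ∀ k ∈ K, a * k = k * a := by
  have h := frame hAK hTK hS hSA hST hab h2 hodd hTA hfix
  intro a ha k hk
  by_cases ha1 : a = 1
  · rw [ha1]; group
  set Y : Subgroup G := A ⊔ K with hY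
  have haY : a ∈ Y := le_sup_left (a := A) (b := K) ha
  obtain ⟨Q, hQ⟩ := h.PY.exists_sylow
  have haQ : (⟨a, haY⟩ : Y) ∈ (Q : Subgroup Y) := by
    have h1 : a ∈ (Q : Subgroup Y).map Y.subtype := by rw [hQ]; exact h.AP ha
    obtain ⟨b, hb, he⟩ := h1
    have : b = ⟨a, haY⟩ := Subtype.ext he
    rwa [this] at hb
  have hu : orderOf (⟨a, haY⟩ : Y) = 2 := by
    have h3 : (⟨a, haY⟩ : Y) ^ 2 = 1 := by
      apply Subtype.ext
      rw [Subgroup.coe_pow, Subgroup.coe_one, pow_two]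
      exact h2 a ha
    refine orderOf_eq_prime h3 fun e => ha1 ?_
    have := congrArg Subtype.val e
    simpa using this
  have hiso : ∀ g : Y, g * (⟨a, haY⟩ : Y) * g⁻¹ ∈ Q → g * (⟨a, haY⟩ : Y) * g⁻¹ = ⟨a, haY⟩ := by
    intro g hg
    apply Subtype.ext
    have h1 : (g : G) * a * (g : G)⁻¹ ∈ A ⊔ S := by
      rw [← hQ]; exact ⟨_, hg, rfl⟩
    exact h.iso g.2 ha h1
  obtain ⟨N, hN, hNodd, hNc⟩ := Cfsg.Agent.S0215.result Q (⟨a, haY⟩ : Y) hu haQ hiso
  have hN0 : N.map Y.subtype = ⊥ := by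
    refine hO _ ?_ ?_ ?_
    · rintro _ ⟨n, hn, rfl⟩
      obtain ⟨c, hc, b, hb, e⟩ := h.cov n n.2
      have hn2 : (n : G) * n ∈ K := by
        have h3 : (n : G) * n = c * (b * c * b⁻¹) * (b * b) := by rw [e]; group
        rw [h3, h2 b hb, mul_one]
        exact mul_mem hc (mem_K_conj (hAK hb) hc)
      have h4 : (n : Y) ^ Nat.card N = 1 := by
        have := congrArg Subtype.val (pow_card_eq_one' (x := (⟨n, hn⟩ : N)))
        rwa [Subgroup.coe_pow, Subgroup.coe_one] at this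
      obtain ⟨m, hm⟩ := hNodd
      have h5 : (n : G) ^ Nat.card N = 1 := by
        have := congrArg Subtype.val h4
        rwa [Subgroup.coe_pow, Subgroup.coe_one] at this
      have h6 : (n : G) = (((n : G) * n) ^ m)⁻¹ := by
        rw [hm, pow_succ, pow_mul, pow_two] at h5
        exact eq_inv_of_mul_eq_one_right h5
      show (n : G) ∈ K
      rw [h6]
      exact inv_mem (pow_mem hn2 m)
    · intro c hc
      refine mem_normalizer_of_conj_mem fun n hn => ?_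
      obtain ⟨n', hn', rfl⟩ := hn
      have hcY : c ∈ Y := le_sup_right (a := A) (b := K) hc
      exact ⟨⟨c, hcY⟩ * n' * ⟨c, hcY⟩⁻¹, hN.conj_mem n' hn' _, rfl⟩
    · rw [Nat.card_congr (N.equivMapOfInjective _ Y.subtype_injective).toEquiv.symm]
      exact hNodd
  have hkY : k ∈ Y := le_sup_right (a := A) (b := K) hk
  have h1 := hNc ⟨k, hkY⟩
  have h3 : a * k * a⁻¹ * k⁻¹ ∈ N.map Y.subtype := ⟨_, h1, rfl⟩
  rw [hN0, Subgroup.mem_bot] at h3
  calc a * k = (a * k * a⁻¹ * k⁻¹) * (k * a) := by group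
    _ = k * a := by rw [h3, one_mul]

/-- The form with `A = [A,T]`. -/
theorem zat_commutator [Finite G] {K S A T : Subgroup G}
    (hAK : A ≤ normalizer (K : Set G)) (hTK : T ≤ normalizer (K : Set G))
    (hO : ∀ N : Subgroup G, N ≤ K → K ≤ normalizer (N : Set G) → Odd (Nat.card N) → N = ⊥)
    (hS : SylIn 2 S K)
    (hSA : ∀ a ∈ A, ∀ s ∈ S, a * s = s * a) (hST : ∀ t ∈ T, ∀ s ∈ S, t * s = s * t)
    (hab : ∀ a ∈ A, ∀ b ∈ A, a * b = b * a) (h2 : ∀ a ∈ A, a * a = 1)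
    (hodd : Odd (Nat.card T)) (hTA : ∀ t ∈ T, ∀ a ∈ A, t * a * t⁻¹ ∈ A)
    (hcom : A ≤ ⁅A, T⁆) :
    ∀ a ∈ A, ∀ k ∈ K, a * k = k * a :=
  zat hAK hTK hO hS hSA hST hab h2 hodd hTA (fix_of_commutator hab hTA h2 hodd hcom)

end Cfsg.Agent.Omega.ZAT

end

section


/-!
# NODE LIE: the centre trick and LEMMA Z(AT) together (bb OMEGA #11429, #11827, #11624)

`zat_quasi`: LEMMA Z(AT) for a quasisimple group `K` of even order with centre of odd order.

`Pre.fix`: `NoCenMove K` implies that `T` centralises `S ⊓ K` (`Pre S A T K` of `CompB.lean`; `T` of odd order and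
fixed point free on `A`).  `Pre.centralises`: then `A` centralises `K`.
-/

set_option autoImplicit false

namespace Cfsg.Agent.Omega.Lie.Exo

open Cfsg Subgroup Cfsg.Agent.Transfer.FusionBasic Cfsg.Agent.Omega.ZAT Cfsg.Agent.Omega.Lie.CompB
open Cfsg.Agent.Omega.Lie.CenTwo

variable {G : Type*} [Group G]

/-- a normal subgroup of odd order of a quasisimple group of even order, odd centre, is central -/
theorem le_center {K : Type*} [Group K] [Finite K] (hq : IsQuasisimple K) (hZ : Odd (Nat.card (center K)))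
    (h2 : 2 ∣ Nat.card K) {N : Subgroup K} (hN : N.Normal) (hodd : Odd (Nat.card N)) : N ≤ center K := by
  have hs : IsSimpleGroup (K ⧸ center K) := hq.2
  have hn : (N.map (QuotientGroup.mk' (center K))).Normal :=
    hN.map _ (QuotientGroup.mk'_surjective _)
  rcases hn.eq_bot_or_eq_top with h | h
  · intro x hx
    have h1 : QuotientGroup.mk' (center K) x ∈ N.map (QuotientGroup.mk' (center K)) := ⟨x, hx, rfl⟩
    rw [h, mem_bot] at h1
    exact (QuotientGroup.eq_one_iff x).1 h1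
  · exfalso
    have h1 : Nat.card (K ⧸ center K) ∣ Nat.card N := by
      have h3 := Subgroup.card_map_dvd (H := N) (QuotientGroup.mk' (center K))
      rwa [h, Subgroup.card_top] at h3
    have h3 := Subgroup.card_eq_card_quotient_mul_card_subgroup (center K)
    have h4 : Odd (Nat.card (K ⧸ center K)) := by
      rw [← Nat.not_even_iff_odd, even_iff_two_dvd] at hodd ⊢
      exact fun h5 => hodd (h5.trans h1)
    have h5 : Odd (Nat.card K) := by
      rw [h3]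
      exact h4.mul hZ
    rw [← Nat.not_even_iff_odd, even_iff_two_dvd] at h5
    exact h5 h2

/-- **LEMMA Z(AT)** for quasisimple groups. -/
theorem zat_quasi [Finite G] {K S A T : Subgroup G} (hq : IsQuasisimple K) (hZ : Odd (Nat.card (center K)))
    (h2K : 2 ∣ Nat.card K) (hAK : A ≤ normalizer (K : Set G)) (hTK : T ≤ normalizer (K : Set G))
    (hS : SylIn 2 S K)
    (hSA : ∀ a ∈ A, ∀ s ∈ S, a * s = s * a) (hST : ∀ t ∈ T, ∀ s ∈ S, t * s = s * t)
    (hab : ∀ a ∈ A, ∀ b ∈ A, a * b = b * a) (h2 : ∀ a ∈ A, a * a = 1)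
    (hodd : Odd (Nat.card T)) (hTA : ∀ t ∈ T, ∀ a ∈ A, t * a * t⁻¹ ∈ A)
    (hfix : ∀ a ∈ A, (∀ t ∈ T, t * a = a * t) → a = 1) :
    ∀ a ∈ A, ∀ k ∈ K, a * k = k * a := by
  have h := frame hAK hTK hS hSA hST hab h2 hodd hTA hfix
  intro a ha
  by_cases ha1 : a = 1
  · intro k _
    rw [ha1]; group
  set Y : Subgroup G := A ⊔ K with hY
  have haY : a ∈ Y := le_sup_left (a := A) (b := K) ha
  obtain ⟨Q, hQ⟩ := h.PY.exists_sylow
  have haQ : (⟨a, haY⟩ : Y) ∈ (Q : Subgroup Y) := by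
    have h1 : a ∈ (Q : Subgroup Y).map Y.subtype := by rw [hQ]; exact h.AP ha
    obtain ⟨b, hb, he⟩ := h1
    have : b = ⟨a, haY⟩ := Subtype.ext he
    rwa [this] at hb
  have hu : orderOf (⟨a, haY⟩ : Y) = 2 := by
    have h3 : (⟨a, haY⟩ : Y) ^ 2 = 1 := by
      apply Subtype.ext
      rw [Subgroup.coe_pow, Subgroup.coe_one, pow_two]
      exact h2 a ha
    refine orderOf_eq_prime h3 fun e => ha1 ?_
    have := congrArg Subtype.val e
    simpa using this
  have hiso : ∀ g : Y, g * (⟨a, haY⟩ : Y) * g⁻¹ ∈ Q → g * (⟨a, haY⟩ : Y) * g⁻¹ = ⟨a, haY⟩ := by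
    intro g hg
    apply Subtype.ext
    have h1 : (g : G) * a * (g : G)⁻¹ ∈ A ⊔ S := by
      rw [← hQ]; exact ⟨_, hg, rfl⟩
    exact h.iso g.2 ha h1
  obtain ⟨N, hN, hNodd, hNc⟩ := Cfsg.Agent.S0215.result Q (⟨a, haY⟩ : Y) hu haQ hiso
  have hNK : N.map Y.subtype ≤ K := by
    rintro _ ⟨n, hn, rfl⟩
    obtain ⟨c, hc, b, hb, e⟩ := h.cov n n.2
    have hn2 : (n : G) * n ∈ K := by
      have h3 : (n : G) * n = c * (b * c * b⁻¹) * (b * b) := by rw [e]; group
      rw [h3, h2 b hb, mul_one]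
      exact mul_mem hc (mem_K_conj (hAK hb) hc)
    have h4 : (n : Y) ^ Nat.card N = 1 := by
      have := congrArg Subtype.val (pow_card_eq_one' (x := (⟨n, hn⟩ : N)))
      rwa [Subgroup.coe_pow, Subgroup.coe_one] at this
    obtain ⟨m, hm⟩ := hNodd
    have h5 : (n : G) ^ Nat.card N = 1 := by
      have := congrArg Subtype.val h4
      rwa [Subgroup.coe_pow, Subgroup.coe_one] at this
    have h6 : (n : G) = (((n : G) * n) ^ m)⁻¹ := by
      rw [hm, pow_succ, pow_mul, pow_two] at h5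
      exact eq_inv_of_mul_eq_one_right h5
    show (n : G) ∈ K
    rw [h6]
    exact inv_mem (pow_mem hn2 m)
  have hNn : ((N.map Y.subtype).subgroupOf K).Normal := by
    refine ⟨fun x hx g => ?_⟩
    rw [mem_subgroupOf] at hx ⊢
    obtain ⟨n', hn', he⟩ := hx
    have hgY : (g : G) ∈ Y := le_sup_right (a := A) (b := K) g.2
    refine ⟨⟨g, hgY⟩ * n' * ⟨g, hgY⟩⁻¹, hN.conj_mem n' hn' _, ?_⟩
    show (g : G) * Y.subtype n' * (g : G)⁻¹ = _
    rw [he]
    rfl
  have hNo : Odd (Nat.card ((N.map Y.subtype).subgroupOf K)) := by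
    rw [Nat.card_congr (subgroupOfEquivOfLe hNK).toEquiv,
      Nat.card_congr (N.equivMapOfInjective _ Y.subtype_injective).toEquiv.symm]
    exact hNodd
  have hNz := le_center hq hZ h2K hNn hNo
  -- `[a, k]` is central in `K`
  have hc : ∀ k ∈ K, a * k * a⁻¹ * k⁻¹ ∈ K ∧ ∀ y ∈ K, a * k * a⁻¹ * k⁻¹ * y = y * (a * k * a⁻¹ * k⁻¹) := by
    intro k hk
    have hkY : k ∈ Y := le_sup_right (a := A) (b := K) hk
    have h1 : a * k * a⁻¹ * k⁻¹ ∈ N.map Y.subtype := ⟨_, hNc ⟨k, hkY⟩, rfl⟩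
    refine ⟨hNK h1, fun y hy => ?_⟩
    have h3 : (⟨a * k * a⁻¹ * k⁻¹, hNK h1⟩ : K) ∈ center K := hNz (mem_subgroupOf.2 h1)
    exact (congrArg Subtype.val (mem_center_iff.1 h3 ⟨y, hy⟩)).symm
  -- the centraliser of `a` in `K` contains the commutators
  have hperf : commutator K = ⊤ := hq.1.commutator_eq_top
  have hle : commutator K ≤ (centralizer ({a} : Set G)).subgroupOf K := by
    rw [commutator_def, Subgroup.commutator_le]
    intro x _ y _
    change x * y * x⁻¹ * y⁻¹ ∈ _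
    rw [mem_subgroupOf, mem_centralizer_singleton_iff]
    obtain ⟨hx1, hx2⟩ := hc x x.2
    obtain ⟨hy1, hy2⟩ := hc y y.2
    set cx := a * x * a⁻¹ * (x : G)⁻¹ with hcx
    set cy := a * y * a⁻¹ * (y : G)⁻¹ with hcy
    have ex : a * x * a⁻¹ = cx * x := by rw [hcx]; group
    have ey : a * y * a⁻¹ = cy * y := by rw [hcy]; group
    have h1 : a * ((x * y * x⁻¹ * y⁻¹ : K) : G) * a⁻¹ = ((x * y * x⁻¹ * y⁻¹ : K) : G) := by
      have e1 : ((x * y * x⁻¹ * y⁻¹ : K) : G) = (x : G) * y * (x : G)⁻¹ * (y : G)⁻¹ := rfl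
      rw [e1]
      calc a * ((x : G) * y * (x : G)⁻¹ * (y : G)⁻¹) * a⁻¹
          = (a * x * a⁻¹) * (a * y * a⁻¹) * (a * x * a⁻¹)⁻¹ * (a * y * a⁻¹)⁻¹ := by group
        _ = (cx * x) * (cy * y) * (cx * x)⁻¹ * (cy * y)⁻¹ := by rw [ex, ey]
        _ = cx * ((x : G) * cy) * y * (x : G)⁻¹ * cx⁻¹ * (y : G)⁻¹ * cy⁻¹ := by group
        _ = cx * (cy * x) * y * (x : G)⁻¹ * cx⁻¹ * (y : G)⁻¹ * cy⁻¹ := by rw [hy2 x x.2]
        _ = cx * (cy * ((x : G) * y * (x : G)⁻¹)) * cx⁻¹ * (y : G)⁻¹ * cy⁻¹ := by group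
        _ = (cy * ((x : G) * y * (x : G)⁻¹)) * cx * cx⁻¹ * (y : G)⁻¹ * cy⁻¹ := by
            rw [hx2 _ (mul_mem hy1 (mul_mem (mul_mem x.2 y.2) (inv_mem x.2)))]
        _ = cy * ((x : G) * y * (x : G)⁻¹ * (y : G)⁻¹) * cy⁻¹ := by group
        _ = ((x : G) * y * (x : G)⁻¹ * (y : G)⁻¹) * cy * cy⁻¹ := by
            rw [hy2 _ (mul_mem (mul_mem (mul_mem x.2 y.2) (inv_mem x.2)) (inv_mem y.2))]
        _ = _ := by group
    exact (mul_inv_eq_iff_eq_mul.1 h1).symm
  intro k hk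
  have h1 : (⟨k, hk⟩ : K) ∈ commutator K := by rw [hperf]; exact mem_top _
  have h3 := hle h1
  rw [mem_subgroupOf, mem_centralizer_singleton_iff] at h3
  exact h3.symm

/-! ### the centre trick -/

section pre

variable {S A T K : Subgroup G}

theorem _root_.Cfsg.Agent.Omega.Lie.CompB.Pre.T_le (h : Pre S A T K) : T ≤ normalizer (K : Set G) := by
  intro t ht
  rw [mem_normalizer_iff]
  exact fun x => (h.TK_iff ht).symm

theorem _root_.Cfsg.Agent.Omega.Lie.CompB.Pre.A_le (h : Pre S A T K) : A ≤ normalizer (K : Set G) := by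
  intro a ha
  rw [mem_normalizer_iff]
  intro x
  refine ⟨h.AK a ha x, fun hx => ?_⟩
  have h1 := h.AK a⁻¹ (inv_mem ha) _ hx
  have e : a⁻¹ * (a * x * a⁻¹) * a⁻¹⁻¹ = x := by group
  rwa [e] at h1

theorem _root_.Cfsg.Agent.Omega.Lie.CompB.Pre.sylIn (h : Pre S A T K) : SylIn 2 (S ⊓ K) K :=
  ⟨inf_le_right, h.S2.to_le inf_le_left, fun R hR hRK hR2 => le_antisymm (le_inf (h.syl R hRK hR2 hR) hRK) hR⟩

/-- **The centre trick**: `T` centralises `S ⊓ K`. -/
theorem _root_.Cfsg.Agent.Omega.Lie.CompB.Pre.fix [Finite G] (h : Pre S A T K) (hodd : Odd (Nat.card T))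
    (hfree : ∀ t ∈ T, t ≠ 1 → ∀ a ∈ A, t * a * t⁻¹ = a → a = 1) (hK : NoCenMove K) :
    ∀ t ∈ T, ∀ s ∈ S, s ∈ K → t * s * t⁻¹ = s := by
  intro t ht s hs hsK
  by_cases ht1 : t = 1
  · rw [ht1]; group
  obtain ⟨Q, hQ⟩ := h.sylIn.exists_sylow
  have memQ : ∀ x : K, x ∈ (Q : Subgroup K) ↔ (x : G) ∈ S := by
    intro x
    constructor
    · intro hx
      have h1 : (x : G) ∈ (Q : Subgroup K).map K.subtype := ⟨x, hx, rfl⟩
      rw [hQ] at h1
      exact h1.1
    · intro hx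
      have h1 : (x : G) ∈ (Q : Subgroup K).map K.subtype := by
        rw [hQ]; exact ⟨hx, x.2⟩
      obtain ⟨y, hy, he⟩ := h1
      have : y = x := Subtype.ext he
      rwa [this] at hy
  have htn : t ∈ normalizer (K : Set G) := h.T_le ht
  let τ : MulAut K := normalizerMonoidHom K ⟨t, htn⟩
  have hτ : ∀ x : K, ((τ x : K) : G) = t * x * t⁻¹ := fun x => rfl
  have hord : Odd (orderOf τ) := by
    have h1 : orderOf τ ∣ orderOf (⟨t, htn⟩ : normalizer (K : Set G)) := orderOf_map_dvd _ _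
    have h2 : orderOf (⟨t, htn⟩ : normalizer (K : Set G)) = orderOf t := Subgroup.orderOf_mk _ _
    have h3 : orderOf t ∣ Nat.card T := Subgroup.orderOf_dvd_natCard T ht
    exact Odd.of_dvd_nat hodd ((h2 ▸ h1).trans h3)
  have key := hK.fix' (S := Q) (τ := τ) hord
    (by
      intro x hx
      have h1 : (x : G) ∈ S := (memQ x).1 hx
      exact (memQ (τ x)).2 (by rw [hτ]; exact h.TS t ht x h1))
    (A := A.subgroupOf K)
    (by
      intro x hx
      rw [mem_subgroupOf]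
      exact h.ST t ht x ((memQ x).1 hx))
    (by
      intro u hu hfu
      rw [mem_subgroupOf] at hu
      have h1 := congrArg Subtype.val hfu
      rw [hτ] at h1
      exact Subtype.ext (hfree t ht ht1 u hu h1))
  have h1 := key ⟨s, hsK⟩ ((memQ _).2 hs)
  exact congrArg Subtype.val h1

/-- **NODE LIE, exotic components**: `NoCenMove K` implies that `A` centralises `K`. -/
theorem _root_.Cfsg.Agent.Omega.Lie.CompB.Pre.centralises [Finite G] (h : Pre S A T K) (hodd : Odd (Nat.card T)) (hT : ∃ t ∈ T, t ≠ 1)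
    (hfree : ∀ t ∈ T, t ≠ 1 → ∀ a ∈ A, t * a * t⁻¹ = a → a = 1)
    (hSA : ∀ s ∈ S, ∀ a ∈ A, s * a * s⁻¹ ∈ A) (hq : IsQuasisimple K) (h2K : 2 ∣ Nat.card K)
    (hK : NoCenMove K) : ∀ a ∈ A, ∀ k ∈ K, a * k = k * a := by
  have : Fact (Nat.Prime 2) := ⟨Nat.prime_two⟩
  have hfix := h.fix hodd hfree hK
  obtain ⟨t0, ht0, ht1⟩ := hT
  have hAK : ∀ a ∈ A, a ∈ K → a = 1 := fun a ha haK => hfree t0 ht0 ht1 a ha (hfix t0 ht0 a (h.AS ha) haK)
  have hZ : Odd (Nat.card (center K)) := by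
    rw [← Nat.not_even_iff_odd, even_iff_two_dvd]
    intro h2
    obtain ⟨z, hz⟩ := exists_prime_orderOf_dvd_card' 2 h2
    have h3 := h.zodd ((z : K) : G) (z : K).2 fun y hy =>
      (congrArg Subtype.val (mem_center_iff.1 z.2 ⟨y, hy⟩)).symm
    rw [orderOf_coe, orderOf_coe, hz] at h3
    exact absurd h3 (by decide)
  refine zat_quasi hq hZ h2K h.A_le h.T_le h.sylIn ?_ ?_ (fun a ha b hb => h.commA ha hb) h.A2 hodd h.TA ?_
  · rintro a ha s ⟨hs, hsK⟩
    have h1 : a * (s * a⁻¹ * s⁻¹) ∈ A := mul_mem ha (hSA s hs a⁻¹ (inv_mem ha))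
    have h2 : a * s * a⁻¹ * s⁻¹ ∈ K := mul_mem (h.AK a ha s hsK) (inv_mem hsK)
    have e : a * (s * a⁻¹ * s⁻¹) = a * s * a⁻¹ * s⁻¹ := by group
    rw [e] at h1
    have h3 := hAK _ h1 h2
    calc a * s = (a * s * a⁻¹ * s⁻¹) * (s * a) := by group
      _ = s * a := by rw [h3, one_mul]
  · rintro t ht s ⟨hs, hsK⟩
    exact mul_inv_eq_iff_eq_mul.1 (hfix t ht s hs hsK)
  · intro a ha hc
    exact hfree t0 ht0 ht1 a ha (mul_inv_eq_iff_eq_mul.2 (hc t0 ht0))

end pre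

end Cfsg.Agent.Omega.Lie.Exo

end
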