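import Cfsg.Agent.Mrg.Omega.FrameI
import Cfsg.Agent.S0247
import Cfsg.Agent.S0298
import Cfsg.Agent.S0301
import Cfsg.Agent.S0280
import Cfsg.Agent.LieClassical.SympCount
import Cfsg.Agent.Mrg.Omega.VP
import Cfsg.Prelude.Def_CaseTheorems
import Cfsg.Prelude.Def_LieTwisted
import Cfsg.Prelude.Def_Local
import Cfsg.Prelude.Def_Solvable
import Cfsg.Prelude.Def_Spor_Conway
import Cfsg.Prelude.Def_Spor_J1
import Cfsg.Prelude.Def_Spor_J4
import Cfsg.Prelude.Def_Spor_Mathieu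
import Cfsg.Prelude.Def_Spor_Th
import Cfsg.Prelude.Def_SporadicB
import Cfsg.Prelude.Def_Sz
import Cfsg.Prelude.Def_Transfer
import Mathlib
import Cfsg.Agent.StrongEmb.Consequences

section


/-!
# The exit "3-transpositions" (S0480) of the even half
-/

set_option autoImplicit false

namespace Cfsg.Agent.Omega.Exits

open Cfsg Subgroup

universe u

/-- S0480. -/
def St0480 : Prop :=
  ∀ (G : Type u) [Group G] [Finite G] [IsSimpleGroup G] (_ : ∃ x y : G, x * y ≠ y * x) {D : Set G} (_ : Cfsg.IsThreeTranspositionClass D), (∃ n : ℕ, Nonempty (G ≃* Matrix.symplecticGroup (Fin n) (ZMod 2))) ∨ (∃ (F : Type) (_ : Field F) (_ : Fintype F) (n : ℕ), Fintype.card F = 4 ∧ Nonempty (G ≃* Cfsg.PSU n F 2)) ∨ (∃ m : ℕ, Nonempty (G ≃* Cfsg.POmega (ZMod 3) (Cfsg.quadFormOdd m (ZMod 3)))) ∨ Cfsg.IsFi22 G ∨ Cfsg.IsFi23 G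

variable {G : Type u} [Group G]

/-- A group with trivial centre is its central quotient. -/
theorem quot_center {X Y : Type*} [Group X] [Group Y] (e : X ≃* Y) (h : center X = ⊥) :
    Nonempty (X ≃* Y ⧸ center Y) := by
  have h1 : center Y = ⊥ := by
    rw [eq_bot_iff]
    intro y hy
    have h2 : e.symm y ∈ center X := by
      rw [mem_center_iff]
      intro g
      apply e.injective
      rw [map_mul, map_mul, e.apply_symm_apply]
      exact mem_center_iff.1 hy (e g)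
    rw [h, mem_bot] at h2
    have h3 := congrArg e h2
    rw [e.apply_symm_apply, map_one] at h3
    exact h3
  exact ⟨e.trans ((QuotientGroup.quotientBot.symm).trans (QuotientGroup.quotientMulEquivOfEq h1.symm))⟩

theorem card_psl2_three : Nat.card (Matrix.ProjectiveSpecialLinearGroup (Fin 2) (ZMod 3)) ∣ 48 := by
  have h1 : Nat.card (Matrix.ProjectiveSpecialLinearGroup (Fin 2) (ZMod 3)) ∣
      Nat.card (Matrix.SpecialLinearGroup (Fin 2) (ZMod 3)) :=
    Subgroup.card_quotient_dvd_card _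
  refine h1.trans ?_
  have h2 : Nat.card (GL (Fin 2) (ZMod 3)) = 48 := by
    have h3 := Matrix.card_GL_field (𝔽 := ZMod 3) 2
    rw [h3]
    simp [Finset.prod_fin_eq_prod_range, Finset.prod_range_succ]
  rw [← h2]
  exact Subgroup.card_dvd_of_injective (Matrix.SpecialLinearGroup.toGL)
    Matrix.SpecialLinearGroup.toGL_injective

/-- **The exit S0480** in sectional 2-rank at least 5. -/
theorem known_0480 [Finite G] [IsSimpleGroup G] (hna : ¬ IsMulCommutative G) (h32 : 32 ∣ Nat.card G)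
    (h : (∃ n : ℕ, Nonempty (G ≃* Matrix.symplecticGroup (Fin n) (ZMod 2))) ∨ (∃ (F : Type) (_ : Field F) (_ : Fintype F) (n : ℕ), Fintype.card F = 4 ∧ Nonempty (G ≃* Cfsg.PSU n F 2)) ∨ (∃ m : ℕ, Nonempty (G ≃* Cfsg.POmega (ZMod 3) (Cfsg.quadFormOdd m (ZMod 3)))) ∨ Cfsg.IsFi22 G ∨ Cfsg.IsFi23 G) :
    IsKnownSimple' G ∨ Cfsg.IsFi22 G ∨ Cfsg.IsFi23 G := by
  have hZ := center_eq_bot hna
  rcases h with ⟨n, ⟨e⟩⟩ | ⟨F, i, j, n, hF, ⟨e⟩⟩ | ⟨m, ⟨e⟩⟩ | h
  · left
    have hc : Nat.card G = 2 ^ (n ^ 2) * ∏ i ∈ Finset.range n, (2 ^ (2 * (i + 1)) - 1) := by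
      rw [Nat.card_congr e.toEquiv, LieClassical.SympCount.card_symplecticGroup, ZMod.card]
    rcases Nat.lt_or_ge n 3 with hn | hn
    · exfalso
      interval_cases n
      · rw [hc] at h32
        exact absurd h32 (by decide)
      · rw [hc] at h32
        simp at h32
      · rw [hc] at h32
        simp [Finset.prod_range_succ] at h32
    · exact known_sp hn (quot_center e hZ)
  · left
    rcases Nat.lt_or_ge n 4 with hn | hn
    · exfalso
      have h4 : Fintype.card F = 2 ^ 2 := by rw [hF]; norm_num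
      rcases Nat.lt_or_ge n 2 with hn2 | hn2
      · have : Subsingleton (Matrix.SpecialLinearGroup (Fin n) F) := by
          have : Subsingleton (Fin n) := by
            interval_cases n <;> infer_instance
          infer_instance
        have h5 : Nat.card G = 1 := by
          rw [Nat.card_congr e.toEquiv]
          have : Subsingleton (Cfsg.SU n F 2) := inferInstance
          have : Subsingleton (Cfsg.PSU n F 2) := Quotient.instSubsingletonQuotient _
          exact Nat.card_unique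
        rw [h5] at h32
        omega
      · have h5 := Cfsg.Agent.S0280.result h4 n hn2
        rw [← Nat.card_congr e.toEquiv] at h5
        interval_cases n
        · simp [Finset.prod_range_succ] at h5
          omega
        · simp [Finset.prod_range_succ] at h5
          omega
    · exact known_u hn (by rw [hF]; norm_num) ⟨e⟩
  · left
    rcases Nat.lt_or_ge m 3 with hm | hm
    · interval_cases m
      · exfalso
        have hcomm : ∀ a b : Cfsg.isometryGroup (ZMod 3) (Cfsg.quadFormOdd 0 (ZMod 3)), a * b = b * a := by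
          intro a b
          apply Subtype.ext
          apply Units.ext
          ext i j
          have hu : ∀ x y : Unit ⊕ (Fin 0 ⊕ Fin 0), x = y := by
            rintro (x | x | x) (y | y | y)
            · rfl
            all_goals first | exact x.elim0 | exact y.elim0
          have : Unique (Unit ⊕ (Fin 0 ⊕ Fin 0)) := ⟨⟨Sum.inl ()⟩, fun x => hu x _⟩
          simp only [Subgroup.coe_mul, Units.val_mul, Matrix.mul_apply]
          rw [hu i j]
          apply Finset.sum_congr rfl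
          intro k _
          rw [hu k j, mul_comm]
        have h1 : Cfsg.Omega (ZMod 3) (Cfsg.quadFormOdd 0 (ZMod 3)) = ⊥ := by
          rw [Cfsg.Omega, commutator_def, Subgroup.commutator_eq_bot_iff_le_centralizer]
          intro a _
          rw [mem_centralizer_iff]
          intro b _
          exact hcomm b a
        have : Subsingleton ↥(Cfsg.Omega (ZMod 3) (Cfsg.quadFormOdd 0 (ZMod 3))) := by
          rw [h1]
          infer_instance
        have h5 : Nat.card G = 1 := by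
          rw [Nat.card_congr e.toEquiv]
          have : Subsingleton (Cfsg.POmega (ZMod 3) (Cfsg.quadFormOdd 0 (ZMod 3))) :=
            Quotient.instSubsingletonQuotient _
          exact Nat.card_unique
        rw [h5] at h32
        omega
      · exfalso
        obtain ⟨f⟩ := Cfsg.Agent.S0298.result (F := ZMod 3) (by rw [ZMod.card]; decide)
        have h1 : Nat.card G ∣ 48 := by
          rw [Nat.card_congr (e.trans f).toEquiv]
          exact card_psl2_three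
        have h2 := h32.trans h1
        omega
      · obtain ⟨f⟩ := Cfsg.Agent.S0301.result (F := ZMod 3) (by rw [ZMod.card]; decide)
        exact known_sp4 (by rw [ZMod.card]) ⟨e.trans f⟩
    · exact known_poOdd ⟨ZMod 3, _, _, m, hm, by rw [ZMod.card]; decide, ⟨e⟩⟩
  · exact Or.inr h

end Cfsg.Agent.Omega.Exits

end

section


/-!
# OMEGA: the outputs of the leaves, and the quoted statements

Every leaf of the even half ends in a group described by one of the listed recognition statements.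
`Lib` collects the literal texts of the recognition statements that are quoted; each `Lib.*` theorem
turns the hypothesis delivered by a leaf into `IsKnownSimple' G`.
-/

set_option autoImplicit false
set_option linter.unusedVariables false

namespace Cfsg.Agent.Omega.Outputs

open Cfsg Subgroup Cfsg.Agent.Omega.Exits Cfsg.Agent.Omega.Frame

universe u

/-- S1670. -/
def St1670 : Prop :=
  ∀ (G : Type u) [Group G] [Finite G] [IsSimpleGroup G] (t : G) (ht : orderOf t = 2) (Q N M : Subgroup (Subgroup.centralizer ({t} : Set G))) [Q.Normal] [N.Normal] [M.Normal] (hQN : Q ≤ N) (hNM : N ≤ M) (hM : M.index = 2) (hQ : Cfsg.IsExtraspecial 2 Q) (hcard : Nat.card Q = 2 ^ 13) (hplus : ∃ E : Subgroup Q, Cfsg.IsElementaryAbelian 2 E ∧ Nat.card E = 2 ^ 7) (hN : Nat.card N = 3 * Nat.card Q) (hcent : ⁅M, N⁆ ≤ Q) (hperf : M ≤ ⁅M, M⁆ ⊔ Q) (h2c : Subgroup.centralizer (Q : Set (Subgroup.centralizer ({t} : Set G))) ≤ Q) (hout : ∀ c : Subgroup.centralizer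 ({t} : Set G), (∀ m ∈ M, c * m * c⁻¹ * m⁻¹ ∈ N) → c ∈ M) (hM22 : Cfsg.Spor.IsoM22 (M ⧸ N.subgroupOf M)) (h2cen : Cfsg.IsTwoCentralInvolution t),
    Cfsg.Spor.IsoJ4 G

/-- S1671. -/
def St1671 : Prop :=
  ∀ (G : Type u) [Group G] [Finite G] [IsSimpleGroup G] (t : G) (ht : orderOf t = 2) (Q : Subgroup (Subgroup.centralizer ({t} : Set G))) [Q.Normal] (hQ : Cfsg.IsExtraspecial 2 Q) (hcard : Nat.card Q = 2 ^ 9) (hplus : ∃ E : Subgroup Q, Cfsg.IsElementaryAbelian 2 E ∧ Nat.card E = 2 ^ 5) (h2c : Subgroup.centralizer (Q : Set (Subgroup.centralizer ({t} : Set G))) ≤ Q) (e : (Subgroup.centralizer ({t} : Set G)) ⧸ Q ≃* alternatingGroup (Fin 9)),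
    Cfsg.Spor.IsoTh G

/-- S1675. -/
def St1675 : Prop :=
  ∀ (G : Type u) [Group G] [Finite G] (hO : Cfsg.oddCore G = ⊥) (hZ : Subgroup.center G = ⊥) (t : G) (ht : orderOf t = 2) (hcon : Cfsg.IsPConstrained 2 (Subgroup.centralizer ({t} : Set G))) (hQ : Cfsg.IsExtraspecial 2 (Cfsg.pCore 2 (Subgroup.centralizer ({t} : Set G)))) (hcard : Nat.card (Cfsg.pCore 2 (Subgroup.centralizer ({t} : Set G))) = 2 ^ 9) (e : (Subgroup.centralizer ({t} : Set G)) ⧸ Cfsg.pCore 2 (Subgroup.centralizer ({t} : Set G)) ≃* Matrix.symplecticGroup (Fin 3) (ZMod 2)),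
    Cfsg.Spor.IsoCo2 G

/-- S1740. -/
def St1740 : Prop :=
  ∀ (G : Type u) [Group G] [Finite G] [IsSimpleGroup G] (hG : ¬ IsMulCommutative G) (h3 : ¬ Cfsg.PRankLE 2 2 G) (S : Sylow 2 G) (n : ℕ) (hS : (∃ (F : Type) (_ : Field F) (_ : Fintype F), Fintype.card F = 2 ^ n ∧ ((∃ P : Sylow 2 (Matrix.ProjectiveSpecialLinearGroup (Fin 2) F), Nonempty (↥(S : Subgroup G) ≃* ↥(P : Subgroup (Matrix.ProjectiveSpecialLinearGroup (Fin 2) F)))) ∨ (∃ P : Sylow 2 (Matrix.ProjectiveSpecialLinearGroup (Fin 3) F), Nonempty (↥(S : Subgroup G) ≃* ↥(P : Subgroup (Matrix.ProjectiveSpecialLinearGroup (Fin 3) F)))) ∨ (2 ≤ n ∧ (∃ P : Sylow 2 (Cfsg.PSp 2 F), Nonempty (↥(S : Subgroup G) ≃* ↥(P : Subgroup (Cfsg.PSp 2 F))))))) ∨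
      (∃ (F : Type) (_ : Field F) (_ : Fintype F), Fintype.card F = 4 ^ n ∧ (∃ P : Sylow 2 (Cfsg.PSU 3 F (2 ^ n)), Nonempty (↥(S : Subgroup G) ≃* ↥(P : Subgroup (Cfsg.PSU 3 F (2 ^ n)))))) ∨
      (∃ m : ℕ, 1 ≤ m ∧ n = 2 * m + 1 ∧ ∃ (F : Type) (_ : Field F) (_ : Fintype F), Fintype.card F = 2 ^ n ∧ (∃ P : Sylow 2 ↥(Cfsg.Lie.Sz F (2 ^ (m + 1))), Nonempty (↥(S : Subgroup G) ≃* ↥(P : Subgroup ↥(Cfsg.Lie.Sz F (2 ^ (m + 1)))))))),
    (∃ (F : Type) (_ : Field F) (_ : Fintype F), Fintype.card F = 2 ^ n ∧ (Nonempty (G ≃* Matrix.ProjectiveSpecialLinearGroup (Fin 2) F) ∨ Nonempty (G ≃* Matrix.ProjectiveSpecialLinearGroup (Fin 3) F) ∨ Nonempty (G ≃* Cfsg.PSp 2 F))) ∨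
      (∃ (F : Type) (_ : Field F) (_ : Fintype F), Fintype.card F = 4 ^ n ∧ Nonempty (G ≃* Cfsg.PSU 3 F (2 ^ n))) ∨
      (∃ m : ℕ, 1 ≤ m ∧ n = 2 * m + 1 ∧ ∃ (F : Type) (_ : Field F) (_ : Fintype F), Fintype.card F = 2 ^ n ∧ Nonempty (G ≃* ↥(Cfsg.Lie.Sz F (2 ^ (m + 1))))) ∨
      Cfsg.Lie.IsoRee G ∨ Cfsg.Spor.IsoJ1 G

/-- S1770. -/
def St1770 : Prop :=
  ∀ (G : Type u) [Group G] [Finite G] [IsSimpleGroup G] (S : Sylow 2 G) (r : ℕ),
    (∀ (F : Type) [Field F] [Fintype F], 2 ≤ r → Fintype.card F = 2 ^ r →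
        ∀ P : Sylow 2 ↥(Cfsg.Lie.chevG2.group F), Nonempty (↥(S : Subgroup G) ≃* ↥(P : Subgroup ↥(Cfsg.Lie.chevG2.group F))) →
          Nonempty (G ≃* ↥(Cfsg.Lie.chevG2.group F))) ∧
      (∀ (K : Type) [Field K] [Fintype K], 1 ≤ r → Fintype.card K = 8 ^ r →
        ∀ P : Sylow 2 ↥(Cfsg.Lie.twistedD4 K (2 ^ r)), Nonempty (↥(S : Subgroup G) ≃* ↥(P : Subgroup ↥(Cfsg.Lie.twistedD4 K (2 ^ r)))) →
          Nonempty (G ≃* ↥(Cfsg.Lie.twistedD4 K (2 ^ r))))

variable {G : Type u} [Group G]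

/-- The conclusion of S1143/S1144 (`LieConcl`) is on the list. -/
theorem known_of_lieConcl (h : Cfsg.IsPSL G ∨ Cfsg.IsPSp G ∨ Cfsg.IsPSU G ∨ Cfsg.IsPOmegaOdd G ∨ Cfsg.IsPOmegaPlus G ∨
      Cfsg.IsPOmegaMinus G ∨ Cfsg.IsExceptionalLieType G) : IsKnownSimple' G := known_lie h

theorem known_of_lieType {p : ℕ} (h : IsLieTypeChar p G) : IsKnownSimple' G :=
  OddHalf.Known.known_of_isLie h

/-- The quoted recognition statements. -/
structure Lib : Prop where
  s0480 : St0480.{u}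
  s1143 : St1143.{u}
  s1144 : St1144.{u}
  s1670 : St1670.{u}
  s1671 : St1671.{u}
  s1675 : St1675.{u}
  s1740 : St1740.{u}
  s1759 : St1759.{u}
  s1761 : St1761.{u}
  s1762 : St1762.{u}
  s1763 : St1763.{u}
  s1770 : St1770.{u}
  bender : Bender.{u}

namespace Lib

variable (L : Lib.{u}) [Finite G]

include L

/-- an irreducible `BN`-pair of rank at least 3 -/
theorem known_bn_three [IsSimpleGroup G] (P : BNPair G) (h3 : 3 ≤ P.rank) (hi : P.Irreducible) :
    IsKnownSimple' G := known_lie (L.s1143 G P h3 hi)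

/-- a split `BN`-pair -/
theorem known_bn_split [IsSimpleGroup G] (P : BNPair G) (h1 : 1 ≤ P.rank) (hs : P.IsSplit) :
    IsKnownSimple' G := known_lie (L.s1144 G P h1 hs)

/-- 3-transpositions, sectional 2-rank at least 5 -/
theorem known_three (c : Ctx G) {D : Set G} (hD : IsThreeTranspositionClass D) :
    IsKnownSimple' G ∨ IsFi22 G ∨ IsFi23 G := by
  haveI := c.simple
  refine known_0480 c.nonComm (dvd_card c.rank) (L.s0480 G ?_ hD)
  by_contra hcon
  push Not at hcon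
  exact c.nonComm ⟨⟨hcon⟩⟩

end Lib

end Cfsg.Agent.Omega.Outputs

end

section


/-!
# The root lemma (torus method in rank two)

`A ≤ G`, `C = C_G(A)`, `U` a Sylow `2`-subgroup of `C` whose involutions are central in `U` and have
their centralizers in `C` inside `N(U)`, `U ≤ K ≤ C`, `K` generated by the conjugates of `U` in `K`
and not normalising `U`.  Then `K` contains every conjugate of `U` in `C`; so `N_G(A)` normalises
`K`.  An element normalising `K`, centralising `U` and normalising one more conjugate of `U` in `K`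
centralises `K`.
-/

set_option autoImplicit false

universe u

namespace Cfsg.Agent.Omega.RootLemma

open Cfsg Cfsg.Agent.StrongEmb.Basic Cfsg.Agent.StrongEmb.TwoRank Cfsg.Agent.StrongEmb.Split
open Cfsg.Agent.StrongEmb.Consequences

section Tools

variable {X : Type u} [Group X] {U : Subgroup X}

/-- Conjugation invariance in one direction is enough in a finite group. -/
theorem mem_normalizer_of [Finite X] {c : X} (h : ∀ v ∈ U, c * v * c⁻¹ ∈ U) :
    c ∈ Subgroup.normalizer (U : Set X) := by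
  have h1 : U.map (MulAut.conj c).toMonoidHom ≤ U := by
    rintro _ ⟨v, hv, rfl⟩
    exact h v hv
  have h2 : U.map (MulAut.conj c).toMonoidHom = U := by
    refine Subgroup.eq_of_le_of_card_ge h1 (le_of_eq ?_)
    exact (Nat.card_congr
      (U.equivMapOfInjective (MulAut.conj c).toMonoidHom (MulAut.conj c).injective).toEquiv)
  rw [Subgroup.mem_normalizer_iff]
  intro v
  constructor
  · exact h v
  · intro hv
    have hv' : c * v * c⁻¹ ∈ U.map (MulAut.conj c).toMonoidHom := by rw [h2]; exact hv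
    obtain ⟨w, hw, hwv⟩ := hv'
    have h3 : c * w * c⁻¹ = c * v * c⁻¹ := hwv
    rw [← mul_left_cancel (mul_right_cancel h3)]
    exact hw

theorem isPGroup_zpowers_of_pow {t : X} {n : ℕ} (h : t ^ 2 ^ n = 1) :
    IsPGroup 2 (Subgroup.zpowers t) := by
  rintro ⟨g, k, rfl⟩
  refine ⟨n, Subtype.ext ?_⟩
  show (t ^ k) ^ 2 ^ n = 1
  rw [← zpow_natCast, ← zpow_mul, mul_comm, zpow_mul, zpow_natCast, h, one_zpow]

end Tools

/-- `U` is a Sylow `2`-subgroup of `X` of `2`-rank at least two, its involutions are central in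
`U` and their centralizers normalise `U`. -/
structure TI {X : Type u} [Group X] (U : Subgroup X) : Prop where
  two : IsPGroup 2 U
  syl : ∀ P : Subgroup X, IsPGroup 2 P → U ≤ P → P ≤ U
  pair : ∃ a ∈ U, ∃ b ∈ U, a * a = 1 ∧ b * b = 1 ∧ a ≠ 1 ∧ b ≠ 1 ∧ a ≠ b
  cent : ∀ u ∈ U, u * u = 1 → ∀ v ∈ U, u * v = v * u
  norm : ∀ u ∈ U, u * u = 1 → u ≠ 1 → ∀ c, c * u = u * c → ∀ v ∈ U, c * v * c⁻¹ ∈ U

section Local

variable {X : Type u} [Group X] {U : Subgroup X}

theorem TI.mem_of_pow (h : TI U) {t : X} (ht : t ∈ Subgroup.normalizer (U : Set X)) {n : ℕ}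
    (h2 : t ^ 2 ^ n = 1) : t ∈ U := by
  have h3 : IsPGroup 2 ((Subgroup.zpowers t ⊔ U : Subgroup X)) :=
    IsPGroup.to_sup_of_normal_right' (isPGroup_zpowers_of_pow h2) h.two
      (by rw [Subgroup.zpowers_le]; exact ht)
  exact h.syl _ h3 le_sup_right (Subgroup.mem_sup_left (Subgroup.mem_zpowers t))

theorem TI.mem_of_two (h : TI U) {t : X} (ht : t ∈ Subgroup.normalizer (U : Set X))
    (h2 : t * t = 1) : t ∈ U :=
  h.mem_of_pow (n := 1) ht (by rw [pow_one, pow_two]; exact h2)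

theorem TI.commPair (h : TI U) : CommPair X := by
  obtain ⟨a, ha, b, hb, haa, hbb, ha1, hb1, hab⟩ := h.pair
  exact ⟨a, b, orderOf_eq_prime (by rw [pow_two]; exact haa) ha1,
    orderOf_eq_prime (by rw [pow_two]; exact hbb) hb1, hab, h.cent a ha haa b hb⟩

variable [Finite X]

/-- A common involution of `U` and `gUg⁻¹` puts `g` into the normalizer. -/
theorem TI.eq_of_common (h : TI U) {g t : X} (ht : t ∈ U) (ht1 : t ≠ 1) (h2 : t * t = 1)
    (htg : g⁻¹ * t * g ∈ U) : g ∈ Subgroup.normalizer (U : Set X) := by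
  set t' := g⁻¹ * t * g with hdef
  have ht't' : t' * t' = 1 := by
    rw [hdef]
    calc g⁻¹ * t * g * (g⁻¹ * t * g) = g⁻¹ * (t * t) * g := by group
      _ = 1 := by rw [h2]; group
  have key : ∀ v ∈ U, g * v * g⁻¹ ∈ Subgroup.normalizer (U : Set X) := by
    intro v hv
    have hc := h.cent t' htg ht't' v hv
    have h3 : g * v * g⁻¹ * t = t * (g * v * g⁻¹) := by
      have e : t = g * t' * g⁻¹ := by rw [hdef]; group
      calc g * v * g⁻¹ * t = g * v * g⁻¹ * (g * t' * g⁻¹) := by rw [← e]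
        _ = g * (v * t') * g⁻¹ := by group
        _ = g * (t' * v) * g⁻¹ := by rw [hc]
        _ = (g * t' * g⁻¹) * (g * v * g⁻¹) := by group
        _ = t * (g * v * g⁻¹) := by rw [← e]
    exact mem_normalizer_of (h.norm t ht h2 ht1 _ h3)
  refine mem_normalizer_of fun v hv => ?_
  obtain ⟨n, hn⟩ := h.two ⟨v, hv⟩
  have hn' : v ^ 2 ^ n = 1 := congrArg Subtype.val hn
  refine h.mem_of_pow (n := n) (key v hv) ?_
  have : (g * v * g⁻¹) ^ 2 ^ n = g * v ^ 2 ^ n * g⁻¹ := by rw [conj_pow]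
  rw [this, hn', mul_one, mul_inv_cancel]

theorem TI.stronglyEmbedded (h : TI U) {k : X} (hk : k ∉ Subgroup.normalizer (U : Set X)) :
    IsStronglyEmbedded (Subgroup.normalizer (U : Set X)) := by
  have hle : U ≤ Subgroup.normalizer (U : Set X) := Subgroup.le_normalizer
  refine ⟨fun hc => hk (hc ▸ Subgroup.mem_top k), ?_, fun g hg => ?_⟩
  · obtain ⟨a, ha, -, -, haa, -, ha1, -⟩ := h.pair
    have h1 : orderOf a = 2 := orderOf_eq_prime (by rw [pow_two]; exact haa) ha1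
    have h2 := Subgroup.orderOf_dvd_natCard (Subgroup.normalizer (U : Set X)) (hle ha)
    rw [h1] at h2
    exact even_iff_two_dvd.mpr h2
  · by_contra hodd
    rw [Nat.not_odd_iff_even, even_iff_two_dvd] at hodd
    obtain ⟨⟨t, htt'⟩, hto⟩ := exists_prime_orderOf_dvd_card' 2 hodd
    rw [Subgroup.orderOf_mk] at hto
    obtain ⟨ht, htg⟩ := Subgroup.mem_inf.mp htt'
    have ht1 : t ≠ 1 := fun hc => by rw [hc, orderOf_one] at hto; omega
    have htt : t * t = 1 := by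
      have := pow_orderOf_eq_one t
      rwa [hto, pow_two] at this
    have htU : t ∈ U := h.mem_of_two ht htt
    obtain ⟨s, hs, hst⟩ := htg
    have hst' : g * s * g⁻¹ = t := hst
    have hs' : s = g⁻¹ * t * g := by rw [← hst']; group
    have hss : s * s = 1 := by
      rw [hs']
      calc g⁻¹ * t * g * (g⁻¹ * t * g) = g⁻¹ * (t * t) * g := by group
        _ = 1 := by rw [htt]; group
    have hsU : s ∈ U := h.mem_of_two hs hss
    exact hg (h.eq_of_common htU ht1 htt (hs' ▸ hsU))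

/-- **Bender**: `U` is transitive on the other Sylow subgroups. -/
theorem TI.trans (hB : BenderHolds (X ⧸ oddCore X)) (h : TI U) {x k : X}
    (hx : x ∉ Subgroup.normalizer (U : Set X)) (hk : k ∉ Subgroup.normalizer (U : Set X)) :
    ∃ u ∈ U, x⁻¹ * (u * k) ∈ Subgroup.normalizer (U : Set X) := by
  have hSE := h.stronglyEmbedded hk
  have hcp := h.commPair
  obtain ⟨hSE', hcp', hcore⟩ := quotient_data hSE hcp
  obtain ⟨Q, hQ, hQ2⟩ := hB _ hSE' hcp' hcore
  have hiff := mk_mem_map_iff (oddCore_le hSE hcp)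
  obtain ⟨w, hw, hw2⟩ := hQ.trans (QuotientGroup.mk' (oddCore X) k)
    (QuotientGroup.mk' (oddCore X) x) (fun hc => hk ((hiff k).mp hc))
    (fun hc => hx ((hiff x).mp hc))
  obtain ⟨v, hv, hvw⟩ := hQ.le hw
  obtain ⟨n, hn⟩ := hQ2 ⟨w, hw⟩
  have hn' : w ^ 2 ^ n = 1 := congrArg Subtype.val hn
  -- the odd part of `v`
  set m := Nat.card (oddCore X) with hm
  have hmodd : Odd m := odd_oddCore X
  have hvn : v ^ 2 ^ n ∈ oddCore X := by
    rw [← QuotientGroup.ker_mk' (oddCore X), MonoidHom.mem_ker, map_pow, hvw, hn']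
  have hvm : (v ^ 2 ^ n) ^ m = 1 := by
    have : (⟨v ^ 2 ^ n, hvn⟩ : oddCore X) ^ m = 1 := pow_card_eq_one'
    exact congrArg Subtype.val this
  have hcop : Nat.Coprime m (2 ^ n) := Nat.Coprime.pow_right n hmodd.coprime_two_right
  obtain ⟨j, hj⟩ : ∃ j : ℕ, (m * j) ≡ 1 [MOD 2 ^ n] := by
    have h1 := Nat.ModEq.pow_totient hcop
    have h2 : 0 < Nat.totient (2 ^ n) := Nat.totient_pos.mpr (by positivity)
    refine ⟨m ^ (Nat.totient (2 ^ n) - 1), ?_⟩
    rw [← pow_succ', Nat.sub_add_cancel h2]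
    exact h1
  refine ⟨v ^ (m * j), ?_, ?_⟩
  · refine h.mem_of_pow (n := n) (pow_mem hv _) ?_
    rw [← pow_mul, mul_comm (m * j), ← mul_assoc, pow_mul, pow_mul, hvm, one_pow]
  · refine (hiff _).mp ?_
    have e1 : QuotientGroup.mk' (oddCore X) (v ^ (m * j)) = w := by
      rw [map_pow, hvw]
      have h1 : w ^ (m * j) = w ^ 1 := by
        rw [pow_eq_pow_iff_modEq]
        exact hj.of_dvd (orderOf_dvd_of_pow_eq_one hn')
      rw [h1, pow_one]
    rw [map_mul, map_mul, map_inv, e1]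
    exact hw2

theorem TI.eq_one_of_common (h : TI U) {g e : X} (he : e ∈ U)
    (heg : g⁻¹ * e * g ∈ Subgroup.normalizer (U : Set X))
    (hg : g ∉ Subgroup.normalizer (U : Set X)) : e = 1 := by
  by_contra he1
  obtain ⟨n, hn⟩ := h.two ⟨e, he⟩
  have hn' : e ^ 2 ^ n = 1 := congrArg Subtype.val hn
  -- a minimal exponent
  classical
  have hex : ∃ n : ℕ, e ^ 2 ^ n = 1 := ⟨n, hn'⟩
  set m := Nat.find hex with hm
  have hm1 : e ^ 2 ^ m = 1 := Nat.find_spec hex
  have hm0 : m ≠ 0 := by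
    intro h0
    rw [h0, pow_zero, pow_one] at hm1
    exact he1 hm1
  obtain ⟨l, hl⟩ := Nat.exists_eq_succ_of_ne_zero hm0
  have ht1 : e ^ 2 ^ l ≠ 1 := Nat.find_min hex (by omega)
  have htt : e ^ 2 ^ l * e ^ 2 ^ l = 1 := by
    rw [← pow_add, ← two_mul, ← pow_succ', ← Nat.succ_eq_add_one, ← hl]
    exact hm1
  have hpow : ∀ i : ℕ, g⁻¹ * e ^ i * g = (g⁻¹ * e * g) ^ i := by
    intro i
    have := conj_pow (i := i) (a := g⁻¹) (b := e)
    rw [inv_inv] at this
    exact this.symm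
  refine hg (h.eq_of_common (pow_mem he (2 ^ l)) ht1 htt ?_)
  refine h.mem_of_two ?_ ?_
  · rw [hpow]
    exact pow_mem heg _
  · calc g⁻¹ * e ^ 2 ^ l * g * (g⁻¹ * e ^ 2 ^ l * g) = g⁻¹ * (e ^ 2 ^ l * e ^ 2 ^ l) * g := by group
      _ = 1 := by rw [htt]; group

end Local

/-! ### The situation in `G` -/

/-- `U` is a root subgroup with respect to the odd (or arbitrary) subgroup `A`, `K` the rank one
group generated by it. -/
structure Root {G : Type u} [Group G] (A U K : Subgroup G) : Prop where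
  le : U ≤ K
  comm : ∀ k ∈ K, ∀ a ∈ A, k * a = a * k
  two : IsPGroup 2 U
  syl : ∀ P : Subgroup G, IsPGroup 2 P → (∀ x ∈ P, ∀ a ∈ A, x * a = a * x) → U ≤ P → P ≤ U
  pair : ∃ a ∈ U, ∃ b ∈ U, a * a = 1 ∧ b * b = 1 ∧ a ≠ 1 ∧ b ≠ 1 ∧ a ≠ b
  cent : ∀ u ∈ U, u * u = 1 → ∀ v ∈ U, u * v = v * u
  norm : ∀ u ∈ U, u * u = 1 → u ≠ 1 → ∀ c, c * u = u * c → (∀ a ∈ A, c * a = a * c) →
    ∀ v ∈ U, c * v * c⁻¹ ∈ U
  mv : ∃ k ∈ K, ∃ v ∈ U, k * v * k⁻¹ ∉ U
  gen : K ≤ Subgroup.closure {x | ∃ k ∈ K, ∃ v ∈ U, x = k * v * k⁻¹}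

section Global

variable {G : Type u} [Group G] {A U K : Subgroup G}

theorem mem_cen {x : G} : x ∈ Subgroup.centralizer (A : Set G) ↔ ∀ a ∈ A, x * a = a * x := by
  rw [Subgroup.mem_centralizer_iff]
  exact ⟨fun h a ha => (h a ha).symm, fun h a ha => (h a ha).symm⟩

/-- The centralizer as a group. -/
abbrev Cn (A : Subgroup G) : Subgroup G := Subgroup.centralizer (A : Set G)

theorem Root.le_cen (h : Root A U K) : U ≤ Cn A := fun _ hu => mem_cen.2 (h.comm _ (h.le hu))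

theorem Root.ti (h : Root A U K) : TI (U.subgroupOf (Cn A)) where
  two := h.two.comap_subtype
  syl P hP hUP := by
    rintro x hx
    rw [Subgroup.mem_subgroupOf]
    refine h.syl (P.map (Cn A).subtype) (hP.map _) ?_ ?_ ⟨x, hx, rfl⟩
    · rintro _ ⟨y, -, rfl⟩
      exact mem_cen.1 y.2
    · intro u hu
      exact ⟨⟨u, h.le_cen hu⟩, hUP (Subgroup.mem_subgroupOf.2 hu), rfl⟩
  pair := by
    obtain ⟨a, ha, b, hb, haa, hbb, ha1, hb1, hab⟩ := h.pair
    refine ⟨⟨a, h.le_cen ha⟩, Subgroup.mem_subgroupOf.2 ha, ⟨b, h.le_cen hb⟩,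
      Subgroup.mem_subgroupOf.2 hb, Subtype.ext haa, Subtype.ext hbb,
      fun hc => ha1 (congrArg Subtype.val hc), fun hc => hb1 (congrArg Subtype.val hc),
      fun hc => hab (congrArg Subtype.val hc)⟩
  cent u hu huu v hv := Subtype.ext (h.cent u (Subgroup.mem_subgroupOf.1 hu)
    (congrArg Subtype.val huu) v (Subgroup.mem_subgroupOf.1 hv))
  norm u hu huu hu1 c hc v hv := Subgroup.mem_subgroupOf.2
    (h.norm u (Subgroup.mem_subgroupOf.1 hu) (congrArg Subtype.val huu)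
      (fun h1 => hu1 (Subtype.ext h1)) c (congrArg Subtype.val hc) (mem_cen.1 c.2) v
      (Subgroup.mem_subgroupOf.1 hv))

variable [Finite G]

theorem mem_nrm_iff (hU : U ≤ Cn A) {x : Cn A} :
    x ∈ Subgroup.normalizer ((U.subgroupOf (Cn A) : Subgroup (Cn A)) : Set (Cn A)) ↔
      ∀ v ∈ U, (x : G) * v * (x : G)⁻¹ ∈ U := by
  constructor
  · intro hx v hv
    have := (Subgroup.mem_normalizer_iff.1 hx ⟨v, hU hv⟩).1 (Subgroup.mem_subgroupOf.2 hv)
    exact Subgroup.mem_subgroupOf.1 this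
  · intro hx
    exact mem_normalizer_of fun v hv =>
      Subgroup.mem_subgroupOf.2 (hx v (Subgroup.mem_subgroupOf.1 hv))

/-- `BenderHolds` for all finite groups of the universe. -/
def Bender : Prop := ∀ (Y : Type u) [Group Y] [Finite Y], BenderHolds Y

theorem Root.trans (hB : Bender.{u}) (h : Root A U K) {x k : G} (hxA : ∀ a ∈ A, x * a = a * x)
    (hkA : ∀ a ∈ A, k * a = a * k) (hx : ¬ ∀ v ∈ U, x * v * x⁻¹ ∈ U)
    (hk : ¬ ∀ v ∈ U, k * v * k⁻¹ ∈ U) :
    ∃ u ∈ U, ∀ v ∈ U, (x⁻¹ * (u * k)) * v * (x⁻¹ * (u * k))⁻¹ ∈ U := by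
  obtain ⟨u, hu, hn⟩ := h.ti.trans (hB _) (x := ⟨x, mem_cen.2 hxA⟩) (k := ⟨k, mem_cen.2 hkA⟩)
    (fun hc => hx ((mem_nrm_iff h.le_cen).1 hc)) (fun hc => hk ((mem_nrm_iff h.le_cen).1 hc))
  exact ⟨u, Subgroup.mem_subgroupOf.1 hu, (mem_nrm_iff h.le_cen).1 hn⟩

/-- `K` contains all conjugates of `U` in `C_G(A)`; only `U ≤ K` and `K` moves `U` are used. -/
theorem Root.mem' (hB : Bender.{u}) (h : Root A U K) {K' : Subgroup G} (hUK : U ≤ K')
    (hK' : ∀ k ∈ K', ∀ a ∈ A, k * a = a * k) (hmv : ∃ k ∈ K', ∃ v ∈ U, k * v * k⁻¹ ∉ U)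
    {x : G} (hxA : ∀ a ∈ A, x * a = a * x) {v : G} (hv : v ∈ U) : x * v * x⁻¹ ∈ K' := by
  by_cases hx : ∀ v ∈ U, x * v * x⁻¹ ∈ U
  · exact hUK (hx v hv)
  · obtain ⟨k, hk, w, hw, hkw⟩ := hmv
    obtain ⟨u, hu, hn⟩ := h.trans hB hxA (hK' k hk) hx (fun hc => hkw (hc w hw))
    -- `x = u k n⁻¹`
    set n := x⁻¹ * (u * k) with hn'
    have hfin : ∃ v' ∈ U, n * v' * n⁻¹ = v := by
      have h1 : n ∈ Subgroup.normalizer (U : Set G) := mem_normalizer_of hn
      have h2 := inv_mem h1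
      rw [Subgroup.mem_normalizer_iff] at h2
      refine ⟨n⁻¹ * v * n, ?_, by group⟩
      have := (h2 v).1 hv
      rwa [inv_inv] at this
    obtain ⟨v', hv', hvv⟩ := hfin
    have e : x * v * x⁻¹ = (u * k) * v' * (u * k)⁻¹ := by
      rw [← hvv, hn']
      group
    rw [e]
    have huk := mul_mem (hUK hu) hk
    exact mul_mem (mul_mem huk (hUK hv')) (inv_mem huk)

theorem Root.mem (hB : Bender.{u}) (h : Root A U K) {x : G} (hxA : ∀ a ∈ A, x * a = a * x)
    {v : G} (hv : v ∈ U) : x * v * x⁻¹ ∈ K :=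
  h.mem' hB h.le h.comm h.mv hxA hv

/-- Uniqueness of the rank one group. -/
theorem Root.eq (hB : Bender.{u}) {K' : Subgroup G} (h : Root A U K) (h' : Root A U K') :
    K = K' := by
  apply le_antisymm
  · refine h.gen.trans ?_
    rw [Subgroup.closure_le]
    rintro _ ⟨k, hk, v, hv, rfl⟩
    exact h'.mem hB (h.comm k hk) hv
  · refine h'.gen.trans ?_
    rw [Subgroup.closure_le]
    rintro _ ⟨k, hk, v, hv, rfl⟩
    exact h.mem hB (h'.comm k hk) hv

/-- A `2`-subgroup of `C_G(A)` has a conjugate in `U`. -/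
theorem Root.exists_conj (h : Root A U K) {V : Subgroup G} (hV : IsPGroup 2 V)
    (hVA : ∀ v ∈ V, ∀ a ∈ A, v * a = a * v) :
    ∃ c : G, (∀ a ∈ A, c * a = a * c) ∧ ∀ v ∈ V, c * v * c⁻¹ ∈ U := by
  obtain ⟨S, hS⟩ : ∃ S : Sylow 2 (Cn A), (S : Subgroup (Cn A)) = U.subgroupOf (Cn A) := by
    obtain ⟨S, hS⟩ := h.ti.two.exists_le_sylow
    exact ⟨S, le_antisymm (h.ti.syl _ S.isPGroup' hS) hS⟩
  have hle : V ≤ Cn A := fun v hv => mem_cen.2 (hVA v hv)
  have hp : IsPGroup 2 (V.subgroupOf (Cn A)) := hV.comap_subtype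
  obtain ⟨T, hT⟩ := hp.exists_le_sylow
  obtain ⟨g, hg⟩ := MulAction.exists_smul_eq (Cn A) T S
  refine ⟨g, mem_cen.1 g.2, fun v hv => ?_⟩
  have h1 : (⟨v, hle hv⟩ : Cn A) ∈ T := hT (Subgroup.mem_subgroupOf.2 hv)
  have h2 : g * (⟨v, hle hv⟩ : Cn A) * g⁻¹ ∈ (S : Subgroup (Cn A)) := by
    rw [← hg]
    exact Subgroup.smul_mem_pointwise_smul _ (MulAut.conj g) _ h1
  rw [hS] at h2
  exact Subgroup.mem_subgroupOf.1 h2

/-- `K` contains every `2`-subgroup of `C_G(A)`. -/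
theorem Root.le_of_two (hB : Bender.{u}) (h : Root A U K) {V : Subgroup G} (hV : IsPGroup 2 V)
    (hVA : ∀ v ∈ V, ∀ a ∈ A, v * a = a * v) : V ≤ K := by
  obtain ⟨c, hcA, hc⟩ := h.exists_conj hV hVA
  intro v hv
  have h2 : ∀ a ∈ A, c⁻¹ * a = a * c⁻¹ := by
    intro a ha
    have := hcA a ha
    calc c⁻¹ * a = c⁻¹ * (a * c) * c⁻¹ := by group
      _ = c⁻¹ * (c * a) * c⁻¹ := by rw [this]
      _ = a * c⁻¹ := by group
  have h3 := h.mem hB h2 (hc v hv)
  have e : c⁻¹ * (c * v * c⁻¹) * c⁻¹⁻¹ = v := by group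
  rwa [e] at h3

/-- Uniqueness of the rank one group, two different root subgroups (e.g. the root subgroups of
`x_k` and `x_{k+m}`). -/
theorem Root.eq' (hB : Bender.{u}) {U' K' : Subgroup G} (h : Root A U K) (h' : Root A U' K') :
    K = K' := by
  have aux : ∀ {U U' K K' : Subgroup G}, Root A U K → Root A U' K' → K' ≤ K := by
    intro U U' K K' h h'
    refine h'.gen.trans ?_
    rw [Subgroup.closure_le]
    rintro _ ⟨k, hk, v, hv, rfl⟩
    have hVA : ∀ w ∈ U'.map (MulAut.conj k).toMonoidHom, ∀ a ∈ A, w * a = a * w := by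
      rintro _ ⟨w, hw, rfl⟩
      exact h'.comm _ (mul_mem (mul_mem hk (h'.le hw)) (inv_mem hk))
    exact h.le_of_two hB (h'.two.map _) hVA ⟨v, hv, rfl⟩
  exact le_antisymm (aux h' h) (aux h h')

/-- `K` is generated by all `2`-elements (all `2`-subgroups) of `C_G(A)`. -/
theorem Root.eq_closure (hB : Bender.{u}) (h : Root A U K) :
    K = Subgroup.closure {x | (∀ a ∈ A, x * a = a * x) ∧ ∃ n, x ^ 2 ^ n = 1} := by
  apply le_antisymm
  · refine h.gen.trans ?_
    rw [Subgroup.closure_le]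
    rintro _ ⟨k, hk, v, hv, rfl⟩
    refine Subgroup.subset_closure ⟨h.comm _ (mul_mem (mul_mem hk (h.le hv)) (inv_mem hk)), ?_⟩
    obtain ⟨n, hn⟩ := h.two ⟨v, hv⟩
    have hn' : v ^ 2 ^ n = 1 := congrArg Subtype.val hn
    exact ⟨n, by rw [conj_pow, hn', mul_one, mul_inv_cancel]⟩
  · rw [Subgroup.closure_le]
    rintro x ⟨hx, n, hn⟩
    refine h.le_of_two hB (isPGroup_zpowers_of_pow hn) ?_ (Subgroup.mem_zpowers x)
    rintro _ ⟨k, rfl⟩ a ha
    exact (Commute.zpow_left (show Commute x a from hx a ha) k)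

/-- **Root lemma**: `N_G(A) ≤ N_G(K)`. -/
theorem Root.conj_mem (hB : Bender.{u}) (h : Root A U K) {y : G} (hy : ∀ a ∈ A, y * a * y⁻¹ ∈ A)
    {k : G} (hk : k ∈ K) : y * k * y⁻¹ ∈ K := by
  -- `y⁻¹` normalises `A` as well
  have hyN : y ∈ Subgroup.normalizer (A : Set G) := mem_normalizer_of hy
  have hcen : ∀ c : G, (∀ a ∈ A, c * a = a * c) → ∀ a ∈ A, (y * c * y⁻¹) * a = a * (y * c * y⁻¹) := by
    intro c hc a ha
    have h1 : y⁻¹ * a * y ∈ A := by
      have h2 := inv_mem hyN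
      rw [Subgroup.mem_normalizer_iff] at h2
      have := (h2 a).1 ha
      rwa [inv_inv] at this
    have h3 := hc _ h1
    calc (y * c * y⁻¹) * a = y * (c * (y⁻¹ * a * y)) * y⁻¹ := by group
      _ = y * ((y⁻¹ * a * y) * c) * y⁻¹ := by rw [h3]
      _ = a * (y * c * y⁻¹) := by group
  -- a conjugate of `yUy⁻¹` in the centralizer lies in `U`
  obtain ⟨c, hcA, hc⟩ : ∃ c : G, (∀ a ∈ A, c * a = a * c) ∧
      ∀ v ∈ U, c * (y * v * y⁻¹) * c⁻¹ ∈ U := by
    obtain ⟨S, hS⟩ : ∃ S : Sylow 2 (Cn A), (S : Subgroup (Cn A)) = U.subgroupOf (Cn A) := by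
      obtain ⟨S, hS⟩ := h.ti.two.exists_le_sylow
      exact ⟨S, le_antisymm (h.ti.syl _ S.isPGroup' hS) hS⟩
    have hle : U.map (MulAut.conj y).toMonoidHom ≤ Cn A := by
      rintro _ ⟨v, hv, rfl⟩
      exact mem_cen.2 (hcen v (h.comm v (h.le hv)))
    have hp : IsPGroup 2 ((U.map (MulAut.conj y).toMonoidHom).subgroupOf (Cn A)) :=
      (h.two.map _).comap_subtype
    obtain ⟨T, hT⟩ := hp.exists_le_sylow
    obtain ⟨g, hg⟩ := MulAction.exists_smul_eq (Cn A) T S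
    refine ⟨g, mem_cen.1 g.2, fun v hv => ?_⟩
    have h1 : (⟨y * v * y⁻¹, hle ⟨v, hv, rfl⟩⟩ : Cn A) ∈ T :=
      hT (Subgroup.mem_subgroupOf.2 ⟨v, hv, rfl⟩)
    have h2 : g * (⟨y * v * y⁻¹, hle ⟨v, hv, rfl⟩⟩ : Cn A) * g⁻¹ ∈ (S : Subgroup (Cn A)) := by
      rw [← hg]
      exact Subgroup.smul_mem_pointwise_smul _ (MulAut.conj g) _ h1
    rw [hS] at h2
    exact Subgroup.mem_subgroupOf.1 h2
  have hgenk := h.gen hk
  have hmap : K ≤ Subgroup.comap (MulAut.conj y).toMonoidHom K := by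
    refine h.gen.trans ?_
    rw [Subgroup.closure_le]
    rintro _ ⟨k, hk, v, hv, rfl⟩
    show y * (k * v * k⁻¹) * y⁻¹ ∈ K
    have e : y * (k * v * k⁻¹) * y⁻¹ =
        ((y * k * y⁻¹) * c⁻¹) * (c * (y * v * y⁻¹) * c⁻¹) * ((y * k * y⁻¹) * c⁻¹)⁻¹ := by group
    rw [e]
    refine h.mem hB (fun a ha => ?_) (hc v hv)
    have h1 := hcen k (h.comm k hk) a ha
    have h2 : c⁻¹ * a = a * c⁻¹ := by
      have := hcA a ha
      calc c⁻¹ * a = c⁻¹ * (a * c) * c⁻¹ := by group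
        _ = c⁻¹ * (c * a) * c⁻¹ := by rw [this]
        _ = a * c⁻¹ := by group
    rw [mul_assoc, h2, ← mul_assoc, h1, mul_assoc]
  exact hmap hk

/-- An element normalising `K`, centralising `U` and normalising another conjugate of `U` in `K`
centralises `K`. -/
theorem Root.commute (hB : Bender.{u}) (h : Root A U K) {y : G}
    (hyK : ∀ k ∈ K, y * k * y⁻¹ ∈ K) (hyU : ∀ v ∈ U, y * v = v * y) {k₀ : G} (hk₀ : k₀ ∈ K)
    (hmv : ¬ ∀ v ∈ U, k₀ * v * k₀⁻¹ ∈ U)
    (hy₀ : ∀ v ∈ U, (k₀⁻¹ * y * k₀) * v * (k₀⁻¹ * y * k₀)⁻¹ ∈ U) : ∀ k ∈ K, y * k = k * y := by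
  set N := Subgroup.normalizer (U : Set G) with hN
  have hof : ∀ {c : G}, (∀ v ∈ U, c * v * c⁻¹ ∈ U) → c ∈ N := fun hc => mem_normalizer_of hc
  have hto : ∀ {c : G}, c ∈ N → ∀ v ∈ U, c * v * c⁻¹ ∈ U := fun hc v hv =>
    (Subgroup.mem_normalizer_iff.1 hc v).1 hv
  have hyN : y ∈ N := hof fun v hv => by rw [hyU v hv, mul_assoc, mul_inv_cancel, mul_one]; exact hv
  -- `y` normalises every conjugate of `U` in `K`
  have hfix : ∀ g ∈ K, g⁻¹ * y * g ∈ N := by
    intro g hg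
    by_cases hgN : g ∈ N
    · exact mul_mem (mul_mem (inv_mem hgN) hyN) hgN
    · obtain ⟨u, hu, hn⟩ := h.trans hB (h.comm g hg) (h.comm k₀ hk₀) (fun hc => hgN (hof hc)) hmv
      set n := g⁻¹ * (u * k₀) with hn'
      have hnN : n ∈ N := hof hn
      have e : g⁻¹ * y * g = n * (k₀⁻¹ * y * k₀) * n⁻¹ := by
        have e1 : g = u * k₀ * n⁻¹ := by rw [hn']; group
        have e2 : u⁻¹ * y * u = y := by
          rw [mul_assoc, hyU u hu, ← mul_assoc, inv_mul_cancel, one_mul]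
        calc g⁻¹ * y * g = (u * k₀ * n⁻¹)⁻¹ * y * (u * k₀ * n⁻¹) := by rw [← e1]
          _ = n * (k₀⁻¹ * (u⁻¹ * y * u) * k₀) * n⁻¹ := by group
          _ = _ := by rw [e2]
      rw [e]
      exact mul_mem (mul_mem hnN (hof hy₀)) (inv_mem hnN)
  -- `y` centralises the generators
  have hgen : ∀ k ∈ K, ∀ v ∈ U, y * (k * v * k⁻¹) * y⁻¹ = k * v * k⁻¹ := by
    intro k hk v hv
    set d := k⁻¹ * (y * k * y⁻¹) with hd
    have hdK : d ∈ K := mul_mem (inv_mem hk) (hyK k hk)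
    have hdfix : ∀ g ∈ K, g⁻¹ * d * g ∈ N := by
      intro g hg
      have e : g⁻¹ * d * g = ((k * g)⁻¹ * y * (k * g)) * (g⁻¹ * y * g)⁻¹ := by
        rw [hd]; group
      rw [e]
      exact mul_mem (hfix _ (mul_mem hk hg)) (inv_mem (hfix g hg))
    have hdN : d ∈ N := by
      have := hdfix 1 (one_mem _)
      simpa using this
    -- the commutator `e` of `d` and `v`
    set e := d * v * d⁻¹ * v⁻¹ with he
    have heU : e ∈ U := mul_mem (hto hdN v hv) (inv_mem hv)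
    have he0 : k₀⁻¹ * e * k₀ ∈ N := by
      have e1 : k₀⁻¹ * e * k₀ = (k₀⁻¹ * d * k₀) * ((v⁻¹ * k₀)⁻¹ * d * (v⁻¹ * k₀))⁻¹ := by
        rw [he]; group
      rw [e1]
      exact mul_mem (hdfix _ hk₀) (inv_mem (hdfix _ (mul_mem (inv_mem (h.le hv)) hk₀)))
    have he1 : e = 1 := by
      have hkA := h.comm k₀ hk₀
      have := h.ti.eq_one_of_common (g := ⟨k₀, mem_cen.2 hkA⟩) (e := ⟨e, h.le_cen heU⟩)
        (Subgroup.mem_subgroupOf.2 heU) ((mem_nrm_iff h.le_cen).2 (hto he0))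
        (fun hc => hmv ((mem_nrm_iff h.le_cen).1 hc))
      exact congrArg Subtype.val this
    have hdv : d * v * d⁻¹ = v := by
      rw [he] at he1
      exact mul_inv_eq_one.1 he1
    have e2 : y * k * y⁻¹ = k * d := by rw [hd]; group
    have e3 : y * v * y⁻¹ = v := by rw [hyU v hv, mul_assoc, mul_inv_cancel, mul_one]
    calc y * (k * v * k⁻¹) * y⁻¹ = (y * k * y⁻¹) * (y * v * y⁻¹) * (y * k * y⁻¹)⁻¹ := by group
      _ = (k * d) * v * (k * d)⁻¹ := by rw [e2, e3]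
      _ = k * (d * v * d⁻¹) * k⁻¹ := by group
      _ = k * v * k⁻¹ := by rw [hdv]
  have hle : K ≤ Subgroup.centralizer {y} := by
    refine h.gen.trans ?_
    rw [Subgroup.closure_le]
    rintro _ ⟨k, hk, v, hv, rfl⟩
    rw [SetLike.mem_coe, Subgroup.mem_centralizer_singleton_iff]
    have := hgen k hk v hv
    rw [mul_inv_eq_iff_eq_mul] at this
    exact this.symm
  intro k hk
  exact (Subgroup.mem_centralizer_singleton_iff.1 (hle hk)).symm

/-- Torus form: `y` normalises `A`, centralises `U`, and commutes with an element `s ∈ N_K(U)` such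
that `U` and `k₀Uk₀⁻¹` are the only conjugates of `U` in `K` normalised by `s`. -/
theorem Root.commute_of_torus (hB : Bender.{u}) (h : Root A U K) {y : G}
    (hy : ∀ a ∈ A, y * a * y⁻¹ ∈ A) (hyU : ∀ v ∈ U, y * v = v * y) {T : Set G}
    (hyT : ∀ s ∈ T, y * s = s * y) {k₀ : G} (hk₀ : k₀ ∈ K)
    (hmv : ¬ ∀ v ∈ U, k₀ * v * k₀⁻¹ ∈ U) (hT₀ : ∀ s ∈ T, ∀ v ∈ U,
      (k₀⁻¹ * s * k₀) * v * (k₀⁻¹ * s * k₀)⁻¹ ∈ U)
    (huniq : ∀ g ∈ K, (∀ s ∈ T, ∀ v ∈ U, (g⁻¹ * s * g) * v * (g⁻¹ * s * g)⁻¹ ∈ U) →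
      (∀ v ∈ U, g * v * g⁻¹ ∈ U) ∨ ∀ v ∈ U, (k₀⁻¹ * g) * v * (k₀⁻¹ * g)⁻¹ ∈ U) :
    ∀ k ∈ K, y * k = k * y := by
  have hyK : ∀ k ∈ K, y * k * y⁻¹ ∈ K := fun k hk => h.conj_mem hB hy hk
  refine h.commute hB hyK hyU hk₀ hmv ?_
  set N := Subgroup.normalizer (U : Set G) with hN
  have hof : ∀ {c : G}, (∀ v ∈ U, c * v * c⁻¹ ∈ U) → c ∈ N := fun hc => mem_normalizer_of hc
  have hto : ∀ {c : G}, c ∈ N → ∀ v ∈ U, c * v * c⁻¹ ∈ U := fun hc v hv =>
    (Subgroup.mem_normalizer_iff.1 hc v).1 hv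
  have hyN : y ∈ N := hof fun v hv => by rw [hyU v hv, mul_assoc, mul_inv_cancel, mul_one]; exact hv
  -- `g = y k₀ y⁻¹`
  have h1 := huniq (y * k₀ * y⁻¹) (hyK k₀ hk₀) ?_
  · rcases h1 with h1 | h1
    · exfalso
      apply hmv
      have h2 : y * k₀ * y⁻¹ ∈ N := hof h1
      have h3 : k₀ = y⁻¹ * (y * k₀ * y⁻¹) * y := by group
      have h4 : k₀ ∈ N := by
        rw [h3]
        exact mul_mem (mul_mem (inv_mem hyN) h2) hyN
      exact hto h4
    · have h2 : k₀⁻¹ * (y * k₀ * y⁻¹) ∈ N := hof h1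
      have h3 : k₀⁻¹ * y * k₀ = k₀⁻¹ * (y * k₀ * y⁻¹) * y := by group
      rw [h3]
      exact hto (mul_mem h2 hyN)
  · intro s hs
    have h2 : (y * k₀ * y⁻¹)⁻¹ * s * (y * k₀ * y⁻¹) = y * (k₀⁻¹ * s * k₀) * y⁻¹ := by
      have h3 : y⁻¹ * s * y = s := by
        rw [mul_assoc, ← hyT s hs, ← mul_assoc, inv_mul_cancel, one_mul]
      calc (y * k₀ * y⁻¹)⁻¹ * s * (y * k₀ * y⁻¹) = y * (k₀⁻¹ * (y⁻¹ * s * y) * k₀) * y⁻¹ := by group
        _ = _ := by rw [h3]
    rw [h2]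
    exact hto (mul_mem (mul_mem hyN (hof (hT₀ s hs))) (inv_mem hyN))

end Global

end Cfsg.Agent.Omega.RootLemma

end
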