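import Cfsg.Agent.Mrg.Omega.IId.Fin
import Cfsg.Agent.Mrg.Omega.IId.SwB.Main
import Cfsg.Agent.Mrg.Omega.IId.BigD.Ccd
import Cfsg.Agent.Mrg.Omega.HOne.CutT
import Cfsg.Agent.Mrg.Omega.IId.CvBig.UsTwo
import Cfsg.Agent.Mrg.Omega.IId.CvBig.US4
import Cfsg.Agent.Mrg.Omega.IId.CvBig.IdU
import Cfsg.Agent.Mrg.Omega.IId.CvBig.NormBig
import Cfsg.Agent.Mrg.Omega.IId.CvBig.FourDone
import Cfsg.Agent.Mrg.Omega.IId.CvBig.MixDrive
import Cfsg.Agent.Mrg.Omega.IId.CvBig.U2End
import Cfsg.Agent.Mrg.Omega.IId.CvNS.Cvn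
import Cfsg.Agent.Mrg.Omega.IId.SwCv.SylHatFin
import Cfsg.Agent.Mrg.Omega.HOne.StFour
import Cfsg.Agent.Mrg.Omega.HOne.Final
import Cfsg.Agent.Mrg.Omega.F4Leaf.Syl.Plug
import Cfsg.Agent.Mrg.Omega.F4Leaf.Syl.Mix
import Cfsg.Agent.Mrg.Omega.FFBr.Final
import Cfsg.Agent.Mrg.Omega.FrameI
import Cfsg.Agent.Lib.NormalAbelian

section


/-!
# OMEGA: the leaves II.0h1, II.b' (LeafF4) and II.d (`leafSymWr`, `leafWr`)
-/

set_option autoImplicit false

namespace Cfsg.Agent.Omega.OpenD

open Cfsg Cfsg.Agent.Omega.Frame Cfsg.Agent.Omega.FrameMulti Cfsg.Agent.Omega.IId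

universe u

/-- **II.0h1** (assemblers: helper811, helper337, helper400). -/
theorem leafH1 {K : Cls.{u}} (h40 : Outputs.St1740.{u}) : FrameFF.LeafH1 K :=
  HOne.Final.leafH1_of FFBr.ffthm h40 (HOne.StFour.stFour_of K)

/-- The exit into II.0h1, `q = 2`. -/
theorem posExit : F4Leaf.Cen.Main.PosExit.{u} :=
  fun _ _ _ hG _ hF hI _ _ _ _ _ _ _ p => HOne.Final.known_of_pos FFBr.ffthm hG hF hI p

/-- **II.b'** (assembler: helper816). -/
theorem leafF4 (K : Cls.{u}) : LeafF4 K :=
  F4Leaf.Syl.Plug.leaf_of_end posExit (F4Leaf.Syl.EndCPure.endNat_of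
    fun _ _ _ hG _ _ _ _ _ _ _ hm hl hN hc _ _ hij hb => F4Leaf.Syl.Mix.natBoth hG hl hm hN (Or.inl hc) hij hb)

/-- Two members of type `S_{2^m+1}`, `S_{2^m'+1}`, not free. -/
theorem ttPair (K : Cls.{u}) : Cv.TTPair K :=
  fun G _ _ hG _ S hF hI hT P₁ P₂ x hm hnf m m' h h' hS hS' =>
    F4Leaf.Syl.Plug.tt_known posExit G hG S hF hI hT P₁ P₂ x hm hnf m m' h h' hS hS'

/-! ### II.d (assembler: helper36) -/

/-- `BigIn K` : more than two factors, `cv S P ≠ ⊥` (helper958: `CvBig/Cut.lean`). -/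
theorem big (K : Cls.{u}) : Cv.BigIn K where
  mix := Cv.bigMix_of NV.big2A4P K
  a2 := Cv.big2A2 K
  a4 := Cv.big2A4 K
  u2 := Cv.bigU2 K
  u4 := Cv.bigU4_of ChainPlug.chainT CvBig.IdU.idU Cv.nmBig
  us2 := Cv.bigUS2 HTwo.TSMain.ts0 HTwo.Seven.three0 HOneTwo.Trans.more0 HOneEnd.endL
  us4 := Cv.bigUS4_of ChainPlug.chainT HOneEnd.endL Cv.nmBig
  one2 := CvBig.bigOne2 HTwo.TSMain.ts0 HTwo.Seven.three0 HOneTwo.Trans.more0 HOneEnd.endL
  one4 := CvBig.bigOne4 ChainPlug.chainT HOneEnd.endL

/-- **`SwCv`** (helper79, helper774, helper916, helper48 and others). -/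
theorem swCv (K : Cls.{u}) : SwCv K :=
  SwCvC.swCv posExit (ttPair K) (SwCvC.natUn_of posExit (Cv.cvOneA2 K) (Cv.cvTwoA K) (cvTwoB K) (big K))
    (SwCvC.freeFour_of (wrTwo K) (wrBig_of (wrBigTwo K) (wrBigFour K)) TriFalse.wrTri (wrMain4N K))

theorem symNat (K : Cls.{u}) : Cv.CvSymNat K :=
  Cv.cvSymNat_of_unM (Cv.cvOneA2 K) (cvOneA4 K) (Cv.cvTwoA K) (cvTwoB K) (ttPair K)
    fun _ _ _ _ hH _ _ _ _ _ _ _ _ M i hk _ hD hu => Cv.unM_big (big K) hH M hk (CvBig.hC_all M) i hD hu

/-- **II.d, symmetric types.** -/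
theorem leafSymWr (K : Cls.{u}) : LeafSymWr K :=
  IId.leafSymWr (swCv K) (SwB.swBig K) SwN.swNat0 (LFour.swTwo K) (LFour.swOne K)

theorem cv (K : Cls.{u}) : Cv.WrCvN K :=
  Cv.wrCvN_of' (Cv.cvSym_of (leafSymWr K) (Cv.cvSymOne_of (symNat K))) CvNS.Plug.cvNonsplit
    (Cv.cvBigN_of CvBig.thmCD (big K) (Cv.cvOneA2 K) (cvOneA4 K) (Cv.cvTwoA K) (cvTwoB K)) (Cv.cvLine K) (Cv.cvMix K)
    (Cv.cvOneA2 K) (cvOneA4 K) (Cv.cvTwoA K) (cvTwoB K) (cvOne K)

/-- **II.d, natural types.** -/
theorem leafWr (K : Cls.{u}) : LeafWr K :=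
  Cv.leafWrN (cv K) (Sym.wrSym_of' (leafSymWr K) SymMany.wrSymBig Pf.Main.noOne) (wrTwo K)
    (wrBig_of (wrBigTwo K) (wrBigFour K)) TriFalse.wrTri (wrMain2 Pf.Main.noOne) (wrMain4N K)

end Cfsg.Agent.Omega.OpenD

end

section


/-!
# `LeafOne`: `O₂(C_G(z))` extraspecial of order 8 does not occur in `Ctx G`

A Sylow 2-subgroup `T` of `C_G(z)` has centre `⟨z⟩`, so it is a Sylow 2-subgroup of `G`; it acts
faithfully modulo `⟨z⟩` on `Q` of order 8, so `|T| ≤ 16`, but `32 ∣ |G|`.
-/

set_option autoImplicit false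

namespace Cfsg.Agent.Omega.LeafOne

open Subgroup Cfsg Cfsg.Agent.ZN Cfsg.Agent.Omega.Frame Cfsg.Agent.Omega.Exits Cfsg.Agent.Omega.FrameExtra

universe u

section abstract_part

variable {H : Type*} [Group H] [Finite H]

/-- an element of `P - N` central in `S` modulo `N` -/
theorem exists_central_mod {S P N : Subgroup H} (hS : IsPGroup 2 S) (hPS : P ≤ S)
    (hn : ∀ s ∈ S, ∀ p ∈ P, s * p * s⁻¹ ∈ P) (hNP : N ≤ P) (hN : ∀ s ∈ S, ∀ p ∈ N, s * p * s⁻¹ ∈ N)
    {y : H} (hy : y ∈ P) (hyN : y ∉ N) :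
    ∃ u ∈ P, u ∉ N ∧ ∀ s ∈ S, u⁻¹ * (s * u * s⁻¹) ∈ N := by
  have : Fact (Nat.Prime 2) := ⟨Nat.prime_two⟩
  have hNS : N ≤ S := hNP.trans hPS
  let Z : Subgroup S := N.subgroupOf S
  have hZn : Z.Normal := by
    refine ⟨fun x hx g => ?_⟩
    rw [mem_subgroupOf] at hx ⊢
    exact hN g g.2 x hx
  have : (P.subgroupOf S).Normal := by
    refine ⟨fun x hx g => ?_⟩
    rw [mem_subgroupOf] at hx ⊢
    exact hn g g.2 x hx
  let π : S →* (S ⧸ Z) := QuotientGroup.mk' Z
  have hπs : Function.Surjective π := QuotientGroup.mk'_surjective Z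
  have hNor : ((P.subgroupOf S).map π).Normal := Subgroup.Normal.map inferInstance π hπs
  have hpi1 : ∀ x : S, π x = 1 ↔ (x : H) ∈ N := fun x => by
    show (QuotientGroup.mk' Z) x = 1 ↔ _
    rw [← MonoidHom.mem_ker, QuotientGroup.ker_mk', mem_subgroupOf]
  have hne : (P.subgroupOf S).map π ≠ ⊥ := by
    intro hb
    have h1 : π ⟨y, hPS hy⟩ ∈ (P.subgroupOf S).map π := mem_map_of_mem _ (by rw [mem_subgroupOf]; exact hy)
    rw [hb, mem_bot, hpi1] at h1
    exact hyN h1
  have hp : IsPGroup 2 (S ⧸ Z) := hS.to_quotient Z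
  have : Group.IsNilpotent (S ⧸ Z) := hp.isNilpotent
  have h1 := Cfsg.Agent.Lib.NormalAbelian.normal_inf_center_ne_bot ((P.subgroupOf S).map π) hne
  rw [Ne, Subgroup.eq_bot_iff_forall] at h1
  push Not at h1
  obtain ⟨w, hx, hj1⟩ := h1
  obtain ⟨⟨u, huP, hu⟩, hwc⟩ := hx
  have hwc' : ∀ g, g * w = w * g := mem_center_iff.1 hwc
  refine ⟨u, by simpa [mem_subgroupOf] using huP, ?_, ?_⟩
  · intro h
    apply hj1
    rw [← hu, hpi1]
    exact h
  · intro s hs
    have h3 : π (u⁻¹ * (⟨s, hs⟩ * u * ⟨s, hs⟩⁻¹) : S) = 1 := by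
      rw [map_mul, map_mul, map_mul, map_inv, map_inv, hu, hwc']
      group
    rw [hpi1] at h3
    simpa using h3

/-- A subgroup of order at most 7 of 2-power order is commutative. -/
theorem comm_of_card {P : Subgroup H} {k : ℕ} (hP : Nat.card P = 2 ^ k) (hk : k ≤ 2) :
    ∀ x ∈ P, ∀ y ∈ P, x * y = y * x := by
  have : Fact (Nat.Prime 2) := ⟨Nat.prime_two⟩
  intro x hx y hy
  have h3 : ∀ a b : P, a * b = b * a := by
    interval_cases k
    · have h1 : Subsingleton P := by
        rw [pow_zero] at hP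
        exact (Nat.card_eq_one_iff_unique.1 hP).1
      intro a b
      exact Subsingleton.elim _ _
    · have h1 : IsCyclic P := isCyclic_of_prime_card (p := 2) (by rw [hP, pow_one])
      intro a b
      let := IsCyclic.commGroup (α := P)
      exact mul_comm a b
    · intro a b
      exact IsPGroup.commutative_of_card_eq_prime_sq hP a b
  exact congrArg Subtype.val (h3 ⟨x, hx⟩ ⟨y, hy⟩)

/-- A 2-group `T` containing and normalising `Q` of order 8, `Q` not abelian, `C_T(Q) ≤ ⟨z⟩ = Z(Q)`. -/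
theorem card_le_sixteen {Q T : Subgroup H} {z : H} (h8 : Nat.card Q = 8) (hz : z ∈ Q) (hzz : z * z = 1)
    (hzQ : ∀ t, t * z = z * t) (hna : ∃ a ∈ Q, ∃ b ∈ Q, a * b ≠ b * a) (hT : IsPGroup 2 T) (hQT : Q ≤ T)
    (hn : ∀ t ∈ T, ∀ q ∈ Q, t * q * t⁻¹ ∈ Q)
    (hcent : ∀ t, (∀ q ∈ Q, t * q = q * t) → t = 1 ∨ t = z) : Nat.card T ≤ 16 := by
  classical
  have : Fact (Nat.Prime 2) := ⟨Nat.prime_two⟩
  have hzm : ∀ x : H, x ∈ zpowers z ↔ x = 1 ∨ x = z := by
    intro x
    constructor
    · rintro ⟨n, rfl⟩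
      rcases Int.even_or_odd' n with ⟨m, rfl | rfl⟩
      · left
        show z ^ (2 * m) = 1
        rw [zpow_mul, zpow_two, hzz, one_zpow]
      · right
        show z ^ (2 * m + 1) = z
        rw [zpow_add, zpow_mul, zpow_two, hzz, one_zpow, one_mul, zpow_one]
    · intro h
      rcases h with h | h
      · rw [h]; exact one_mem _
      · rw [h]; exact mem_zpowers z
  -- a noncentral element of `Q` with `[a, T] ≤ ⟨z⟩`
  obtain ⟨a0, ha0, b0, hb0, h0⟩ := hna
  have ha0z : a0 ∉ zpowers z := by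
    intro h
    rcases (hzm a0).1 h with h1 | h1
    · rw [h1, one_mul, mul_one] at h0
      exact h0 rfl
    · rw [h1] at h0
      exact h0 (hzQ b0).symm
  obtain ⟨a, haQ, haz, ha⟩ := exists_central_mod (N := zpowers z) hT hQT hn (by rwa [zpowers_le])
    (by
      intro s _ p hp
      have h1 : s * p * s⁻¹ = p := by
        rcases (hzm p).1 hp with h2 | h2
        · rw [h2]; group
        · rw [h2, hzQ s]; group
      rw [h1]; exact hp) ha0 ha0z
  -- `b` in `Q` not commuting with `a`
  obtain ⟨b, hbQ, hab⟩ : ∃ b ∈ Q, a * b ≠ b * a := by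
    by_contra hcon
    push Not at hcon
    exact haz ((hzm a).2 (hcent a hcon))
  -- `Q` is generated by `a` and `b`
  have hgen : ∀ t : H, t * a = a * t → t * b = b * t → ∀ q ∈ Q, t * q = q * t := by
    intro t hta htb q hq
    have h1 : closure {a, b} ≤ Q := by
      rw [closure_le]
      rintro x (rfl | rfl)
      · exact haQ
      · exact hbQ
    have h2 : closure {a, b} = Q := by
      apply Subgroup.eq_of_le_of_card_ge h1
      by_contra hlt
      push Not at hlt
      have h3 : Nat.card (closure {a, b}) ∣ 2 ^ 3 := by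
        have h4 := Subgroup.card_dvd_of_le h1
        rw [h8] at h4
        exact h4
      obtain ⟨k, hk3, hk⟩ := (Nat.dvd_prime_pow Nat.prime_two).1 h3
      have hk2 : k ≤ 2 := by
        by_contra hk4
        have : k = 3 := by omega
        rw [hk, this, h8] at hlt
        omega
      exact hab (comm_of_card hk hk2 a (subset_closure (Or.inl rfl)) b (subset_closure (Or.inr rfl)))
    rw [← h2] at hq
    have h3 : closure {a, b} ≤ centralizer ({t} : Set H) := by
      rw [closure_le]
      rintro x (rfl | rfl)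
      · exact mem_centralizer_singleton_iff.2 hta.symm
      · exact mem_centralizer_singleton_iff.2 htb.symm
    exact (mem_centralizer_singleton_iff.1 (h3 hq)).symm
  -- the centraliser of `a` in `Q` has order at least 4
  let A : Subgroup H := Q ⊓ centralizer ({a} : Set H)
  have hA4 : 4 ≤ Nat.card A := by
    have h1 : IsPGroup 2 A := (hT.to_le hQT).to_le inf_le_left
    obtain ⟨k, hk⟩ := IsPGroup.iff_card.1 h1
    have h2 : 3 ≤ Nat.card A := by
      have h3 : ({1, z, a} : Finset H).card = 3 := by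
        have e1 : (1 : H) ≠ z := by
          intro h
          apply hab
          rcases hcent 1 (fun q _ => by rw [one_mul, mul_one]) with _ | _
          all_goals
            have h5 : ∀ t : H, (∀ q ∈ Q, t * q = q * t) → t = 1 := by
              intro t ht
              rcases hcent t ht with h6 | h6
              · exact h6
              · rw [h6, ← h]
            exfalso
            have h6 : IsPGroup 2 Q := hT.to_le hQT
            have h7 : Nontrivial Q := by
              rw [← Finite.one_lt_card_iff_nontrivial, h8]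
              norm_num
            have h8' := h6.center_nontrivial
            obtain ⟨⟨c, hc⟩, hc1⟩ := exists_ne (1 : center Q)
            apply hc1
            apply Subtype.ext
            apply Subtype.ext
            apply h5
            intro q hq
            exact (congrArg Subtype.val (mem_center_iff.1 hc ⟨q, hq⟩)).symm
        have e2 : (1 : H) ≠ a := fun h => haz ((hzm a).2 (Or.inl h.symm))
        have e3 : z ≠ a := fun h => haz ((hzm a).2 (Or.inr h.symm))
        rw [Finset.card_insert_of_notMem, Finset.card_insert_of_notMem, Finset.card_singleton]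
        · simpa using e3
        · simpa using ⟨e1, e2⟩
      have h4 : (({1, z, a} : Finset H) : Set H) ⊆ (A : Set H) := by
        intro x hx
        simp only [Finset.coe_insert, Finset.coe_singleton, Set.mem_insert_iff, Set.mem_singleton_iff] at hx
        rcases hx with rfl | rfl | rfl
        · exact one_mem _
        · exact ⟨hz, mem_centralizer_singleton_iff.2 (hzQ _).symm⟩
        · exact ⟨haQ, mem_centralizer_singleton_iff.2 rfl⟩
      have h5 := Set.ncard_le_ncard h4 (Set.toFinite _)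
      rw [Set.ncard_coe_finset, h3] at h5
      exact h5
    rw [hk] at h2 ⊢
    have hk2 : 2 ≤ k := by
      by_contra hcon
      have : 2 ^ k ≤ 2 ^ 1 := Nat.pow_le_pow_right (by norm_num) (by omega)
      omega
    calc 4 = 2 ^ 2 := by norm_num
      _ ≤ 2 ^ k := Nat.pow_le_pow_right (by norm_num) hk2
  -- the map
  have := Fintype.ofFinite H
  have := Fintype.ofFinite T
  let f : H → H × H := fun t => (t * a * t⁻¹, t * b * t⁻¹)
  let s : Finset H := Finset.univ.filter (fun t => t ∈ T)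
  let B : Finset H := Finset.univ.filter (fun q => q ∈ Q ∧ q ∉ A)
  have hB : B.card ≤ 4 := by
    have h1 : (Finset.univ.filter (fun q => q ∈ Q)).card = 8 := by
      rw [← h8, Nat.card_eq_fintype_card, Fintype.card_subtype]
    have h2 : (Finset.univ.filter (fun q => q ∈ A)).card = Nat.card A := by
      rw [Nat.card_eq_fintype_card, Fintype.card_subtype]
    have h3 : B = (Finset.univ.filter (fun q => q ∈ Q)) \ (Finset.univ.filter (fun q => q ∈ A)) := by
      ext q
      simp only [B, Finset.mem_filter, Finset.mem_univ, true_and, Finset.mem_sdiff]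
    rw [h3, Finset.card_sdiff_of_subset, h1, h2]
    · omega
    · intro q hq
      simp only [Finset.mem_filter, Finset.mem_univ, true_and] at hq ⊢
      exact hq.1
  have himg : s.image f ⊆ ({a, a * z} : Finset H) ×ˢ B := by
    intro p hp
    obtain ⟨t, ht, rfl⟩ := Finset.mem_image.1 hp
    simp only [s, Finset.mem_filter, Finset.mem_univ, true_and] at ht
    have h1 := (hzm _).1 (ha t ht)
    have h1' : t * a * t⁻¹ = a ∨ t * a * t⁻¹ = a * z := by
      rcases h1 with h1 | h1
      · left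
        rwa [inv_mul_eq_one, eq_comm] at h1
      · right
        rwa [inv_mul_eq_iff_eq_mul] at h1
    rw [Finset.mem_product]
    refine ⟨?_, ?_⟩
    · simpa using h1'
    · simp only [B, Finset.mem_filter, Finset.mem_univ, true_and]
      refine ⟨hn t ht b hbQ, fun h => hab ?_⟩
      have h2 : t * b * t⁻¹ * a = a * (t * b * t⁻¹) := mem_centralizer_singleton_iff.1 h.2
      have h3 : t * b * t⁻¹ * (t * a * t⁻¹) = t * a * t⁻¹ * (t * b * t⁻¹) := by
        rcases h1' with h4 | h4
        · rw [h4]; exact h2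
        · rw [h4, ← mul_assoc, h2, mul_assoc a, hzQ (t * b * t⁻¹), ← mul_assoc a]
      have h4 : t * (b * a) * t⁻¹ = t * (a * b) * t⁻¹ := by
        calc t * (b * a) * t⁻¹ = t * b * t⁻¹ * (t * a * t⁻¹) := by group
          _ = t * a * t⁻¹ * (t * b * t⁻¹) := h3
          _ = t * (a * b) * t⁻¹ := by group
      exact (mul_left_cancel (mul_right_cancel h4)).symm
  have hfib : ∀ p ∈ s.image f, (s.filter fun x => f x = p).card ≤ 2 := by
    intro p hp
    obtain ⟨t, ht, rfl⟩ := Finset.mem_image.1 hp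
    have h1 : (s.filter fun x => f x = f t) ⊆ ({t, t * z} : Finset H) := by
      intro x hx
      rw [Finset.mem_filter] at hx
      have h2 : x * a * x⁻¹ = t * a * t⁻¹ := congrArg Prod.fst hx.2
      have h3 : x * b * x⁻¹ = t * b * t⁻¹ := congrArg Prod.snd hx.2
      have key : ∀ c : H, x * c * x⁻¹ = t * c * t⁻¹ → t⁻¹ * x * c = c * (t⁻¹ * x) := by
        intro c hc
        calc t⁻¹ * x * c = t⁻¹ * (x * c * x⁻¹) * x := by group
          _ = t⁻¹ * (t * c * t⁻¹) * x := by rw [hc]
          _ = c * (t⁻¹ * x) := by group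
      rcases hcent (t⁻¹ * x) (hgen _ (key a h2) (key b h3)) with h4 | h4
      · rw [inv_mul_eq_one] at h4
        rw [h4]; simp
      · rw [inv_mul_eq_iff_eq_mul] at h4
        rw [h4]; simp
    exact (Finset.card_le_card h1).trans Finset.card_le_two
  have h1 := Finset.card_le_mul_card_image s 2 hfib
  have h2 := Finset.card_le_card himg
  rw [Finset.card_product] at h2
  have h3 : ({a, a * z} : Finset H).card ≤ 2 := Finset.card_le_two
  have h4 : s.card = Nat.card T := by
    rw [Nat.card_eq_fintype_card, Fintype.card_subtype]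
  rw [← h4]
  calc s.card ≤ 2 * (s.image f).card := h1
    _ ≤ 2 * (({a, a * z} : Finset H).card * B.card) := Nat.mul_le_mul_left _ h2
    _ ≤ 2 * (2 * 4) := Nat.mul_le_mul_left _ (Nat.mul_le_mul h3 hB)
    _ = 16 := by norm_num

end abstract_part

/-- A Sylow 2-subgroup `T` of `C_G(z)` whose centre is in `⟨z⟩` is a Sylow 2-subgroup of `G`. -/
theorem sylow_of_center {G : Type*} [Group G] [Finite G] {z : G} (hz : z ≠ 1) {T : Subgroup G}
    (hT : IsPGroup 2 T) (hTC : T ≤ centralizer ({z} : Set G)) (hzT : z ∈ T)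
    (hmax : ∀ P : Subgroup G, IsPGroup 2 P → T ≤ P → P ≤ centralizer ({z} : Set G) → P = T)
    (hcent : ∀ t ∈ T, (∀ q ∈ T, t * q = q * t) → t = 1 ∨ t = z) :
    ∃ S : Sylow 2 G, (S : Subgroup G) = T := by
  have : Fact (Nat.Prime 2) := ⟨Nat.prime_two⟩
  obtain ⟨S, hS⟩ := hT.exists_le_sylow
  refine ⟨S, ?_⟩
  by_contra hne
  have hlt : T < (S : Subgroup G) := lt_of_le_of_ne hS (fun h => hne h.symm)
  have hnil : Group.IsNilpotent (S : Subgroup G) := S.isPGroup'.isNilpotent
  have h1 : T.subgroupOf (S : Subgroup G) < ⊤ := by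
    rw [lt_top_iff_ne_top, Ne, subgroupOf_eq_top]
    exact fun h => absurd hlt (not_lt_of_ge h)
  have h2 := Group.normalizerCondition_of_isNilpotent (T.subgroupOf (S : Subgroup G)) h1
  obtain ⟨⟨x, hxS⟩, hx, hxT⟩ := SetLike.exists_of_lt h2
  have hxn : ∀ t, t ∈ T ↔ x * t * x⁻¹ ∈ T := by
    intro t
    constructor
    · intro ht
      have h3 := (mem_normalizer_iff.1 hx ⟨t, hS ht⟩).1 (by rw [mem_subgroupOf]; exact ht)
      rw [mem_subgroupOf] at h3
      exact h3
    · intro ht
      have h4 : t ∈ (S : Subgroup G) := by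
        have h5 : t = x⁻¹ * (x * t * x⁻¹) * x := by group
        rw [h5]
        exact (S : Subgroup G).mul_mem ((S : Subgroup G).mul_mem ((S : Subgroup G).inv_mem hxS) (hS ht)) hxS
      have h3 := (mem_normalizer_iff.1 hx ⟨t, h4⟩).2 (by rw [mem_subgroupOf]; exact ht)
      rw [mem_subgroupOf] at h3
      exact h3
  have hxz : x * z * x⁻¹ = z := by
    rcases hcent _ ((hxn z).1 hzT) (by
      intro q hq
      have h3 : x⁻¹ * q * x ∈ T := by
        rw [hxn]
        have : x * (x⁻¹ * q * x) * x⁻¹ = q := by group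
        rwa [this]
      have h4 : x⁻¹ * q * x * z = z * (x⁻¹ * q * x) := mem_centralizer_singleton_iff.1 (hTC h3)
      calc x * z * x⁻¹ * q = x * (z * (x⁻¹ * q * x)) * x⁻¹ := by group
        _ = x * (x⁻¹ * q * x * z) * x⁻¹ := by rw [h4]
        _ = q * (x * z * x⁻¹) := by group) with h3 | h3
    · exfalso
      apply hz
      rwa [mul_inv_eq_one, mul_eq_left] at h3
    · exact h3
  have hP : closure (insert x (T : Set G)) = T := by
    apply hmax
    · refine S.isPGroup'.to_le ?_
      rw [closure_le]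
      rintro y (rfl | hy)
      · exact hxS
      · exact hS hy
    · exact fun y hy => subset_closure (Or.inr hy)
    · rw [closure_le]
      rintro y (rfl | hy)
      · refine mem_centralizer_singleton_iff.2 ?_
        have h3 := hxz
        rw [mul_inv_eq_iff_eq_mul] at h3
        exact h3
      · exact hTC hy
  apply hxT
  rw [mem_subgroupOf]
  show x ∈ T
  rw [← hP]
  exact subset_closure (Or.inl rfl)

/-- **LeafOne.** -/
theorem leafOne : LeafOne.{u} := by
  intro G _ _ hG z h
  have hsimp := hG.simple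
  have : Fact (Nat.Prime 2) := ⟨Nat.prime_two⟩
  let C : Subgroup G := centralizer ({z} : Set G)
  have hzC : z ∈ C := mem_centralizer_singleton_iff.2 rfl
  let z' : C := ⟨z, hzC⟩
  have hz1 : z ≠ 1 := fun h0 => by
    have := h.ord
    rw [h0, orderOf_one] at this
    omega
  have hzz : z * z = 1 := by
    have := pow_orderOf_eq_one z
    rwa [h.ord, pow_two] at this
  have hz'c : ∀ t : C, t * z' = z' * t := by
    intro t
    exact Subtype.ext (mem_centralizer_singleton_iff.1 t.2)
  let Q : Subgroup C := pCore 2 C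
  have hC2 : centralizer (Q : Set C) ≤ Q := char2_centralizer hG.char2 h.ord
  have hz'Q : z' ∈ Q := hC2 (by
    rw [mem_centralizer_iff]
    intro q _
    exact hz'c q)
  have hQn : Q.Normal := Cfsg.pCore_normal 2 C
  have h8 : Nat.card Q = 8 := by
    have := h.card
    norm_num at this
    exact this
  have hcQ : ∀ t : C, (∀ q ∈ Q, t * q = q * t) → t = 1 ∨ t = z' := by
    intro t ht
    have htQ : t ∈ Q := hC2 (by
      rw [mem_centralizer_iff]
      intro q hq
      exact (ht q hq).symm)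
    have h2 : Nat.card (center Q) = 2 := h.ext.2
    have hc1 : (⟨z', hz'Q⟩ : Q) ∈ center Q := by
      rw [mem_center_iff]
      intro q
      exact Subtype.ext (hz'c q)
    have hc2 : (⟨t, htQ⟩ : Q) ∈ center Q := by
      rw [mem_center_iff]
      intro q
      exact Subtype.ext (ht q q.2).symm
    have h3 : (⟨⟨z', hz'Q⟩, hc1⟩ : center Q) ≠ 1 := by
      intro h4
      apply hz1
      exact congrArg (fun x : center Q => ((x : Q) : C).1) h4
    have h4 : ∀ x : center Q, x = 1 ∨ x = ⟨⟨z', hz'Q⟩, hc1⟩ := by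
      intro x
      by_contra hcon
      push Not at hcon
      have hfin := Fintype.ofFinite (center Q)
      classical
      have h5 : ({1, ⟨⟨z', hz'Q⟩, hc1⟩, x} : Finset (center Q)).card = 3 := by
        rw [Finset.card_insert_of_notMem, Finset.card_insert_of_notMem, Finset.card_singleton]
        · simpa using hcon.2.symm
        · simp only [Finset.mem_insert, Finset.mem_singleton, not_or]
          exact ⟨h3.symm, hcon.1.symm⟩
      have h6 := Finset.card_le_univ ({1, ⟨⟨z', hz'Q⟩, hc1⟩, x} : Finset (center Q))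
      rw [h5, ← Nat.card_eq_fintype_card, h2] at h6
      omega
    rcases h4 ⟨⟨t, htQ⟩, hc2⟩ with h5 | h5
    · left
      exact congrArg (fun x : center Q => ((x : Q) : C)) h5
    · right
      exact congrArg (fun x : center Q => ((x : Q) : C)) h5
  have hna : ∃ a ∈ Q, ∃ b ∈ Q, a * b ≠ b * a := by
    by_contra hcon
    push Not at hcon
    have h2 : Nat.card (center Q) = 2 := h.ext.2
    have h3 : center Q = ⊤ := by
      rw [eq_top_iff]
      intro x _
      rw [mem_center_iff]
      intro y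
      exact Subtype.ext (hcon y y.2 x x.2)
    rw [h3, Subgroup.card_top, h8] at h2
    omega
  obtain ⟨T⟩ : Nonempty (Sylow 2 C) := inferInstance
  have hQT : Q ≤ (T : Subgroup C) := by
    exact Cfsg.Agent.Lib.Cores.pCore_le_sylow T
  have h16 : Nat.card (T : Subgroup C) ≤ 16 :=
    card_le_sixteen h8 hz'Q (Subtype.ext hzz) hz'c hna T.isPGroup' hQT
      (fun t _ q hq => hQn.conj_mem q hq t) hcQ
  obtain ⟨S, hS⟩ := sylow_of_center (T := (T : Subgroup C).map C.subtype) hz1
    (T.isPGroup'.map _) (map_subtype_le _) ⟨z', hQT hz'Q, rfl⟩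
    (by
      intro P hP hTP hPC
      have h1 : (T : Subgroup C) ≤ P.subgroupOf C := by
        intro x hx
        rw [mem_subgroupOf]
        exact hTP ⟨x, hx, rfl⟩
      have h2 := T.3 (IsPGroup.comap_subtype hP (K := C)) h1
      have h3 : (P.subgroupOf C).map C.subtype = P ⊓ C := subgroupOf_map_subtype P C
      rw [inf_eq_left.2 hPC] at h3
      rw [← h3]
      exact congrArg (fun X : Subgroup C => X.map C.subtype) h2)
    (by
      rintro _ ⟨t, ht, rfl⟩ hc
      rcases hcQ t (by
        intro q hq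
        exact Subtype.ext (hc q ⟨q, hQT hq, rfl⟩)) with h1 | h1
      · left; rw [h1]; rfl
      · right; rw [h1]; rfl)
  have h32 := dvd_card hG.rank
  have h1 : Nat.card (S : Subgroup G) ≤ 16 := by
    rw [hS, Nat.card_congr ((T : Subgroup C).equivMapOfInjective C.subtype C.subtype_injective).symm.toEquiv]
    exact h16
  have h2 : (2 : ℕ) ^ 5 ∣ Nat.card (S : Subgroup G) := S.pow_dvd_card_of_pow_dvd_card (by norm_num; exact h32)
  have h3 := Nat.le_of_dvd Nat.card_pos h2
  norm_num at h3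
  omega

end Cfsg.Agent.Omega.LeafOne

end
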