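import Cfsg.Agent.Mrg.Omega.FrameI
import Cfsg.Agent.Mrg.Omega.ExitsThree
import Cfsg.Agent.Mrg.Omega.Assembly
import Cfsg.Agent.Mrg.Omega.Node.LeafB
import Cfsg.Agent.Mrg.Omega.ML.MinIrr
import Cfsg.Agent.WeakTI.FlatBorel
import Cfsg.Agent.Mrg.Omega.ML.Ex.Two
import Cfsg.Agent.Mrg.Omega.ML.Ex.Known
import Cfsg.Agent.Mrg.Omega.ML.Ex.RowTitsX
import Cfsg.Agent.Mrg.Omega.KL.Def


/-!
# OMEGA: landed inputs of the classification with a large import closure

They enter `OpenTree` as Props; `LandedAll.landed` proves them.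
-/

set_option autoImplicit false

namespace Cfsg.Agent.Omega.Landed

open Cfsg Cfsg.Agent.Omega

universe u

/-- Landed theorems (Props, because their closures are large). -/
structure Landed : Prop where
  /-- S0480, S1143, S1144, S1670, S1671, S1675, S1740, S1759, S1761, S1762, S1763, S1770, Bender -/
  lib : Outputs.Lib.{u}
  s1758 : FrameExtra.St1758.{u}
  /-- Bender's theorem for all finite groups -/
  benderAll : RootLemma.Bender.{u}
  /-- the TI theorem (S1175) -/
  ti : Node.LeafB.TIMain.{u}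
  /-- S0500 -/
  k4 : RankFourOf.PK4.{u}
  s1738 : ∀ (G : Type u) [Group G] [Finite G], Cfsg.Agent.GH.AltOut.St1738 G
  /-- (ML) for K-groups -/
  mlk : ML.Final.MLK.{u, u}
  /-- S1175, the criterion for strongly embedded subgroups -/
  crit : Cfsg.Agent.WeakTI.FlatBorel.CritAll.{u}
  /-- the rows of the exact K-list -/
  rows : ML.Ex.RowsX.{u, u}
  /-- the common exact end -/
  ext : ML.Ex.Two.Ext.{u, u}
  /-- the exact ends with the W-part -/
  ep : ML.Ex.EndPieces.{u, u, u}
  /-- THEOREM KL -/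
  noInp : KL.Quo.NoInp.{u, u}

end Cfsg.Agent.Omega.Landed
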