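import Cfsg.Agent.Mrg.Omega.OpenTree
import Cfsg.Agent.Mrg.Omega.LandedAll
import Cfsg.Agent.Mrg.Omega.Node.NO3SDone
import Cfsg.Agent.OddHalf.S1765Plug


/-!
# OMEGA: the classification from the leaf NO-3L

The odd half (S1765), `LandedAll.landed` and the leaf NO-3S (`Node/NO3SDone.lean`) are plugged.
-/

set_option autoImplicit false

namespace Cfsg.Agent.Omega.OpenAll

open Cfsg Cfsg.Agent.Omega.Frame

universe u

/-- **S1765.** -/
theorem odd : Assembly.OddLit.{u} := fun _ _ _ _ h1 h2 h3 => Cfsg.Agent.OddHalf.S1765Plug.result h1 h2 h3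

/-- **The inputs of the even half**, from the open sockets of the leaf NO-3L. -/
theorem openAll_of (I : Node.NO3LOpen.OpenR All.{u}) : OpenTree.Open All.{u} :=
  ⟨NO3S.openL LandedAll.landed All, I⟩

/-- **Literal S0000** from the open sockets of the leaf NO-3L. -/
theorem classification_of (I : Node.NO3LOpen.OpenR All.{u}) (G : Type u) [Group G] [Finite G] [IsSimpleGroup G] :
    IsKnownSimple' G :=
  OpenTree.classification LandedAll.landed (openAll_of I) odd G

end Cfsg.Agent.Omega.OpenAll
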